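import Cfsg.Agent.BC85.Pairs.Conj
import Cfsg.Agent.Lib.BlocksDefect.Normal

/-!
# Maximal Brauer pairs and the block of the normalizer
-/

set_option linter.unusedSectionVars false

namespace Cfsg.Agent.BC85

open BlocksCore BlocksDefect
open scoped Classical

universe u

variable {G : Type u} [Group G] [Fintype G] {p : ℕ} [Fact p.Prime] {M : Ideal AlgInt}

local notation "C[" Q "]" => Subgroup.centralizer (Q : Set G)

theorem exists_unit_of_subset_cset (hM : IsPModular p M) {P : Subgroup G} {β : G → ℂ}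
    (hβ : IsBrFun M P β) {e : Set (IrrCharacter C[P])} (he : e.Nonempty)
    (h : e ⊆ cset M P β) : ∃ c ∈ C[P], ¬ MemLocalIdeal M (β c) := by
  have := isPrime hM
  obtain ⟨ξ, hξ⟩ := he
  by_contra hno
  push Not at hno
  exact h hξ (omega_memLocalIdeal ξ (isIntClassFun_pullFun (isCentHom_subtype P) hβ).1
    fun c => hno _ c.2)

theorem exists_block_subset_cset (hM : IsPModular p M) {P : Subgroup G} (hP : IsPGroup p P)
    {β : G → ℂ} (hβ : IsBrFun M P β) (hid : ∀ g, MemLocalIdeal M (conv β β g - β g)) {c : G}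
    (hc : c ∈ C[P]) (hu : ¬ MemLocalIdeal M (β c)) :
    ∃ e : Set (IrrCharacter C[P]), IsPBlock M e ∧ e ⊆ cset M P β := by
  have := isPrime hM
  have hι := isCentHom_subtype P
  obtain ⟨ξ, hξ⟩ := unitSet_nonempty hM (isIntClassFun_pullFun hι hβ)
    (pull_idem hM hP hι hβ hid) (g := ⟨c, hc⟩) hu
  exact ⟨_, isPBlock_blockOf ξ, (isBlockUnion_cset hM hβ) ξ hξ⟩

theorem pairOf_subConj_defect (hM : IsPModular p M) {B : Set (IrrCharacter G)} {D R : Subgroup G}
    (hD : IsDefectGroup p M B D) {g : Set (IrrCharacter C[R])}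
    (h : IsBrauerPairOf p M B R g) : SubConj R D := by
  have := isPrime hM
  obtain ⟨hg, hB, hsub⟩ := (isBrauerPairOf_iff hM).mp h
  exact (exists_coeff_mem_centralizer_iff hM hB hD hg.1).mp
    (exists_unit_of_subset_cset hM (isBrFun_blockCoeff hM R hB) (isPBlock_nonempty hg.2) hsub)

theorem exists_pairOf_of_subConj (hM : IsPModular p M) {B : Set (IrrCharacter G)}
    {D R : Subgroup G} (hB : IsPBlock M B) (hD : IsDefectGroup p M B D) (hR : IsPGroup p R)
    (h : SubConj R D) : ∃ g : Set (IrrCharacter C[R]), IsBrauerPairOf p M B R g := by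
  have := isPrime hM
  obtain ⟨c, hc, hu⟩ := (exists_coeff_mem_centralizer_iff hM hB hD hR).mpr h
  obtain ⟨g, hg, hsub⟩ := exists_block_subset_cset hM hR (isBrFun_blockCoeff hM R hB)
    (blockCoeff_idem_mod B) hc hu
  exact ⟨g, (isBrauerPairOf_iff hM).mpr ⟨⟨hR, hg⟩, hB, hsub⟩⟩

theorem exists_maximal_above_aux (hM : IsPModular p M) {B : Set (IrrCharacter G)} :
    ∀ n : ℕ, ∀ a : BrauerPairIdx G, Nat.card G ≤ Nat.card a.1 + n →
      IsBrauerPairOf p M B a.1 a.2 → ∃ b : BrauerPairIdx G,
        IsMaximalBrauerPair p M B b.1 b.2 ∧ SubpairLE p M a.1 a.2 b.1 b.2 := by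
  intro n
  induction n with
  | zero =>
    intro a hn ha
    refine ⟨a, ⟨ha, fun R g _ hle => ?_⟩, Relation.ReflTransGen.refl⟩
    exact (Subgroup.eq_of_le_of_card_ge (subpairLE_le hle)
      ((Subgroup.card_le_card_group R).trans (by simpa using hn))).symm
  | succ n ih =>
    intro a hn ha
    by_cases hmax : IsMaximalBrauerPair p M B a.1 a.2
    · exact ⟨a, hmax, Relation.ReflTransGen.refl⟩
    · rw [IsMaximalBrauerPair, and_iff_right ha] at hmax
      push Not at hmax
      obtain ⟨R, g, hg, hle, hne⟩ := hmax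
      have hlt : a.1 < R := lt_of_le_of_ne (subpairLE_le hle) (Ne.symm hne)
      have hcard : Nat.card a.1 < Nat.card R :=
        lt_of_not_ge fun hge => hlt.ne (Subgroup.eq_of_le_of_card_ge hlt.le hge)
      obtain ⟨b, hb, hle'⟩ := ih ⟨R, g⟩ (show Nat.card G ≤ Nat.card R + n by omega) hg
      exact ⟨b, hb, Relation.ReflTransGen.trans hle hle'⟩

/-- Every pair of a block lies below a maximal one. -/
theorem exists_maximal_above (hM : IsPModular p M) {B : Set (IrrCharacter G)} {Q : Subgroup G}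
    {f : Set (IrrCharacter C[Q])} (h : IsBrauerPairOf p M B Q f) :
    ∃ b : BrauerPairIdx G, IsMaximalBrauerPair p M B b.1 b.2 ∧ SubpairLE p M Q f b.1 b.2 :=
  exists_maximal_above_aux hM (Nat.card G) ⟨Q, f⟩ (Nat.le_add_left _ _) h

theorem isMaximal_of_defect (hM : IsPModular p M) {B : Set (IrrCharacter G)} {P : Subgroup G}
    {e : Set (IrrCharacter C[P])} (hD : IsDefectGroup p M B P)
    (h : IsBrauerPairOf p M B P e) : IsMaximalBrauerPair p M B P e :=
  ⟨h, fun _ _ hg hle => (Subgroup.eq_of_le_of_card_ge (subpairLE_le hle)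
    (Nat.le_of_dvd Nat.card_pos (SubConj.card_dvd (pairOf_subConj_defect hM hD hg)))).symm⟩

section Subgroup

variable {H P : Subgroup G}

theorem conv_subgroupBlockCoeff (H : Subgroup G) (A B : Set (IrrCharacter H)) :
    conv (subgroupBlockCoeff H A) (subgroupBlockCoeff H B) = subgroupBlockCoeff H (A ∩ B) := by
  have hres : ∀ S : Set (IrrCharacter H), res H (subgroupBlockCoeff H S) = blockCoeff S :=
    fun S => funext fun h => subgroupBlockCoeff_coe H S h
  funext g
  by_cases hg : g ∈ H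
  · refine Eq.trans (congrFun (res_conv (N := H) (a := subgroupBlockCoeff H A)
      (b := subgroupBlockCoeff H B) fun x hx => subgroupBlockCoeff_of_notMem H A hx) ⟨g, hg⟩) ?_
    rw [hres, hres, conv_blockCoeff, subgroupBlockCoeff_of_mem H _ hg]
  · rw [subgroupBlockCoeff_of_notMem H _ hg]
    exact conv_supported (fun x hx => subgroupBlockCoeff_of_notMem H A hx)
      (fun x hx => subgroupBlockCoeff_of_notMem H B hx) g hg

theorem isBrFun_subgroupBlockCoeff (hM : IsPModular p M) {R : Subgroup G}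
    {E : Set (IrrCharacter H)} (hE : IsBlockUnion M E) (hRH : R ≤ H) (hCH : C[R] ≤ H) :
    IsBrFun M R (subgroupBlockCoeff H E) :=
  ⟨subgroupBlockCoeff_memLocalRing hM hE,
    fun _ hu => subgroupBlockCoeff_conj_of_mem E (hRH hu),
    fun _ hu => subgroupBlockCoeff_conj_of_mem E (hCH hu)⟩

theorem conv_sub_idem_mod [M.IsPrime] (E : Set (IrrCharacter H)) (g : G) :
    MemLocalIdeal M (conv (subgroupBlockCoeff H E) (subgroupBlockCoeff H E) g -
      subgroupBlockCoeff H E g) := by
  rw [conv_subgroupBlockCoeff, Set.inter_self, sub_self]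
  exact memLocalIdeal_zero

theorem pullFun_inclusion_blockCoeff (hCH : C[P] ≤ H) (E : Set (IrrCharacter H)) :
    pullFun (Subgroup.inclusion hCH) (blockCoeff E) =
      pullFun (C[P]).subtype (subgroupBlockCoeff H E) :=
  funext fun c => (subgroupBlockCoeff_coe H E (Subgroup.inclusion hCH c)).symm

theorem cset_subgroupBlockCoeff (hCH : C[P] ≤ H) (E : Set (IrrCharacter H)) :
    cset M P (subgroupBlockCoeff H E) = brSet M (Subgroup.inclusion hCH) (blockCoeff E) := by
  rw [cset, brSet, brSet, pullFun_inclusion_blockCoeff]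

/-- A subgroup containing `C(P)` and `P` has exactly one block above a block of `C(P)`. -/
theorem exists_block_over (hM : IsPModular p M) (hP : IsPGroup p P) (hPH : P ≤ H)
    (hCH : C[P] ≤ H) {e : Set (IrrCharacter C[P])} (he : IsPBlock M e) :
    ∃ E : Set (IrrCharacter H), IsPBlock M E ∧ e ⊆ cset M P (subgroupBlockCoeff H E) := by
  have := isPrime hM
  obtain ⟨ξ, hξ⟩ := isPBlock_nonempty he
  obtain ⟨E, hE, hmem⟩ := exists_block_mem_brSet hM (isPGroup_subgroupOf hP H)
    (isCentHom_inclusion hPH hCH) ξ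
  refine ⟨E, hE, ?_⟩
  rw [subset_cset_iff_mem hM
    (isBrFun_subgroupBlockCoeff hM (isBlockUnion_isPBlock hE) hPH hCH) he hξ,
    cset_subgroupBlockCoeff hCH]
  exact hmem

/-- A block of `H` above a pair of `B` induces `B`. -/
theorem isInducedBlock_of_over (hM : IsPModular p M) (hPH : P ≤ H) (hCH : C[P] ≤ H)
    {B : Set (IrrCharacter G)} {e : Set (IrrCharacter C[P])} (h : IsBrauerPairOf p M B P e)
    {E : Set (IrrCharacter H)} (hE : IsPBlock M E)
    (hsub : e ⊆ cset M P (subgroupBlockCoeff H E)) : IsInducedBlock M H E B := by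
  have := isPrime hM
  refine ⟨hE, h.2.1, fun θ hθ χ hχ g => ?_⟩
  obtain ⟨ξ, hξ⟩ := isPBlock_nonempty h.1.2
  have hξ' := hsub hξ
  rw [cset_subgroupBlockCoeff hCH] at hξ'
  have hcl := isIntClassFun_classInd (M := M) g
  have h1 := brSet_rel hM (isPGroup_subgroupOf h.1.1 H) (isCentHom_inclusion hPH hCH) hE hξ' hθ
    (isIntClassFun_res H hcl)
  have h2 := pairOf_rel hM h hξ hχ hcl
  have e0 : pullFun (Subgroup.inclusion hCH) (res H (classInd g)) =
      pullFun (C[P]).subtype (classInd g) := rfl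
  rw [e0] at h1
  have h3 := memLocalIdeal_sub h2 h1
  rw [sub_sub_sub_cancel_left, omega_res_classInd, omega_classInd (irr_class χ)] at h3
  exact h3

theorem subgroupBlockCoeff_eq_zero_of_notMem (hM : IsPModular p M) (hP : IsPGroup p P)
    (hPH : P ≤ H) (hHN : H ≤ Subgroup.normalizer (P : Set G)) {E : Set (IrrCharacter H)}
    (hE : IsPBlock M E) {g : G} (hg : g ∉ C[P]) : subgroupBlockCoeff H E g = 0 := by
  by_cases hgH : g ∈ H
  · rw [subgroupBlockCoeff_of_mem H E hgH]
    haveI : (P.subgroupOf H).Normal := Subgroup.normal_subgroupOf_of_le_normalizer hHN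
    exact blockCoeff_eq_zero_of_notMem_centralizer hM _ (isPGroup_subgroupOf hP H) hE
      fun h => hg ((mem_centralizer_subgroupOf hPH _).mp h)
  · exact subgroupBlockCoeff_of_notMem H E hgH

theorem cset_over_conj_invariant (hM : IsPModular p M) (hPH : P ≤ H) (hCH : C[P] ≤ H)
    (hHN : H ≤ Subgroup.normalizer (P : Set G)) {E : Set (IrrCharacter H)} (hE : IsPBlock M E)
    {x : G} (hx : x ∈ H) (g : G) :
    bp ⟨P, cset M P (subgroupBlockCoeff H E)⟩ (x⁻¹ * g * x) =
      bp ⟨P, cset M P (subgroupBlockCoeff H E)⟩ g := by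
  have := isPrime hM
  haveI : (P.subgroupOf H).Normal := Subgroup.normal_subgroupOf_of_le_normalizer hHN
  have hmem := mem_normalizer_conj_iff (normalizer_le_normalizer_centralizer P (hHN hx))
  by_cases hg : g ∈ C[P]
  · have key := brSet_conj_invariant (M := M) (isCentHom_inclusion hPH hCH)
      (isIntClassFun_blockCoeff hM hE).1 (x := ⟨x, hx⟩) (σ := conjIso C[P] C[P] x hmem)
      (fun c => Subtype.ext rfl) ⟨g, hg⟩
    rw [← cset_subgroupBlockCoeff hCH] at key
    refine Eq.trans ?_ (key.trans ?_)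
    · exact bp_apply_coe P _ (conjIso C[P] C[P] x hmem ⟨g, hg⟩)
    · exact (bp_apply_coe P _ ⟨g, hg⟩).symm
  · rw [bp_of_notMem P _ hg, bp_of_notMem P _ fun h => hg ((hmem g).mpr h)]

/-- The blocks of `C(P)` below one block of `H` form one orbit. -/
theorem exists_conj_of_over (hM : IsPModular p M) (hP : IsPGroup p P) (hPH : P ≤ H)
    (hCH : C[P] ≤ H) (hHN : H ≤ Subgroup.normalizer (P : Set G)) {E : Set (IrrCharacter H)}
    (hE : IsPBlock M E) {e e' : Set (IrrCharacter C[P])} (he : IsPBlock M e)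
    (he' : IsPBlock M e') (hsub : e ⊆ cset M P (subgroupBlockCoeff H E))
    (hsub' : e' ⊆ cset M P (subgroupBlockCoeff H E)) :
    ∃ x ∈ H, conjPair x (⟨P, e⟩ : BrauerPairIdx G) = ⟨P, e'⟩ := by
  have := isPrime hM
  haveI : (P.subgroupOf H).Normal := Subgroup.normal_subgroupOf_of_le_normalizer hHN
  set A := cset M P (subgroupBlockCoeff H E) with hA
  have hmem : ∀ y : H, ∀ z, z ∈ C[P] ↔ (y : G)⁻¹ * z * (y : G) ∈ C[P] := fun y =>
    mem_normalizer_conj_iff (normalizer_le_normalizer_centralizer P (hHN y.2))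
  set S : Set (IrrCharacter C[P]) := {η | ∃ y : H, η ∈ conjSet (hmem y) e} with hS
  have hSA : S ⊆ A := by
    rintro η ⟨y, ψ, hψ, rfl⟩
    have hfix : conjSet (hmem y) A = A := subgroupBlockCoeff_injective (funext fun g => by
      rw [subgroupBlockCoeff_conjSet]
      exact cset_over_conj_invariant hM hPH hCH hHN hE y.2 g)
    rw [← hfix]
    exact ⟨ψ, hsub hψ, rfl⟩
  have hSu : IsBlockUnion M S := by
    rintro η ⟨y, hy⟩ θ hθ
    refine ⟨y, ?_⟩
    rw [← isPBlock_eq_blockOf (isPBlock_conjSet (hmem y) he) hy] at hθ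
    exact hθ
  have hSne : S.Nonempty := by
    obtain ⟨ξ, hξ⟩ := isPBlock_nonempty he
    exact ⟨_, 1, ξ, hξ, rfl⟩
  have hι := isCentHom_inclusion hPH hCH
  have hEq : S = brSet M (Subgroup.inclusion hCH) (blockCoeff E) := by
    refine eq_brSet_of_invariant hM (isPGroup_subgroupOf hP H) hι hE hSu
      (cset_subgroupBlockCoeff (M := M) hCH E ▸ hSA) hSne fun x σ hσ c => ?_
    have himg : pullIrr σ '' S = S := by
      refine Set.eq_of_subset_of_ncard_le ?_ ?_ (Set.toFinite _)
      · rintro _ ⟨η, ⟨y, ψ, hψ, rfl⟩, rfl⟩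
        refine ⟨x * y, ψ, hψ, Subtype.ext (funext fun d => ?_)⟩
        simp only [pullIrr_apply]
        refine congrArg (ψ : C[P] → ℂ) (Subtype.ext ?_)
        have hd : ((σ d : C[P]) : G) = (x : G)⁻¹ * (d : G) * (x : G) := congrArg Subtype.val (hσ d)
        show ((x * y : H) : G)⁻¹ * (d : G) * ((x * y : H) : G) =
          (y : G)⁻¹ * ((σ d : C[P]) : G) * (y : G)
        rw [hd, Subgroup.coe_mul]; group
      · rw [Set.ncard_image_of_injective _ fun a b hab => ?_]
        refine Subtype.ext (funext fun k => ?_)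
        obtain ⟨k', rfl⟩ := σ.surjective k
        exact congrFun (congrArg Subtype.val hab) k'
    have := congrFun (blockCoeff_image_pullIrr σ S) c
    rw [himg] at this
    exact this.symm
  obtain ⟨ξ', hξ'⟩ := isPBlock_nonempty he'
  have hmem' : ξ' ∈ S := by
    rw [hEq, ← cset_subgroupBlockCoeff hCH]
    exact hsub' hξ'
  obtain ⟨y, hy⟩ := hmem'
  refine ⟨y, y.2, pair_ext (map_conj_of_mem_normalizer (hHN y.2)) (funext fun g => ?_)⟩
  rw [bp_conjPair, ← isPBlock_eq_of_mem (isPBlock_conjSet (hmem y) he) he' hy hξ']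
  exact (subgroupBlockCoeff_conjSet (hmem y) e g).symm

end Subgroup

/-- The block of the normalizer above a maximal pair has defect group `P`. -/
theorem over_maximal_defect (hM : IsPModular p M) {B : Set (IrrCharacter G)} {P : Subgroup G}
    {e : Set (IrrCharacter C[P])} (hmax : IsMaximalBrauerPair p M B P e)
    {E : Set (IrrCharacter (Subgroup.normalizer (P : Set G)))} (hE : IsPBlock M E)
    (hsub : e ⊆ cset M P (subgroupBlockCoeff (Subgroup.normalizer (P : Set G)) E)) :
    IsDefectGroup p M E (P.subgroupOf (Subgroup.normalizer (P : Set G))) := by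
  have := isPrime hM
  have hP : IsPGroup p P := hmax.1.1.1
  have he : IsPBlock M e := hmax.1.1.2
  have hPH : P ≤ (Subgroup.normalizer (P : Set G)) := Subgroup.le_normalizer
  have hCH : C[P] ≤ (Subgroup.normalizer (P : Set G)) := BlocksCore.centralizer_le_normalizer' P
  haveI : (P.subgroupOf (Subgroup.normalizer (P : Set G))).Normal := Subgroup.normal_in_normalizer
  obtain ⟨R, hR⟩ := exists_isDefectGroup hM hE
  have hPR : P.subgroupOf (Subgroup.normalizer (P : Set G)) ≤ R :=
    BlocksDefect.le_defectGroup _ hM (isPGroup_subgroupOf hP (Subgroup.normalizer (P : Set G))) hE hR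
  set R' := R.map (Subgroup.normalizer (P : Set G)).subtype with hR'
  have hR'H : R' ≤ (Subgroup.normalizer (P : Set G)) := Subgroup.map_subtype_le R
  have hPR' : P ≤ R' := fun u hu => ⟨⟨u, hPH hu⟩, hPR (show u ∈ P from hu), rfl⟩
  by_contra hne
  have hne' : P ≠ R' := fun h => hne (by
    have hRP : R = P.subgroupOf (Subgroup.normalizer (P : Set G)) := le_antisymm
      (fun r hr => by
        show (r : G) ∈ P
        exact h.ge ⟨r, hr, rfl⟩) hPR
    exact hRP ▸ hR)
  obtain ⟨g, hg, hS⟩ := isDefectGroup_iff.mp hR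
  have hgR' : (g : G) ∈ C[R'] := Subgroup.mem_centralizer_iff.mpr (by
    rintro _ ⟨r, hr, rfl⟩
    exact congrArg Subtype.val (Subgroup.mem_centralizer_iff.mp hS.mem_centralizer r hr))
  have hu : ¬ MemLocalIdeal M (subgroupBlockCoeff (Subgroup.normalizer (P : Set G)) E (g : G)) := by
    rw [subgroupBlockCoeff_coe]; exact hg.2.1
  have hR'p : IsPGroup p R' := hS.isPGroup.map _
  have hbrP := isBrFun_subgroupBlockCoeff hM (isBlockUnion_isPBlock hE) hPH hCH
  have hbrR := isBrFun_subgroupBlockCoeff hM (isBlockUnion_isPBlock hE) hR'H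
    ((centralizer_anti hPR').trans hCH)
  obtain ⟨k, hk, hksub⟩ := exists_block_subset_cset hM hR'p hbrR (conv_sub_idem_mod E) hgR' hu
  obtain ⟨f, hf⟩ := exists_normalSubpair hM (e := k) ⟨hR'p, hk⟩ hPR' hR'H
  have hfsub := (subset_cset_iff_of_normalSubpair hM hf hbrP hbrR (conv_sub_idem_mod E)).mp hksub
  obtain ⟨x, -, hx⟩ := exists_conj_of_over hM hP hPH hCH le_rfl hE hf.1.2 he hfsub hsub
  have hstep := normalSubpair_conj hM (a := ⟨P, f⟩) (b := ⟨R', k⟩) hf x
  rw [hx] at hstep
  have hpair := (normalSubpair_pairOf_iff hM hstep B).mpr hmax.1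
  have heq := hmax.2 _ _ hpair (Relation.ReflTransGen.single hstep)
  refine hne' (Subgroup.eq_of_le_of_card_ge hPR' ?_)
  rw [← natCard_map_conj R' x]
  exact le_of_eq (congrArg (fun S : Subgroup G => Nat.card S) heq)

/-- The subgroup of a maximal pair is a defect group. -/
theorem isDefectGroup_of_maximal (hM : IsPModular p M) {B : Set (IrrCharacter G)}
    {P : Subgroup G} {e : Set (IrrCharacter C[P])} (hmax : IsMaximalBrauerPair p M B P e) :
    IsDefectGroup p M B P := by
  have := isPrime hM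
  have hP : IsPGroup p P := hmax.1.1.1
  obtain ⟨E, hE, hsub⟩ := exists_block_over hM hP
    (H := Subgroup.normalizer (P : Set G)) Subgroup.le_normalizer
    (BlocksCore.centralizer_le_normalizer' P) hmax.1.1.2
  obtain ⟨B', hB', hD', hind'⟩ :=
    exists_induced_defectGroup hM hP hE (over_maximal_defect hM hmax hE hsub)
  have hind := isInducedBlock_of_over hM Subgroup.le_normalizer
    (BlocksCore.centralizer_le_normalizer' P) hmax.1 hE hsub
  obtain ⟨χ, hχ⟩ := isPBlock_nonempty hB'
  obtain ⟨ψ, hψ⟩ := isPBlock_nonempty hind.2.1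
  obtain ⟨θ, hθ⟩ := isPBlock_nonempty hE
  have hsame : SameBlock M (ψ : G → ℂ) (χ : G → ℂ) := fun g => by
    have h := memLocalIdeal_sub (hind'.2.2 θ hθ χ hχ g) (hind.2.2 θ hθ ψ hψ g)
    rwa [sub_sub_sub_cancel_left] at h
  rwa [isPBlock_eq_of_mem hind.2.1 hB' (χ := χ)
    (by rw [isPBlock_eq_blockOf hind.2.1 hψ]; exact hsame) hχ]

/-- Maximal pairs on the same subgroup are conjugate under its normalizer. -/
theorem exists_conj_of_maximal (hM : IsPModular p M) {B : Set (IrrCharacter G)} {P : Subgroup G}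
    {e e' : Set (IrrCharacter C[P])} (h : IsMaximalBrauerPair p M B P e)
    (h' : IsMaximalBrauerPair p M B P e') :
    ∃ x ∈ Subgroup.normalizer (P : Set G),
      conjPair x (⟨P, e⟩ : BrauerPairIdx G) = ⟨P, e'⟩ := by
  have := isPrime hM
  have hP : IsPGroup p P := h.1.1.1
  have hCH := BlocksCore.centralizer_le_normalizer' P
  obtain ⟨E, hE, hsub⟩ := exists_block_over hM hP (H := Subgroup.normalizer (P : Set G))
    Subgroup.le_normalizer hCH h.1.1.2
  obtain ⟨E', hE', hsub'⟩ := exists_block_over hM hP (H := Subgroup.normalizer (P : Set G))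
    Subgroup.le_normalizer hCH h'.1.1.2
  obtain rfl : E' = E := inducing_normalizer_unique hM hP (over_maximal_defect hM h' hE' hsub')
    (over_maximal_defect hM h hE hsub)
    (isInducedBlock_of_over hM Subgroup.le_normalizer hCH h'.1 hE' hsub')
    (isInducedBlock_of_over hM Subgroup.le_normalizer hCH h.1 hE hsub)
  exact exists_conj_of_over hM hP Subgroup.le_normalizer hCH le_rfl hE h.1.1.2 h'.1.1.2 hsub hsub'

/-- All maximal pairs are conjugate; every pair is below a conjugate of a given maximal one. -/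
theorem exists_conj_below (hM : IsPModular p M) {B : Set (IrrCharacter G)} {P Q : Subgroup G}
    {e : Set (IrrCharacter C[P])} {f : Set (IrrCharacter C[Q])}
    (hmax : IsMaximalBrauerPair p M B P e) (hQf : IsBrauerPairOf p M B Q f) :
    ∃ x : G, Relation.ReflTransGen (NormalSubpairRel p M) (conjPair x ⟨Q, f⟩) ⟨P, e⟩ := by
  have := isPrime hM
  obtain ⟨b, hb, hle⟩ := exists_maximal_above hM hQf
  obtain ⟨x, hx⟩ := isConj_defectGroup hM hQf.2.1 (isDefectGroup_of_maximal hM hb)
    (isDefectGroup_of_maximal hM hmax)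
  obtain ⟨P₀, e₀⟩ := b
  simp only at hx
  subst hx
  have hb' : IsMaximalBrauerPair p M B _ (conjBlock P₀ x e₀) :=
    isMaximal_of_defect hM (isDefectGroup_of_maximal hM hmax)
      (pairOf_conj hM (a := ⟨P₀, e₀⟩) hb.1 x)
  obtain ⟨y, -, hy⟩ := exists_conj_of_maximal hM hb' hmax
  refine ⟨y * x, ?_⟩
  have h1 := subpairLE_conj hM hle (y * x)
  rw [← conjPair_conjPair x y ⟨P₀, e₀⟩] at h1
  exact hy ▸ h1

end Cfsg.Agent.BC85
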