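import Cfsg.Agent.BC85.Pairs.Saturation
import Cfsg.Agent.S5083

/-!
# Nilpotent blocks are those with inner fusion system; abelian defect groups
-/

set_option linter.unusedSectionVars false

namespace Cfsg.Agent.BC85

open BlocksCore BlocksDefect
open scoped Classical

universe u

variable {G : Type u} [Group G] [Fintype G] {p : ℕ} [Fact p.Prime] {M : Ideal AlgInt}

local notation "C[" Q "]" => Subgroup.centralizer (Q : Set G)

/-- If the elements of `T` of order prime to `p` centralize `Q`, then `T` induces a `p`-group. -/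
theorem isPGroup_autInducedBy {T Q : Subgroup G}
    (h : ∀ x ∈ T, x ∈ Subgroup.normalizer (Q : Set G) → IsPRegular p x → x ∈ C[Q]) :
    IsPGroup p (autInducedBy T Q) := by
  rintro ⟨α, hα⟩
  obtain ⟨g, hg⟩ : α ∈ (Fusion.conjAutHom T Q).range := by
    rw [Fusion.range_conjAutHom]; exact hα
  refine ⟨(orderOf (g : G)).factorization p, Subtype.ext ?_⟩
  show α ^ _ = 1
  rw [← hg, ← map_pow, ← MonoidHom.mem_ker, Fusion.ker_conjAutHom, Subgroup.mem_subgroupOf]
  refine Subgroup.mem_inf.mpr ⟨pow_mem g.2.1 _, h _ (pow_mem g.2.1 _) (pow_mem g.2.2 _) ?_⟩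
  unfold IsPRegular
  have hpos : orderOf (g : G) ≠ 0 := (orderOf_pos (g : G)).ne'
  rw [SubgroupClass.coe_pow, orderOf_pow_of_dvd (pow_ne_zero _ (Fact.out : p.Prime).ne_zero)
    (Nat.ordProj_dvd _ _)]
  exact Nat.not_dvd_ordCompl Fact.out hpos

/-- An element of order prime to `p` acting on `Q` like an element of a `p`-group centralizes `Q`. -/
theorem mem_centralizer_of_induced {P Q : Subgroup G} (hP : IsPGroup p P) {x : G}
    (hxN : x ∈ Subgroup.normalizer (Q : Set G)) (hx : IsPRegular p x) {u : G} (hu : u ∈ P)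
    (h : ∀ q ∈ Q, x * q * x⁻¹ = u * q * u⁻¹) : x ∈ C[Q] := by
  have huN : u ∈ Subgroup.normalizer (Q : Set G) :=
    Fusion.mem_normalizer_of_induces
      (α := Fusion.conjAutHom ⊤ Q ⟨x, trivial, hxN⟩) fun q => h q q.2
  have heq : Fusion.conjAutHom ⊤ Q ⟨x, trivial, hxN⟩ = Fusion.conjAutHom ⊤ Q ⟨u, trivial, huN⟩ :=
    MulEquiv.ext fun q => Subtype.ext (h q q.2)
  have h1 : orderOf (Fusion.conjAutHom ⊤ Q ⟨x, trivial, hxN⟩) ∣ orderOf x := by
    refine (orderOf_map_dvd _ _).trans (dvd_of_eq ?_)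
    exact Subgroup.orderOf_mk _ _
  obtain ⟨k, hk⟩ := IsPGroup.iff_orderOf.mp hP ⟨u, hu⟩
  have h2 : orderOf (Fusion.conjAutHom ⊤ Q ⟨x, trivial, hxN⟩) ∣ p ^ k := by
    rw [heq, ← hk]
    refine (orderOf_map_dvd _ _).trans (dvd_of_eq ?_)
    exact (Subgroup.orderOf_mk _ _).trans (Subgroup.orderOf_mk _ _).symm
  obtain ⟨j, hj, hje⟩ := (Nat.dvd_prime_pow Fact.out).mp h2
  obtain rfl : j = 0 := by
    by_contra hj0
    exact hx ((dvd_pow_self p hj0).trans (hje ▸ h1))
  rw [pow_zero, orderOf_eq_one_iff] at hje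
  refine Subgroup.mem_centralizer_iff.mpr fun q hq => ?_
  have := congrArg Subtype.val (DFunLike.congr_fun hje ⟨q, hq⟩)
  exact (mul_inv_eq_iff_eq_mul.mp this).symm

theorem conjPair_stab {Q : Subgroup G} {f : Set (IrrCharacter C[Q])} {x : G}
    (hx : x ∈ stabT Q f) (z : G) :
    z * x * z⁻¹ ∈ stabT (Q.map (MulAut.conj z).toMonoidHom) (conjBlock Q z f) := by
  refine conjPair_eq_self_iff.mp ?_
  show conjPair (z * x * z⁻¹) (conjPair z ⟨Q, f⟩) = conjPair z ⟨Q, f⟩
  rw [conjPair_conjPair, show z * x * z⁻¹ * z = z * x by group, ← conjPair_conjPair,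
    conjPair_eq_self_iff.mpr hx]

/-- To show nilpotency it suffices to treat the pairs below a given maximal one. -/
theorem isNilpotentBlock_of_below (hM : IsPModular p M) {B : Set (IrrCharacter G)} {P : Subgroup G}
    {e : Set (IrrCharacter C[P])} (hmax : IsMaximalBrauerPair p M B P e)
    (h : ∀ (Q : Subgroup G) (f : Set (IrrCharacter C[Q])), SubpairLE p M Q f P e →
      ∀ x ∈ stabT Q f, IsPRegular p x → x ∈ C[Q]) : IsNilpotentBlock p M B := by
  refine ⟨hmax.1.2.1, fun Q f hQf x hxN hxS hreg => ?_⟩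
  obtain ⟨z, hz⟩ := exists_conj_below hM hmax hQf
  have hreg' : IsPRegular p (z * x * z⁻¹) := by
    have he : orderOf (z * x * z⁻¹) = orderOf x :=
      orderOf_injective (MulAut.conj z).toMonoidHom (MulAut.conj z).injective x
    unfold IsPRegular
    rw [he]
    exact hreg
  have := h _ _ hz _ (conjPair_stab (mem_stabT_iff.mpr ⟨hxN, hxS⟩) z) hreg'
  rw [mem_centralizer_map_conj] at this
  rwa [show z⁻¹ * (z * x * z⁻¹) * z = x by group] at this

variable {B : Set (IrrCharacter G)} {P : Subgroup G}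
  {e : Set (IrrCharacter (Subgroup.centralizer (P : Set G)))} {F : FusionSystem P}

theorem nilpotent_iff_inner (hM : IsPModular p M) (hF : IsBlockFusionSystemOn p M B P e F) :
    IsNilpotentBlock p M B ↔ ∀ Q : Subgroup G, F.Hom Q = (innerFusionSystem P).Hom Q := by
  have he := hF.1.1.1
  constructor
  · intro hnil
    have hFi : F = innerFusionSystem P := by
      refine S5083.result p he.1 F (blockFusion_isSaturated hM hF) fun Q hQ => ?_
      obtain ⟨f, hf⟩ := exists_below hM he hQ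
      rw [autGroup_eq hM hF hf]
      refine isPGroup_autInducedBy fun x hx hxN hreg => ?_
      exact hnil.2 Q f ((subpairLE_pairOf_iff hM hf B).mp hF.1.1) x hxN
        (mem_stabT_iff.mp hx).2 hreg
    exact fun Q => by rw [hFi]
  · intro hin
    refine isNilpotentBlock_of_below hM hF.1 fun Q f hf x hx hreg => ?_
    have hxN : x ∈ Subgroup.normalizer (Q : Set G) := hx.1
    have hα : Fusion.conjAutHom ⊤ Q ⟨x, trivial, hxN⟩ ∈ F.autGroup Q := by
      rw [autGroup_eq hM hF hf, Fusion.mem_autInducedBy]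
      exact ⟨x, hx, fun q => rfl⟩
    rw [Fusion.mem_autGroup_iff_hom (subpairLE_le hf), hin Q] at hα
    obtain ⟨-, u, hu, hau⟩ := hα
    exact mem_centralizer_of_induced he.1 hxN hreg hu fun q hq => hau ⟨q, hq⟩

/-- In a nilpotent block every subgroup of the maximal pair is fully centralized. -/
theorem centralizerPart_defect_of_nilpotent (hM : IsPModular p M) (hnil : IsNilpotentBlock p M B)
    (hmax : IsMaximalBrauerPair p M B P e) {Q : Subgroup G} {f : Set (IrrCharacter C[Q])}
    (hle : SubpairLE p M Q f P e) : IsDefectGroup p M f ((P ⊓ C[Q]).subgroupOf C[Q]) := by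
  have hF := isBlockFusionSystemOn_blockFusion hM hmax
  have hin := (nilpotent_iff_inner hM hF).mp hnil
  refine (fullyCentralized_iff hM hF hle).mp ⟨subpairLE_le hle, fun R hR => le_of_eq ?_⟩
  obtain ⟨φ, hφ, rfl⟩ := hR
  rw [hin Q] at hφ
  obtain ⟨-, u, hu, hφu⟩ := hφ
  rw [FusionSystem.centralizerIn, FusionSystem.centralizerIn, conjHom_range Q hφu,
    ← natCard_map_conj (P ⊓ C[Q]) u]
  refine congrArg (fun S : Subgroup G => Nat.card S) (Subgroup.ext fun y => ?_)
  simp only [Subgroup.mem_inf, mem_map_conj_iff, mem_centralizer_map_conj]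
  refine and_congr_left fun _ => ?_
  exact mem_normalizer_conj_iff (Subgroup.le_normalizer hu) y

/-- Blocks of centralizers below a nilpotent block are nilpotent. -/
theorem nilpotent_of_pairOf (hM : IsPModular p M) (hnil : IsNilpotentBlock p M B) {Q : Subgroup G}
    {f : Set (IrrCharacter C[Q])} (hQf : IsBrauerPairOf p M B Q f) : IsNilpotentBlock p M f := by
  have := isPrime hM
  refine ⟨hQf.1.2, fun R' f' hR' x hxN hxS hreg => ?_⟩
  set R := Q ⊔ R'.map (C[Q]).subtype with hRdef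
  have hR'C : R'.map (C[Q]).subtype ≤ C[Q] := Subgroup.map_subtype_le R'
  have hle : C[R] ≤ C[Q] := centralizer_anti le_sup_left
  have hc : ∀ h : C[Q], (h : G) ∈ C[R] ↔
      h ∈ Subgroup.centralizer ((R' : Subgroup C[Q]) : Set C[Q]) := fun h => by
    rw [← map_subtype_centralizer_iff R' h]
    exact ⟨fun hh => centralizer_anti le_sup_right hh, fun hh => mem_centralizer_sup h.2 hh⟩
  obtain ⟨e', he', hl⟩ :=
    exists_lift hM (⟨R', f'⟩ : BrauerPairIdx C[Q]) R hle hc hR'.1.2
  have hRp : IsPGroup p R := hQf.1.1.to_sup_of_normal_left' (hR'.1.1.map _)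
    (hR'C.trans (BlocksCore.centralizer_le_normalizer' Q))
  have hstep : IsNormalSubpair p M Q f R e' := by
    refine (isNormalSubpair_iff hM).mpr ⟨hQf.1, ⟨hRp, he'⟩, le_sup_left,
      sup_le Subgroup.le_normalizer (hR'C.trans (BlocksCore.centralizer_le_normalizer' Q)),
      fun u hu => (sup_le_sup_left hR'C Q).trans (le_invSubgroup_self Q f) hu, ?_⟩
    exact (hl.subset_cset_iff fun h => bp_apply_coe Q f h).mpr
      ((isBrauerPairOf_iff hM).mp hR').2.2
  have hpair := (normalSubpair_pairOf_iff hM hstep B).mpr hQf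
  have hxN' : (x : G) ∈ Subgroup.normalizer ((R : Subgroup G) : Set G) := by
    refine Subgroup.mem_normalizer_iff.mpr fun y => ?_
    have key : ∀ z : C[Q], z ∈ Subgroup.normalizer (R' : Set C[Q]) →
        R.map (MulAut.conj (z : G)).toMonoidHom ≤ R := fun z hz => by
      rw [hRdef, Subgroup.map_sup]
      refine sup_le_sup ?_ ?_
      · rw [map_conj_of_mem_normalizer (BlocksCore.centralizer_le_normalizer' Q z.2)]
      · rintro _ ⟨_, ⟨r, hr, rfl⟩, rfl⟩
        exact ⟨z * r * z⁻¹, (Subgroup.mem_normalizer_iff.mp hz r).mp hr, rfl⟩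
    refine ⟨fun hy => key x hxN ⟨y, hy, rfl⟩, fun hy => ?_⟩
    have := key x⁻¹ (Subgroup.inv_mem _ hxN) ⟨_, hy, rfl⟩
    simpa [mul_assoc] using this
  have hreg' : IsPRegular p (x : G) := by
    unfold IsPRegular
    rw [Subgroup.orderOf_coe]
    exact hreg
  have hxS' : StabilizesBlock C[R] e' (x : G) := by
    refine (stabilizesBlock_iff e' (x : G)).mpr
      ⟨normalizer_le_normalizer_centralizer R hxN', fun g => ?_⟩
    show bp ⟨R, e'⟩ _ = bp ⟨R, e'⟩ g
    by_cases hg : g ∈ C[Q]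
    · have h1 := hl.coeff (x⁻¹ * ⟨g, hg⟩ * x)
      have h2 := hl.coeff ⟨g, hg⟩
      refine h1.trans (Eq.trans ?_ h2.symm)
      exact ((stabilizesBlock_iff f' x).mp hxS).2 _
    · rw [bp_of_notMem R e' fun h => hg (hle h), bp_of_notMem R e' fun h => hg ?_]
      have := C[Q].mul_mem (C[Q].mul_mem x.2 (hle h)) (C[Q].inv_mem x.2)
      simpa [mul_assoc] using this
  exact (hc x).mp (hnil.2 R e' hpair (x : G) hxN' hxS' hreg')

/-! ### Abelian defect groups -/

theorem conj_mul_of_abelian (hM : IsPModular p M) (hmax : IsMaximalBrauerPair p M B P e)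
    (hab : ∀ x ∈ P, ∀ y ∈ P, x * y = y * x) {Q : Subgroup G} {f : Set (IrrCharacter C[Q])}
    (hle : SubpairLE p M Q f P e) {x : G} (hx : x ∈ stabT Q f) :
    ∃ y ∈ stabT P e, ∃ c ∈ C[Q], x = y * c := by
  have he := hmax.1.1
  have hF := isBlockFusionSystemOn_blockFusion hM hmax
  have hQP := subpairLE_le hle
  have hPC : P ≤ C[Q] := fun u hu =>
    Subgroup.mem_centralizer_iff.mpr fun q hq => hab q (hQP hq) u hu
  have hfc : (blockFusion hM he).IsFullyCentralized Q := ⟨hQP, fun R _ => by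
    rw [FusionSystem.centralizerIn, FusionSystem.centralizerIn, inf_eq_left.mpr hPC]
    exact Subgroup.card_le_of_le inf_le_left⟩
  have hrec := receptive_of_defect hM hF hle ((fullyCentralized_iff hM hF hle).mp hfc)
  have hQx : Q.map (MulAut.conj x).toMonoidHom = Q := map_conj_of_mem_normalizer hx.1
  have hiso : Fusion.IsIso (blockFusion hM he) Q Q (fun q => x * q * x⁻¹) := by
    refine ⟨⟨conjHom Q x, ⟨hQP, x, fun u => rfl, hQx.le.trans hQP, f, hle, ?_⟩, fun u => rfl⟩, ?_⟩
    · show Relation.ReflTransGen (NormalSubpairRel p M) (conjPair x ⟨Q, f⟩) _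
      rw [conjPair_eq_self_iff.mpr hx]
      exact hle
    · exact congrArg (fun S : Subgroup G => (S : Set G)) hQx
  have hext : Fusion.IsExtendable P Q (fun q => x * q * x⁻¹) P := by
    refine ⟨le_rfl, fun g hg => ⟨BlocksCore.centralizer_le_normalizer' Q (hPC hg), 1, P.one_mem,
      fun q hq => ?_⟩⟩
    show x * (g * q * g⁻¹) * x⁻¹ = _
    rw [← Subgroup.mem_centralizer_iff.mp (hPC hg) q hq]
    group
  obtain ⟨f', hf', heq⟩ := Fusion.receptive_extend hrec hiso hext
  rw [sup_eq_right.mpr hQP] at hf'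
  obtain ⟨φ, ⟨-, y, hy, hyP, g, hg, hgy⟩, hφ⟩ := hf'
  obtain rfl : g = e := below_unique hM he hg Relation.ReflTransGen.refl
  have hPy : P.map (MulAut.conj y).toMonoidHom = P :=
    Subgroup.eq_of_le_of_card_ge hyP (natCard_map_conj P y).ge
  refine ⟨y, conjPair_eq_self_iff.mp (below_eq hM he (b := ⟨P, g⟩) hgy Relation.ReflTransGen.refl hPy),
    y⁻¹ * x, Subgroup.mem_centralizer_iff.mpr fun q hq => ?_, by group⟩
  have h2 : y * q * y⁻¹ = x * q * x⁻¹ :=
    ((hy ⟨q, hQP hq⟩).symm.trans (hφ _)).trans (heq hq)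
  calc q * (y⁻¹ * x) = y⁻¹ * (y * q * y⁻¹) * x := by group
    _ = y⁻¹ * (x * q * x⁻¹) * x := by rw [h2]
    _ = y⁻¹ * x * q := by group

theorem stab_inf_normalizer_le (hM : IsPModular p M) (he : IsBrauerPair p M P e) {Q : Subgroup G}
    {f : Set (IrrCharacter C[Q])} (hle : SubpairLE p M Q f P e) :
    stabT P e ⊓ Subgroup.normalizer (Q : Set G) ≤ stabT Q f := by
  intro y hy
  refine conjPair_eq_self_iff.mp (below_eq hM he (b := ⟨Q, f⟩) ?_ hle
    (map_conj_of_mem_normalizer hy.2))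
  show Relation.ReflTransGen (NormalSubpairRel p M) (conjPair y ⟨Q, f⟩) _
  have h := subpairLE_conj hM (a := ⟨Q, f⟩) (b := ⟨P, e⟩) hle y
  rwa [conjPair_eq_self_iff.mpr hy.1] at h

theorem index_centralizer_eq (hM : IsPModular p M) (hmax : IsMaximalBrauerPair p M B P e)
    (hab : ∀ x ∈ P, ∀ y ∈ P, x * y = y * x) {Q : Subgroup G} {f : Set (IrrCharacter C[Q])}
    (hle : SubpairLE p M Q f P e) :
    (C[Q].subgroupOf (stabT Q f)).index =
      ((stabT P e ⊓ C[Q]).subgroupOf (stabT P e ⊓ Subgroup.normalizer (Q : Set G))).index := by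
  set T := stabT Q f
  set U := stabT P e ⊓ Subgroup.normalizer (Q : Set G) with hU
  have hUT : U ≤ T := stab_inf_normalizer_le hM hmax.1.1 hle
  have hA : autInducedBy T Q = autInducedBy U Q := by
    refine le_antisymm (fun α hα => ?_) (Fusion.autInducedBy_mono hUT)
    rw [Fusion.mem_autInducedBy] at hα ⊢
    obtain ⟨x, hx, hα⟩ := hα
    obtain ⟨y, hy, c, hc, rfl⟩ := conj_mul_of_abelian hM hmax hab hle hx
    refine ⟨y, ⟨hy, ?_⟩, fun q => ?_⟩
    · have := (Subgroup.normalizer (Q : Set G)).mul_mem hx.1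
        (Subgroup.inv_mem _ (BlocksCore.centralizer_le_normalizer' Q hc))
      rwa [mul_inv_cancel_right] at this
    · rw [hα]
      calc y * c * (q : G) * (y * c)⁻¹ = y * (c * q * c⁻¹) * y⁻¹ := by group
        _ = y * q * y⁻¹ := by
          rw [show c * (q : G) * c⁻¹ = q from mul_inv_eq_iff_eq_mul.mpr
            (Subgroup.mem_centralizer_iff.mp hc q q.2).symm]
  have hCT : C[Q] ≤ T := le_sup_right.trans (le_stabT Q f)
  have h1 := Fusion.card_autInducedBy_mul T Q
  have h2 := Fusion.card_autInducedBy_mul U Q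
  rw [FusionSystem.centralizerIn, FusionSystem.normalizerIn,
    inf_eq_left.mpr (show T ≤ Subgroup.normalizer (Q : Set G) from inf_le_left),
    inf_eq_right.mpr hCT] at h1
  rw [FusionSystem.centralizerIn, FusionSystem.normalizerIn,
    inf_eq_left.mpr (show U ≤ Subgroup.normalizer (Q : Set G) from inf_le_right),
    show U ⊓ C[Q] = stabT P e ⊓ C[Q] by
      rw [hU, inf_assoc, inf_eq_right.mpr (BlocksCore.centralizer_le_normalizer' Q)]] at h2
  have key : ∀ {K C : Subgroup G}, C ≤ K → ∀ {A : ℕ}, A * Nat.card C = Nat.card K →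
      (C.subgroupOf K).index = A := by
    intro K C hCK A hA'
    have h3 := (C.subgroupOf K).card_mul_index
    rw [card_subgroupOf hCK, ← hA', mul_comm A] at h3
    exact Nat.eq_of_mul_eq_mul_left Nat.card_pos h3
  rw [key hCT h1, key (inf_le_inf_left _ (BlocksCore.centralizer_le_normalizer' Q)) h2, hA]

theorem nilpotent_iff_of_abelian (hM : IsPModular p M) (hmax : IsMaximalBrauerPair p M B P e)
    (hab : ∀ x ∈ P, ∀ y ∈ P, x * y = y * x) :
    IsNilpotentBlock p M B ↔ ∀ x ∈ stabT P e, x ∈ C[P] := by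
  have hF := isBlockFusionSystemOn_blockFusion hM hmax
  constructor
  · intro hnil x hx
    have hin := (nilpotent_iff_inner hM hF).mp hnil
    have hα : Fusion.conjAutHom ⊤ P ⟨x, trivial, hx.1⟩ ∈ (blockFusion hM hmax.1.1).autGroup P := by
      rw [autGroup_eq hM hF (f := e) Relation.ReflTransGen.refl, Fusion.mem_autInducedBy]
      exact ⟨x, hx, fun q => rfl⟩
    rw [Fusion.mem_autGroup_iff_hom le_rfl, hin P] at hα
    obtain ⟨-, u, hu, hau⟩ := hα
    refine Subgroup.mem_centralizer_iff.mpr fun q hq => ?_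
    have h1 : x * q * x⁻¹ = u * q * u⁻¹ := hau ⟨q, hq⟩
    rw [hab u hu q hq, mul_inv_cancel_right] at h1
    exact (mul_inv_eq_iff_eq_mul.mp h1).symm
  · intro h
    refine isNilpotentBlock_of_below hM hmax fun Q f hle x hx _ => ?_
    obtain ⟨y, hy, c, hc, rfl⟩ := conj_mul_of_abelian hM hmax hab hle hx
    exact mul_mem (centralizer_anti (subpairLE_le hle) (h y hy)) hc

end Cfsg.Agent.BC85
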