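import Cfsg.Agent.BC85.Pairs.NilpotentFusion
import Cfsg.Agent.BC84.BrauerCount
import Cfsg.Agent.Lib.Fusion.Saturation
import Cfsg.Prelude.Def_BlockLocal
import Mathlib.GroupTheory.SpecificGroups.Cyclic

/-!
# Inertial quotients of blocks with abelian or cyclic defect group
-/

set_option linter.unusedSectionVars false

namespace Cfsg.Agent.BC85

open BlocksCore BlocksDefect
open scoped Classical

universe u

variable {G : Type u} [Group G] [Fintype G] {p : ℕ} [Fact p.Prime] {M : Ideal AlgInt}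

local notation "C[" Q "]" => Subgroup.centralizer (Q : Set G)

/-- A block of `C(P)`, `P` abelian, inducing `B` gives a pair of `B`. -/
theorem pairOf_of_induced (hM : IsPModular p M) {B : Set (IrrCharacter G)} {P : Subgroup G}
    (hP : IsPGroup p P) (hPC : P ≤ C[P]) {c : Set (IrrCharacter C[P])}
    (hc : IsInducedBlock M C[P] c B) : IsBrauerPairOf p M B P c := by
  have := isPrime hM
  obtain ⟨B', hB', -⟩ := existsUnique_block_of_pair hM (P := P) (e := c) ⟨hP, hc.1⟩
  have hsub : c ⊆ cset M P (subgroupBlockCoeff C[P] c) := by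
    intro θ hθ
    show θ ∈ unitSet M (pullFun (C[P]).subtype (bp ⟨P, c⟩))
    rw [pullFun_bp, unitSet_blockCoeff hM]
    exact hθ
  rwa [BC84.induced_unique hM (isInducedBlock_of_over hM hPC le_rfl hB' hc.1 hsub) hc] at hB'

theorem isMaximal_of_induced (hM : IsPModular p M) {B : Set (IrrCharacter G)} {P : Subgroup G}
    (hPD : IsDefectGroup p M B P) (hPab : ∀ x ∈ P, ∀ y ∈ P, x * y = y * x)
    {c : Set (IrrCharacter C[P])} (hc : IsInducedBlock M C[P] c B) :
    IsMaximalBrauerPair p M B P c :=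
  isMaximal_of_defect hM hPD (pairOf_of_induced hM (isPGroup_of_isDefectGroup hPD)
    (fun u hu => Subgroup.mem_centralizer_iff.mpr fun q hq => hPab q hq u hu) hc)

/-- A pair below `(P, c)` gives induction inside `C(Q)`. -/
theorem inducedIn_of_subpairLE (hM : IsPModular p M) {P Q : Subgroup G}
    {c : Set (IrrCharacter C[P])} (hc : IsBrauerPair p M P c) (hPC : P ≤ C[Q])
    {f : Set (IrrCharacter C[Q])} (hle : SubpairLE p M Q f P c) :
    IsInducedBlockIn M C[Q] C[P] c f := by
  have := isPrime hM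
  obtain ⟨hfp, -, hQP, -, -, hsub⟩ := (isNormalSubpair_iff hM).mp
    (normalSubpair_of_below hM hc hle (hPC.trans (BlocksCore.centralizer_le_normalizer' Q)))
  refine ⟨hc.2, hfp.2, fun ξ hξ χ hχ h => ?_⟩
  have hCH : C[P] ≤ C[Q] := centralizer_anti hQP
  have hξ' : ξ ∈ brSet M (Subgroup.inclusion hCH) (blockCoeff f) := by
    rw [← cset_subgroupBlockCoeff hCH]
    exact hsub hξ
  have h1 := brSet_rel hM (isPGroup_subgroupOf hc.1 C[Q]) (isCentHom_inclusion hPC hCH) hfp.2
    hξ' hχ (isIntClassFun_classInd h)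
  rw [omega_classInd (irr_class χ)] at h1
  have h2 : omega (ξ : C[P] → ℂ) (pullFun (Subgroup.inclusion hCH) (classInd h)) =
      inducedCentralCharIn C[Q] C[P] (ξ : C[P] → ℂ) (h : G) := by
    rw [omega_eq_sum, inducedCentralCharIn, finsum_mem_eq_toFinset_sum, Finset.sum_div]
    refine (Finset.sum_subset (Finset.subset_univ _) fun k _ hk => ?_).symm.trans
      (Finset.sum_congr rfl fun k hk => ?_)
    · rw [pullFun_apply, classInd_apply_of_not_isConj, zero_mul, zero_div]
      intro hc'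
      obtain ⟨x, hx⟩ := isConj_iff.mp hc'.symm
      exact hk (Set.mem_toFinset.mpr ⟨x, congrArg Subtype.val hx⟩)
    · obtain ⟨x, hx⟩ := Set.mem_toFinset.mp hk
      rw [pullFun_apply, classInd_apply_of_isConj, one_mul]
      exact (isConj_iff.mpr ⟨x, Subtype.ext hx⟩).symm
  rw [h2] at h1
  exact h1

/-- Induction inside `C(Q)` is containment of pairs. -/
theorem subpairLE_of_inducedIn (hM : IsPModular p M) {P Q : Subgroup G}
    {c : Set (IrrCharacter C[P])} (hc : IsBrauerPair p M P c) (hQP : Q ≤ P)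
    (hPC : P ≤ C[Q]) {f : Set (IrrCharacter C[Q])}
    (hf : IsInducedBlockIn M C[Q] C[P] c f) : SubpairLE p M Q f P c := by
  have := isPrime hM
  obtain ⟨f₀, hf₀⟩ := exists_below hM hc hQP
  suffices f = f₀ by subst this; exact hf₀
  have hin := inducedIn_of_subpairLE hM hc hPC hf₀
  obtain ⟨ξ, hξ⟩ := isPBlock_nonempty hc.2
  obtain ⟨χ₀, hχ₀⟩ := isPBlock_nonempty hin.2.1
  obtain ⟨χ, hχ⟩ := isPBlock_nonempty hf.2.1
  refine isPBlock_eq_of_mem hf.2.1 hin.2.1 ?_ hχ₀
  rw [isPBlock_eq_blockOf hf.2.1 hχ]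
  intro h
  have h3 := memLocalIdeal_sub (hin.2.2 ξ hξ χ₀ hχ₀ h) (hf.2.2 ξ hξ χ hχ h)
  rw [sub_sub_sub_cancel_left] at h3
  exact h3

variable {B : Set (IrrCharacter G)} {P : Subgroup G}
  {c : Set (IrrCharacter (Subgroup.centralizer (P : Set G)))}

/-- The order of the inertial quotient is prime to `p` for an abelian defect group. -/
theorem not_dvd_index_inertia (hM : IsPModular p M) (hmax : IsMaximalBrauerPair p M B P c)
    (hab : ∀ x ∈ P, ∀ y ∈ P, x * y = y * x) :
    ¬ p ∣ (C[P].subgroupOf (stabT P c)).index := by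
  have hF := isBlockFusionSystemOn_blockFusion hM hmax
  have hP : IsPGroup p P := hmax.1.1.1
  obtain ⟨R, hR⟩ := (Fusion.fullyAutomized_of_fullyNormalized hP (blockFusion_isSaturated hM hF)
    (Fusion.fullyNormalized_self (F := blockFusion hM hmax.1.1))).2
  have hbot : autInducedBy P P = ⊥ := by
    refine (Subgroup.eq_bot_iff_forall _).mpr fun α hα => ?_
    obtain ⟨g, hg, hga⟩ := Fusion.mem_autInducedBy.mp hα
    refine MulEquiv.ext fun x => Subtype.ext ?_
    rw [hga, hab g hg x x.2, mul_inv_cancel_right]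
    rfl
  haveI := Fusion.finite_mulAut P
  have h1 := R.not_dvd_index
  rw [hR, hbot, Subgroup.bot_subgroupOf, Subgroup.index_bot,
    autGroup_eq hM hF (f := c) Relation.ReflTransGen.refl] at h1
  have h2 := Fusion.card_autInducedBy_mul (stabT P c) P
  have hCT : C[P] ≤ stabT P c := le_sup_right.trans (le_stabT P c)
  rw [FusionSystem.centralizerIn, FusionSystem.normalizerIn,
    inf_eq_left.mpr (show stabT P c ≤ Subgroup.normalizer (P : Set G) from inf_le_left),
    inf_eq_right.mpr hCT] at h2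
  have h3 := (C[P].subgroupOf (stabT P c)).card_mul_index
  rw [card_subgroupOf hCT, ← h2, mul_comm (Nat.card (autInducedBy (stabT P c) P))] at h3
  rw [Nat.eq_of_mul_eq_mul_left Nat.card_pos h3]
  exact h1

/-- Coprime automorphisms of a cyclic `p`-group fixing a nontrivial element are trivial. -/
theorem eq_of_fixed_cyclic {A : Type*} [Group A] [Finite A] (hA : IsPGroup p A) [IsCyclic A]
    (α : MulAut A) {m : ℕ} (hm : α ^ m = 1) (hpm : ¬ p ∣ m) {x : A} (hx : x ≠ 1)
    (hfix : α x = x) : α = 1 := by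
  obtain ⟨y, hy⟩ := IsCyclic.exists_generator (α := A)
  obtain ⟨a, ha⟩ := hy (α y)
  obtain ⟨j, rfl⟩ := hy x
  obtain ⟨n, hn⟩ := IsPGroup.iff_orderOf.mp hA y
  have hα : ∀ z, α z = z ^ a := fun z => by
    obtain ⟨i, rfl⟩ := hy z
    show α (y ^ i) = (y ^ i) ^ a
    rw [map_zpow, ← ha, ← zpow_mul, ← zpow_mul, mul_comm]
  have hpow : ∀ (k : ℕ) z, (α ^ k) z = z ^ (a ^ k) := by
    intro k
    induction k with
    | zero => intro z; simp
    | succ k ih => intro z; rw [pow_succ', MulAut.mul_apply, ih, hα, ← zpow_mul, ← pow_succ]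
  have h1 : ((p : ℤ) ^ n) ∣ a ^ m - 1 := by
    have := hpow m y
    rw [hm, MulAut.one_apply] at this
    have h' : y ^ (a ^ m - 1) = 1 := by rw [zpow_sub_one, ← this, mul_inv_cancel]
    have h'' := orderOf_dvd_iff_zpow_eq_one.mpr h'
    rw [hn] at h''
    exact_mod_cast h''
  have h2 : (p : ℤ) ∣ a - 1 := by
    by_contra hnd
    have h' : (y ^ j) ^ (a - 1) = 1 := by
      rw [zpow_sub_one, ← hα, show α (y ^ j) = y ^ j from hfix, mul_inv_cancel]
    rw [← zpow_mul] at h'
    have h'' := orderOf_dvd_iff_zpow_eq_one.mpr h'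
    rw [hn] at h''
    push_cast at h''
    have hco : IsCoprime ((p : ℤ) ^ n) (a - 1) :=
      (((Nat.prime_iff_prime_int.mp Fact.out).coprime_iff_not_dvd).mpr hnd).pow_left
    have := hco.dvd_of_dvd_mul_right h''
    refine hx ?_
    show y ^ j = 1
    rw [← orderOf_dvd_iff_zpow_eq_one, hn]
    exact_mod_cast this
  have h3 : ¬ (p : ℤ) ∣ ∑ i ∈ Finset.range m, a ^ i := by
    intro hd
    have hsum : (p : ℤ) ∣ (∑ i ∈ Finset.range m, a ^ i) - (m : ℤ) := by
      rw [show ((m : ℕ) : ℤ) = ∑ _i ∈ Finset.range m, (1 : ℤ) by simp, ← Finset.sum_sub_distrib]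
      exact Finset.dvd_sum fun i _ => h2.trans (sub_one_dvd_pow_sub_one a i)
    exact hpm (Int.natCast_dvd_natCast.mp (by simpa using Int.dvd_sub hd hsum))
  have h4 : ((p : ℤ) ^ n) ∣ a - 1 := by
    have h5 := geom_sum_mul a m
    rw [← h5] at h1
    exact ((((Nat.prime_iff_prime_int.mp Fact.out).coprime_iff_not_dvd).mpr h3).pow_left).dvd_of_dvd_mul_left h1
  refine MulEquiv.ext fun z => ?_
  obtain ⟨i, rfl⟩ := hy z
  show α (y ^ i) = y ^ i
  rw [map_zpow, ← ha]
  congr 1
  show y ^ a = y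
  have h6 : y ^ (a - 1) = 1 := by
    rw [← orderOf_dvd_iff_zpow_eq_one, hn]
    exact_mod_cast h4
  rwa [zpow_sub_one, mul_inv_eq_one] at h6

/-- For a cyclic defect group the inertial quotient acts freely. -/
theorem free_of_cyclic (hM : IsPModular p M) (hmax : IsMaximalBrauerPair p M B P c)
    (hcyc : IsCyclic P) {g : G} (hg : g ∈ stabT P c) {x : G} (hx : x ∈ P) (hx1 : x ≠ 1)
    (hfix : g * x * g⁻¹ = x) : g ∈ C[P] := by
  have hab : ∀ a ∈ P, ∀ b ∈ P, a * b = b * a := fun a ha b hb => by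
    letI := IsCyclic.commGroup (α := P)
    exact congrArg Subtype.val (mul_comm (⟨a, ha⟩ : P) ⟨b, hb⟩)
  have hnd := not_dvd_index_inertia hM hmax hab
  have hCT : C[P] ≤ stabT P c := le_sup_right.trans (le_stabT P c)
  haveI : (C[P].subgroupOf (stabT P c)).Normal := Subgroup.normal_subgroupOf_of_le_normalizer
    ((inf_le_left : stabT P c ≤ _).trans (normalizer_le_normalizer_centralizer P))
  set α := Fusion.conjAutHom ⊤ P ⟨g, trivial, hg.1⟩ with hα
  have hm : α ^ (C[P].subgroupOf (stabT P c)).index = 1 := by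
    have hmem := Subgroup.pow_index_mem (C[P].subgroupOf (stabT P c)) ⟨g, hg⟩
    rw [hα, ← map_pow, ← MonoidHom.mem_ker, Fusion.ker_conjAutHom, Subgroup.mem_subgroupOf]
    exact ⟨trivial, hmem⟩
  have h := eq_of_fixed_cyclic hmax.1.1.1 α hm hnd (x := ⟨x, hx⟩)
    (fun h => hx1 (congrArg Subtype.val h)) (Subtype.ext hfix)
  refine Subgroup.mem_centralizer_iff.mpr fun q hq => ?_
  have := congrArg Subtype.val (DFunLike.congr_fun h ⟨q, hq⟩)
  exact (mul_inv_eq_iff_eq_mul.mp this).symm

/-- The inertial quotient of a cyclic defect group. -/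
theorem cyclic_inertia (hM : IsPModular p M) (hmax : IsMaximalBrauerPair p M B P c)
    (hcyc : IsCyclic P) (hP1 : P ≠ ⊥) [hn : (C[P].subgroupOf (stabT P c)).Normal] :
    IsCyclic (stabT P c ⧸ C[P].subgroupOf (stabT P c)) ∧
      C[P].relIndex (stabT P c) ∣ p - 1 := by
  have hpdvd : p ∣ Nat.card P := by
    obtain ⟨k, hk⟩ := IsPGroup.iff_card.mp hmax.1.1.1
    rcases Nat.eq_zero_or_pos k with rfl | hk0
    · exact absurd ((Subgroup.card_eq_one).mp (by simpa using hk)) hP1
    · rw [hk]; exact dvd_pow_self p hk0.ne'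
  obtain ⟨z, hz⟩ := exists_prime_orderOf_dvd_card' p hpdvd
  set Z := Subgroup.zpowers (z : G) with hZ
  have hzo : orderOf (z : G) = p := by rw [Subgroup.orderOf_coe, hz]
  have hZP : Z ≤ P := Subgroup.zpowers_le.mpr z.2
  have hZcard : Nat.card Z = p := by rw [hZ, Nat.card_zpowers, hzo]
  have hTZ : stabT P c ≤ Subgroup.normalizer (Z : Set G) := by
    intro g hg
    have h1 : Z.map (MulAut.conj g).toMonoidHom ≤ P := fun y hy => by
      obtain ⟨u, hu, rfl⟩ := hy
      exact (Subgroup.mem_normalizer_iff.mp hg.1 u).mp (hZP hu)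
    have h2 : Z.map (MulAut.conj g).toMonoidHom = Z :=
      eq_of_card_eq_of_le_cyclic hcyc h1 hZP (natCard_map_conj Z g)
    refine Subgroup.mem_normalizer_iff.mpr fun x => ?_
    conv_rhs => rw [← h2, mem_map_conj_iff]
    simp [mul_assoc]
  set φ : stabT P c →* MulAut Z := (Fusion.conjAutHom ⊤ Z).comp
    (Subgroup.inclusion (le_inf le_top hTZ)) with hφ
  have hker : φ.ker = C[P].subgroupOf (stabT P c) := by
    ext g
    rw [MonoidHom.mem_ker, Subgroup.mem_subgroupOf]
    constructor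
    · intro h
      refine free_of_cyclic hM hmax hcyc g.2 z.2 (fun h0 => ?_) ?_
      · rw [h0, orderOf_one] at hzo
        exact (Fact.out : p.Prime).one_lt.ne hzo
      · exact congrArg Subtype.val
          (DFunLike.congr_fun h ⟨(z : G), Subgroup.mem_zpowers _⟩)
    · intro h
      refine MulEquiv.ext fun q => Subtype.ext ?_
      exact mul_inv_eq_iff_eq_mul.mpr (Subgroup.mem_centralizer_iff.mp h q (hZP q.2)).symm
  let ψ : stabT P c ⧸ C[P].subgroupOf (stabT P c) →* MulAut Z :=
    QuotientGroup.lift _ φ hker.ge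
  have hψ : Function.Injective ψ := by
    rw [← MonoidHom.ker_eq_bot_iff, Subgroup.eq_bot_iff_forall]
    intro q hq
    obtain ⟨g, rfl⟩ := QuotientGroup.mk_surjective q
    exact (QuotientGroup.eq_one_iff g).mpr (hker ▸ hq)
  haveI : IsCyclic Z := Subgroup.isCyclic_zpowers _
  haveI : Fact (Nat.card Z).Prime := ⟨hZcard ▸ Fact.out⟩
  haveI := Fusion.finite_mulAut Z
  haveI : IsCyclic (MulAut Z) :=
    (IsCyclic.mulAutMulEquiv Z).isCyclic.mpr inferInstance
  refine ⟨isCyclic_of_injective ψ hψ, ?_⟩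
  have h := Subgroup.card_dvd_of_injective ψ hψ
  rwa [IsCyclic.card_mulAut, hZcard, Nat.totient_prime Fact.out, ← Subgroup.index_eq_card] at h

theorem mem_stab_unlift (hM : IsPModular p M) {H : Subgroup G} {a' : BrauerPairIdx H}
    {a : BrauerPairIdx G} (h : IsExactLift a' a) (x : H) :
    (x : G) ∈ stabT a.1 a.2 ↔ x ∈ stabT a'.1 a'.2 := by
  rw [← conjPair_eq_self_iff, ← conjPair_eq_self_iff]
  have hx := h.conj x
  constructor
  · intro e
    have e' : conjPair (x : G) a = a := e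
    rw [e'] at hx
    refine pair_ext (Subgroup.map_injective H.subtype_injective (hx.2.symm.trans h.2))
      (funext fun k => (hx.1.coeff k).symm.trans (h.1.coeff k))
  · intro e
    have e' : conjPair x a' = a' := e
    rw [e'] at hx
    exact hx.unique h

/-- Below a maximal pair with abelian group, the block of `C(Q)` is nilpotent exactly when the
inertial elements centralizing `Q` centralize `P`. -/
theorem nilpotent_local_iff (hM : IsPModular p M) (hmax : IsMaximalBrauerPair p M B P c)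
    (hab : ∀ x ∈ P, ∀ y ∈ P, x * y = y * x) {Q : Subgroup G} {f : Set (IrrCharacter C[Q])}
    (hle : SubpairLE p M Q f P c) :
    IsNilpotentBlock p M f ↔ ∀ g ∈ stabT P c, g ∈ C[Q] → g ∈ C[P] := by
  have := isPrime hM
  have he := hmax.1.1
  have hQP := subpairLE_le hle
  have hPC : P ≤ C[Q] := fun u hu =>
    Subgroup.mem_centralizer_iff.mpr fun q hq => hab q (hQP hq) u hu
  have hfc : IsDefectGroup p M f ((P ⊓ C[Q]).subgroupOf C[Q]) :=
    (fullyCentralized_iff hM (isBlockFusionSystemOn_blockFusion hM hmax) hle).mp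
      ⟨hQP, fun R _ => by
        rw [FusionSystem.centralizerIn, FusionSystem.centralizerIn, inf_eq_left.mpr hPC]
        exact Subgroup.card_le_of_le inf_le_left⟩
  rw [inf_eq_left.mpr hPC] at hfc
  have hf := subpairLE_isBrauerPair hle he
  obtain ⟨⟨P', c'⟩, hc', hlift⟩ := exists_exactUnlift hM ⟨P, c⟩ (centralizer_anti hQP) hPC he.2
  obtain rfl : P' = P.subgroupOf C[Q] := by
    have h1 : P = P'.map (C[Q]).subtype := hlift.2
    rw [h1, Subgroup.subgroupOf,
      Subgroup.comap_map_eq_self_of_injective (Subgroup.subtype_injective _)]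
  obtain ⟨-, -, -, -, -, hsub⟩ := (isNormalSubpair_iff hM).mp
    (normalSubpair_of_below hM he hle (hPC.trans (BlocksCore.centralizer_le_normalizer' Q)))
  have hpair : IsBrauerPairOf p M f (P.subgroupOf C[Q]) c' :=
    (isBrauerPairOf_iff hM).mpr ⟨⟨isPGroup_subgroupOf he.1 _, hc'⟩, hf.2,
      (hlift.1.subset_cset_iff fun x => bp_apply_coe Q f x).mp hsub⟩
  rw [nilpotent_iff_of_abelian hM (isMaximal_of_defect hM hfc hpair)
    fun x hx y hy => Subtype.ext (hab (x : G) hx (y : G) hy)]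
  constructor
  · intro h g hg hgQ
    exact (mem_centralizer_subgroupOf hPC ⟨g, hgQ⟩).mp
      (h ⟨g, hgQ⟩ ((mem_stab_unlift hM hlift ⟨g, hgQ⟩).mp hg))
  · intro h x hx
    exact (mem_centralizer_subgroupOf hPC x).mpr
      (h x ((mem_stab_unlift hM hlift x).mpr hx) x.2)

/-- Free action and nilpotent local blocks. -/
theorem free_iff_local_nilpotent (hM : IsPModular p M) (hmax : IsMaximalBrauerPair p M B P c)
    (hab : ∀ x ∈ P, ∀ y ∈ P, x * y = y * x) :
    (∀ g ∈ stabT P c, ∀ x ∈ P, x ≠ 1 → g * x * g⁻¹ = x → g ∈ C[P]) ↔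
      ∀ Q : Subgroup G, Q ≤ P → Q ≠ ⊥ → ∀ f : Set (IrrCharacter C[Q]),
        SubpairLE p M Q f P c → IsNilpotentBlock p M f := by
  constructor
  · intro h Q hQP hQ1 f hle
    refine (nilpotent_local_iff hM hmax hab hle).mpr fun g hg hgQ => ?_
    obtain ⟨x, hx, hx1⟩ := Q.bot_or_exists_ne_one.resolve_left hQ1
    exact h g hg x (hQP hx) hx1
      (mul_inv_eq_iff_eq_mul.mpr (Subgroup.mem_centralizer_iff.mp hgQ x hx).symm)
  · intro h g hg x hx hx1 hfix
    have hQP : Subgroup.zpowers x ≤ P := Subgroup.zpowers_le.mpr hx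
    obtain ⟨f, hf⟩ := exists_below hM hmax.1.1 hQP
    refine (nilpotent_local_iff hM hmax hab hf).mp
      (h _ hQP (Subgroup.zpowers_ne_bot.mpr hx1) f hf) g hg ?_
    refine Subgroup.mem_centralizer_iff.mpr ?_
    rintro _ ⟨k, rfl⟩
    have : Commute g x := mul_inv_eq_iff_eq_mul.mp hfix
    exact ((this.zpow_right k).eq).symm

end Cfsg.Agent.BC85
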