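import Cfsg.Agent.BC85.Pairs.Stabilizer
import Cfsg.Agent.Lib.BlocksDefect.NormalDefect

/-!
# A Sylow subgroup of the stabilizer of a block of `C(Q)` is covered by a defect group
-/

set_option linter.unusedSectionVars false

namespace Cfsg.Agent.BC85

open BlocksCore BlocksDefect
open scoped Classical

universe u v

variable {G : Type u} [Group G] [Fintype G] {p : ℕ} [Fact p.Prime] {M : Ideal AlgInt}

/-- A sum over a set with an action of a `p`-group of a function that is invariant modulo the
ideal is congruent to the sum over the fixed points. -/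
theorem memLocalIdeal_sum_sub_fixed_mod (hM : IsPModular p M) {α R : Type*} [Group R]
    [MulAction R α] [Fintype α] [Finite R] (hR : IsPGroup p R) (f : α → ℂ)
    (hinv : ∀ (u : R) (a : α), MemLocalIdeal M (f (u • a) - f a))
    (hf : ∀ a, MemLocalRing M (f a)) [DecidablePred (· ∈ MulAction.fixedPoints R α)] :
    MemLocalIdeal M (∑ a, f a -
      ∑ a ∈ Finset.univ.filter (· ∈ MulAction.fixedPoints R α), f a) := by
  have := isPrime hM
  set out : α → α := fun a => Quotient.out (Quotient.mk (MulAction.orbitRel R α) a) with hout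
  have hrel : ∀ a, MemLocalIdeal M (f a - f (out a)) := by
    intro a
    obtain ⟨u, hu⟩ := MulAction.mem_orbit_iff.mp
      (MulAction.orbitRel_apply.mp (Quotient.mk_out (s := MulAction.orbitRel R α) a))
    show MemLocalIdeal M (f a - f (out a))
    rw [show out a = u • a from hu.symm, ← neg_sub]
    exact memLocalIdeal_neg (hinv u a)
  have key := memLocalIdeal_sum_sub_fixed (α := α) (P := R) hM hR (fun a => f (out a))
    (fun u a => congrArg (fun q => f (Quotient.out q))
      (Quotient.sound (MulAction.orbitRel_apply.mpr (MulAction.mem_orbit a u))))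
    (fun a => hf _)
  have e : ∑ a, f a - ∑ a ∈ Finset.univ.filter (· ∈ MulAction.fixedPoints R α), f a =
      (∑ a, (f a - f (out a))) -
        (∑ a ∈ Finset.univ.filter (· ∈ MulAction.fixedPoints R α), (f a - f (out a))) +
      (∑ a, f (out a) -
        ∑ a ∈ Finset.univ.filter (· ∈ MulAction.fixedPoints R α), f (out a)) := by
    rw [Finset.sum_sub_distrib, Finset.sum_sub_distrib]; ring
  rw [e]
  exact memLocalIdeal_add (memLocalIdeal_sub (memLocalIdeal_sum fun a _ => hrel a)
    (memLocalIdeal_sum fun a _ => hrel a)) key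

theorem classInd_comp_equiv {A : Type v} [Group A] (σ : A ≃* A) (n : A) :
    (fun h => classInd (σ n) (σ h)) = classInd n := by
  funext h
  by_cases hh : IsConj n h
  · rw [classInd_apply_of_isConj hh,
      classInd_apply_of_isConj (show IsConj (σ n) (σ h) from σ.toMonoidHom.map_isConj hh)]
  · rw [classInd_apply_of_not_isConj hh, classInd_apply_of_not_isConj]
    intro h'
    exact hh (by simpa using σ.symm.toMonoidHom.map_isConj h')

local notation "C[" Q "]" => Subgroup.centralizer (Q : Set G)

/-- A `p`-subgroup of the stabilizer fixes a class of `C(Q)` inside a defect class. -/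
theorem exists_fixed_class (hM : IsPModular p M) {Q T : Subgroup G} (hQ : IsPGroup p Q)
    (hQT : Q ≤ T) (hCT : C[Q] ≤ T) (hTN : T ≤ Subgroup.normalizer (Q : Set G))
    {f : Set (IrrCharacter C[Q])} (hf : IsPBlock M f) {F : Set (IrrCharacter T)}
    (hF : IsPBlock M F) (hval : subgroupBlockCoeff T F = bp ⟨Q, f⟩)
    (hinv : ∀ u ∈ T, ∀ g, bp ⟨Q, f⟩ (u * g * u⁻¹) = bp ⟨Q, f⟩ g) {c : T}
    (hu : ∀ χ ∈ F, ¬ MemLocalIdeal M (centralChar (χ : T → ℂ) c))
    {R : Subgroup T} (hR : IsPGroup p R) :
    ∃ n : C[Q], IsConj c (Subgroup.inclusion hCT n) ∧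
      ∀ r ∈ R, ∃ m : C[Q], Subgroup.inclusion hCT m * r ∈
        Subgroup.centralizer ({Subgroup.inclusion hCT n} : Set T) := by
  have := isPrime hM
  have hι := isCentHom_inclusion hQT hCT
  obtain ⟨θ, hθ⟩ := isPBlock_nonempty hf
  obtain ⟨χ, hχ⟩ := isPBlock_nonempty hF
  have hθ' : θ ∈ brSet M (Subgroup.inclusion hCT) (blockCoeff F) := by
    rw [← cset_subgroupBlockCoeff hCT, hval, cset, brSet, pullFun_bp, unitSet_blockCoeff hM]
    exact hθ
  set a := pullFun (Subgroup.inclusion hCT) (classInd c) with ha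
  have haI : IsIntClassFun M a :=
    isIntClassFun_pullFun hι (isBrFun_of_intClassFun (isIntClassFun_classInd c))
  have hua : ¬ MemLocalIdeal M (omega (θ : C[Q] → ℂ) a) := by
    intro h
    have h1 := brSet_rel hM (isPGroup_subgroupOf hQ T) hι hF hθ' hχ
      (isIntClassFun_classInd (M := M) c)
    rw [omega_classInd (irr_class χ)] at h1
    have h2 := memLocalIdeal_sub h h1
    rw [← ha, sub_sub_cancel] at h2
    exact hu χ hχ h2
  have : Finite (ConjClasses C[Q]) := Finite.of_surjective _ ConjClasses.mk_surjective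
  have := Fintype.ofFinite (ConjClasses C[Q])
  set w : ConjClasses C[Q] → ℂ := fun Cl =>
    a (Quotient.out Cl) * centralChar (θ : C[Q] → ℂ) (Quotient.out Cl) with hw
  have hwmk : ∀ n, w (ConjClasses.mk n) = a n * centralChar (θ : C[Q] → ℂ) n := by
    intro n
    have hn : IsConj (Quotient.out (ConjClasses.mk n)) n :=
      ConjClasses.mk_eq_mk_iff_isConj.mp (Quotient.out_eq _)
    simp only [hw]
    rw [classFun_eq_of_isConj haI.1 hn, ← omega_classInd (irr_class θ),
      ← omega_classInd (irr_class θ) n]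
    congr 2
    funext x
    by_cases hx : IsConj n x
    · rw [classInd_apply_of_isConj hx, classInd_apply_of_isConj (hn.trans hx)]
    · rw [classInd_apply_of_not_isConj hx,
        classInd_apply_of_not_isConj fun h => hx (hn.symm.trans h)]
  have hmem : ∀ (r : R) (z : G), z ∈ C[Q] ↔ ((r : T) : G)⁻¹⁻¹ * z * ((r : T) : G)⁻¹ ∈ C[Q] :=
    fun r => mem_normalizer_conj_iff
      (inv_mem (normalizer_le_normalizer_centralizer Q (hTN (r : T).2)))
  let σ : R → C[Q] ≃* C[Q] := fun r => conjIso C[Q] C[Q] ((r : T) : G)⁻¹ (hmem r)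
  have hσ : ∀ r n, ((σ r n : C[Q]) : G) = ((r : T) : G) * (n : G) * ((r : T) : G)⁻¹ := fun r n => by
    show ((r : T) : G)⁻¹⁻¹ * (n : G) * ((r : T) : G)⁻¹ = _
    rw [inv_inv]
  let _ : MulAction R (ConjClasses C[Q]) :=
    { smul := fun r Cl => ConjClasses.map (σ r).toMonoidHom Cl
      one_smul := fun Cl => by
        obtain ⟨n, rfl⟩ := ConjClasses.mk_surjective Cl
        exact congrArg ConjClasses.mk (Subtype.ext (by
          show ((σ 1 n : C[Q]) : G) = (n : G)
          rw [hσ]; simp))
      mul_smul := fun r s Cl => by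
        obtain ⟨n, rfl⟩ := ConjClasses.mk_surjective Cl
        exact congrArg ConjClasses.mk (Subtype.ext (by
          show ((σ (r * s) n : C[Q]) : G) = ((σ r (σ s n) : C[Q]) : G)
          simp [hσ, mul_assoc])) }
  have hwinv : ∀ (r : R) Cl, MemLocalIdeal M (w (r • Cl) - w Cl) := by
    intro r Cl
    obtain ⟨n, rfl⟩ := ConjClasses.mk_surjective Cl
    show MemLocalIdeal M (w (ConjClasses.mk (σ r n)) - w (ConjClasses.mk n))
    rw [hwmk, hwmk]
    have hai : a (σ r n) = a n := by
      show classInd c (Subgroup.inclusion hCT (σ r n)) = classInd c (Subgroup.inclusion hCT n)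
      rw [show Subgroup.inclusion hCT (σ r n) =
        (r : T) * Subgroup.inclusion hCT n * (r : T)⁻¹ from Subtype.ext (by simp [hσ])]
      exact isClassFunction_classInd c _ _
    rw [hai, ← mul_sub]
    refine memLocalIdeal_mul_left (haI.2 _) ?_
    have hstab : pullIrr (σ r) θ ∈ f := by
      have e : conjSet (hmem r) f = f := subgroupBlockCoeff_injective (funext fun g => by
        rw [subgroupBlockCoeff_conjSet, inv_inv]
        exact hinv _ (r : T).2 g)
      exact e ▸ Set.mem_image_of_mem _ hθ
    have hcc : centralChar (θ : C[Q] → ℂ) (σ r n) =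
        centralChar (pullIrr (σ r) θ : C[Q] → ℂ) n := by
      rw [← omega_classInd (irr_class θ), ← omega_pullIrr (σ r), classInd_comp_equiv,
        omega_classInd (irr_class (pullIrr (σ r) θ))]
    rw [hcc]
    exact sameBlock_of_mem hf hstab hθ n
  have key := memLocalIdeal_sum_sub_fixed_mod (α := ConjClasses C[Q]) (R := R) hM hR w hwinv
    (fun Cl => (localRing M).mul_mem (haI.2 _) (centralChar_memLocalRing θ _))
  rw [← BlocksDefect.omega_eq_sum_classes θ haI.1] at key
  obtain ⟨Cl, hCl, hne⟩ : ∃ Cl ∈ Finset.univ.filter (· ∈ MulAction.fixedPoints R (ConjClasses C[Q])),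
      ¬ MemLocalIdeal M (w Cl) := by
    by_contra hno
    push Not at hno
    exact hua (by simpa using memLocalIdeal_add key (memLocalIdeal_sum hno))
  obtain ⟨n, rfl⟩ := ConjClasses.mk_surjective Cl
  rw [hwmk] at hne
  refine ⟨n, ?_, fun r hr => ?_⟩
  · by_contra hc
    refine hne ?_
    rw [show a n = 0 from classInd_apply_of_not_isConj hc, zero_mul]
    exact memLocalIdeal_zero
  · have h1 : ConjClasses.mk (σ ⟨r, hr⟩ n) = ConjClasses.mk n :=
      (Finset.mem_filter.mp hCl).2 ⟨r, hr⟩
    obtain ⟨m, hm⟩ := isConj_iff.mp (ConjClasses.mk_eq_mk_iff_isConj.mp h1)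
    refine ⟨m, Subgroup.mem_centralizer_singleton_iff.mpr (Subtype.ext ?_)⟩
    have hm' : (m : G) * ((r : G) * (n : G) * (r : G)⁻¹) * (m : G)⁻¹ = (n : G) := by
      have := congrArg Subtype.val hm
      simpa [hσ] using this
    show (m : G) * (r : G) * (n : G) = (n : G) * ((m : G) * (r : G))
    calc (m : G) * (r : G) * (n : G) =
        ((m : G) * ((r : G) * (n : G) * (r : G)⁻¹) * (m : G)⁻¹) * ((m : G) * (r : G)) := by group
      _ = (n : G) * ((m : G) * (r : G)) := by rw [hm']

end Cfsg.Agent.BC85
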