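import Cfsg.Agent.BC85.Pairs.Maximal

/-!
# Brauer pairs of a subgroup, seen in the whole group
-/

set_option linter.unusedSectionVars false

namespace Cfsg.Agent.BC85

open BlocksCore BlocksDefect
open scoped Classical

universe u

variable {G : Type u} [Group G] [Fintype G] {p : ℕ} [Fact p.Prime] {M : Ideal AlgInt}
  {H : Subgroup G}

local notation "C[" Q "]" => Subgroup.centralizer (Q : Set G)

/-- `a` and `a'` are the same pair, `a'` read inside `H`. -/
structure IsPairLift (a' : BrauerPairIdx H) (a : BrauerPairIdx G) : Prop where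
  centLe : C[a.1] ≤ H
  cent : ∀ h : H, (h : G) ∈ C[a.1] ↔ h ∈ Subgroup.centralizer ((a'.1 : Subgroup H) : Set H)
  coeff : ∀ h : H, bp a (h : G) = bp a' h

/-- The isomorphism between the two centralizers. -/
def centEquiv (R' : Subgroup H) (R : Subgroup G) (hle : C[R] ≤ H)
    (hc : ∀ h : H, (h : G) ∈ C[R] ↔ h ∈ Subgroup.centralizer (R' : Set H)) :
    C[R] ≃* Subgroup.centralizer (R' : Set H) where
  toFun c := ⟨⟨c, hle c.2⟩, (hc _).mp c.2⟩
  invFun c := ⟨((c : H) : G), (hc _).mpr c.2⟩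
  left_inv _ := rfl
  right_inv _ := rfl
  map_mul' _ _ := rfl

theorem subgroupBlockCoeff_image_centEquiv (R' : Subgroup H) (R : Subgroup G) (hle : C[R] ≤ H)
    (hc : ∀ h : H, (h : G) ∈ C[R] ↔ h ∈ Subgroup.centralizer (R' : Set H))
    (f : Set (IrrCharacter (Subgroup.centralizer (R' : Set H)))) (h : H) :
    bp ⟨R, pullIrr (centEquiv R' R hle hc) '' f⟩ (h : G) = bp ⟨R', f⟩ h := by
  by_cases hh : h ∈ Subgroup.centralizer (R' : Set H)
  · refine Eq.trans (bp_apply_coe R _ ⟨(h : G), (hc h).mpr hh⟩) ?_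
    rw [blockCoeff_image_pullIrr]
    exact (bp_apply_coe R' f ⟨h, hh⟩).symm
  · rw [bp_of_notMem R' f hh, bp_of_notMem R _ fun h' => hh ((hc h).mp h')]

theorem exists_lift (hM : IsPModular p M) (a' : BrauerPairIdx H) (R : Subgroup G)
    (hle : C[R] ≤ H)
    (hc : ∀ h : H, (h : G) ∈ C[R] ↔ h ∈ Subgroup.centralizer ((a'.1 : Subgroup H) : Set H))
    (ha : IsPBlock M a'.2) :
    ∃ e : Set (IrrCharacter C[R]), IsPBlock M e ∧ IsPairLift a' ⟨R, e⟩ := by
  have := isPrime hM
  exact ⟨_, isPBlock_image_pullIrr _ ha, hle, hc,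
    subgroupBlockCoeff_image_centEquiv a'.1 R hle hc a'.2⟩

theorem exists_unlift (hM : IsPModular p M) (a : BrauerPairIdx G) (R' : Subgroup H)
    (hle : C[a.1] ≤ H)
    (hc : ∀ h : H, (h : G) ∈ C[a.1] ↔ h ∈ Subgroup.centralizer (R' : Set H))
    (ha : IsPBlock M a.2) :
    ∃ e : Set (IrrCharacter (Subgroup.centralizer (R' : Set H))),
      IsPBlock M e ∧ IsPairLift (⟨R', e⟩ : BrauerPairIdx H) a := by
  have := isPrime hM
  refine ⟨_, isPBlock_image_pullIrr (centEquiv R' a.1 hle hc).symm ha, hle, hc, fun h => ?_⟩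
  rw [← subgroupBlockCoeff_image_centEquiv R' a.1 hle hc, Set.image_image]
  simp only [pullIrr_symm, Set.image_id']

theorem IsPairLift.snd_eq {a' : BrauerPairIdx H} {a : BrauerPairIdx G} (h : IsPairLift a' a) :
    a.2 = pullIrr (centEquiv a'.1 a.1 h.centLe h.cent) '' a'.2 := by
  refine blockCoeff_injective (funext fun c => ?_)
  rw [← bp_apply_coe a.1 a.2 c]
  refine (h.coeff ⟨c, h.centLe c.2⟩).trans ?_
  rw [← subgroupBlockCoeff_image_centEquiv a'.1 a.1 h.centLe h.cent]
  exact bp_apply_coe a.1 _ c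

theorem IsPairLift.isPBlock_iff (hM : IsPModular p M) {a' : BrauerPairIdx H} {a : BrauerPairIdx G}
    (h : IsPairLift a' a) : IsPBlock M a.2 ↔ IsPBlock M a'.2 := by
  have := isPrime hM
  rw [h.snd_eq]
  refine ⟨fun hb => ?_, isPBlock_image_pullIrr _⟩
  have := isPBlock_image_pullIrr (centEquiv a'.1 a.1 h.centLe h.cent).symm hb
  rw [Set.image_image] at this
  have e : ∀ χ, pullIrr (centEquiv a'.1 a.1 h.centLe h.cent).symm
      (pullIrr (centEquiv a'.1 a.1 h.centLe h.cent) χ) = χ := fun χ =>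
    Subtype.ext (funext fun k => by rw [pullIrr_apply, pullIrr_apply, MulEquiv.apply_symm_apply])
  simpa only [e, Set.image_id'] using this

/-- The Brauer images correspond. -/
theorem IsPairLift.subset_cset_iff {a' : BrauerPairIdx H} {a : BrauerPairIdx G}
    (h : IsPairLift a' a) {β : G → ℂ} {β' : H → ℂ} (hβ : ∀ x : H, β (x : G) = β' x) :
    a.2 ⊆ cset M a.1 β ↔ a'.2 ⊆ cset M a'.1 β' := by
  set τ := centEquiv a'.1 a.1 h.centLe h.cent with hτ
  have e : pullFun (C[a.1]).subtype β =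
      fun c => pullFun (Subgroup.centralizer ((a'.1 : Subgroup H) : Set H)).subtype β' (τ c) :=
    funext fun c => hβ ⟨c, h.centLe c.2⟩
  have key : ∀ ξ, pullIrr τ ξ ∈ cset M a.1 β ↔ ξ ∈ cset M a'.1 β' := fun ξ => by
    show ¬ MemLocalIdeal M _ ↔ ¬ MemLocalIdeal M _
    rw [e, omega_pullIrr]
  rw [h.snd_eq, Set.image_subset_iff]
  exact forall₂_congr fun ξ _ => key ξ

/-- An exact lift: the subgroups correspond under the inclusion. -/
def IsExactLift (a' : BrauerPairIdx H) (a : BrauerPairIdx G) : Prop :=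
  IsPairLift a' a ∧ a.1 = a'.1.map H.subtype

theorem map_subtype_centralizer_iff (R' : Subgroup H) (h : H) :
    (h : G) ∈ C[(R'.map H.subtype : Subgroup G)] ↔ h ∈ Subgroup.centralizer (R' : Set H) := by
  simp only [Subgroup.mem_centralizer_iff, Subgroup.coe_map, Set.forall_mem_image, SetLike.mem_coe]
  exact forall₂_congr fun r _ => (Subtype.ext_iff (a1 := r * h) (a2 := h * r)).symm

theorem exists_exactLift (hM : IsPModular p M) (a' : BrauerPairIdx H)
    (hle : C[(a'.1.map H.subtype : Subgroup G)] ≤ H) (ha : IsPBlock M a'.2) :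
    ∃ a : BrauerPairIdx G, IsPBlock M a.2 ∧ IsExactLift a' a := by
  obtain ⟨e, he, hl⟩ := exists_lift hM a' _ hle (map_subtype_centralizer_iff a'.1) ha
  exact ⟨⟨_, e⟩, he, hl, rfl⟩

theorem exists_exactUnlift (hM : IsPModular p M) (a : BrauerPairIdx G) (hle : C[a.1] ≤ H)
    (haH : a.1 ≤ H) (ha : IsPBlock M a.2) :
    ∃ a' : BrauerPairIdx H, IsPBlock M a'.2 ∧ IsExactLift a' a := by
  have hmap : a.1 = (a.1.subgroupOf H).map H.subtype :=
    (Subgroup.map_subgroupOf_eq_of_le haH).symm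
  obtain ⟨e, he, hl⟩ := exists_unlift hM a (a.1.subgroupOf H) hle
    (fun h => (mem_centralizer_subgroupOf haH h).symm) ha
  exact ⟨⟨_, e⟩, he, hl, hmap⟩

theorem IsExactLift.unique {a' : BrauerPairIdx H} {a b : BrauerPairIdx G}
    (ha : IsExactLift a' a) (hb : IsExactLift a' b) : a = b := by
  refine pair_ext (ha.2.trans hb.2.symm) (funext fun g => ?_)
  by_cases hg : g ∈ H
  · exact (ha.1.coeff ⟨g, hg⟩).trans (hb.1.coeff ⟨g, hg⟩).symm
  · rw [bp_of_notMem a.1 a.2 fun h => hg (ha.1.centLe h),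
      bp_of_notMem b.1 b.2 fun h => hg (hb.1.centLe h)]

theorem IsExactLift.normalSubpair (hM : IsPModular p M) {a' b' : BrauerPairIdx H}
    {a b : BrauerPairIdx G} (ha : IsExactLift a' a) (hb : IsExactLift b' b)
    (h : NormalSubpairRel p M a' b') : NormalSubpairRel p M a b := by
  obtain ⟨hf, he, hle, hN, hinv, hsub⟩ := (isNormalSubpair_iff hM).mp h
  refine (isNormalSubpair_iff hM).mpr ⟨⟨?_, (ha.1.isPBlock_iff hM).mpr hf.2⟩,
    ⟨?_, (hb.1.isPBlock_iff hM).mpr he.2⟩, ?_, ?_, ?_, ?_⟩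
  · rw [ha.2]; exact hf.1.map _
  · rw [hb.2]; exact he.1.map _
  · rw [ha.2, hb.2]; exact Subgroup.map_mono hle
  · rw [ha.2, hb.2]
    exact (Subgroup.map_mono hN).trans (Subgroup.le_normalizer_map H.subtype)
  · intro u hu g
    rw [hb.2] at hu
    obtain ⟨u', hu', rfl⟩ := hu
    show bp a ((u' : G) * g * (u' : G)⁻¹) = bp a g
    by_cases hg : g ∈ H
    · rw [show (u' : G) * g * (u' : G)⁻¹ = ((u' * ⟨g, hg⟩ * u'⁻¹ : H) : G) from rfl, ha.1.coeff,
        show bp a g = bp a ((⟨g, hg⟩ : H) : G) from rfl, ha.1.coeff]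
      exact hinv u' hu' _
    · rw [bp_of_notMem a.1 a.2 fun h => hg (ha.1.centLe h),
        bp_of_notMem a.1 a.2 fun h => hg ?_]
      have := H.mul_mem (H.mul_mem (H.inv_mem u'.2) (ha.1.centLe h)) u'.2
      simpa [mul_assoc] using this
  · exact (hb.1.subset_cset_iff fun x => ha.1.coeff x).mpr hsub

theorem IsExactLift.subpairLE (hM : IsPModular p M) {a' b' : BrauerPairIdx H}
    {a : BrauerPairIdx G} (ha : IsExactLift a' a)
    (h : Relation.ReflTransGen (NormalSubpairRel p M) a' b') :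
    ∀ b, IsExactLift b' b → Relation.ReflTransGen (NormalSubpairRel p M) a b := by
  induction h with
  | refl => exact fun b hb => ha.unique hb ▸ Relation.ReflTransGen.refl
  | @tail c' b' hac hcb ih =>
    intro b hb
    have hle : C[(c'.1.map H.subtype : Subgroup G)] ≤ H := by
      refine le_trans (centralizer_anti ?_) ha.1.centLe
      rw [ha.2]
      exact Subgroup.map_mono (subpairLE_le (Q := a'.1) (f := a'.2) hac)
    obtain ⟨c, -, hc⟩ := exists_exactLift hM c' hle hcb.1.2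
    exact (ih c hc).tail (hc.normalSubpair hM hb hcb)

theorem IsExactLift.conj {a' : BrauerPairIdx H} {a : BrauerPairIdx G} (h : IsExactLift a' a)
    (x : H) : IsExactLift (conjPair x a') (conjPair (x : G) a) := by
  have hfst : (conjPair (x : G) a).1 = (conjPair x a').1.map H.subtype := by
    rw [conjPair_fst, conjPair_fst, h.2, Subgroup.map_map, Subgroup.map_map]
    rfl
  refine ⟨⟨fun g hg => ?_, fun k => ?_, fun k => ?_⟩, hfst⟩
  · have := h.1.centLe ((mem_centralizer_map_conj a.1 (x : G) g).mp hg)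
    have := H.mul_mem (H.mul_mem x.2 this) (H.inv_mem x.2)
    simpa [mul_assoc] using this
  · rw [hfst]
    exact map_subtype_centralizer_iff _ k
  · rw [bp_conjPair, bp_conjPair]
    exact h.1.coeff (x⁻¹ * k * x)

end Cfsg.Agent.BC85
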