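import Cfsg.Agent.BC85.Pairs.FullyCentralized
import Cfsg.Agent.BC85.Pairs.ClassFixed
import Cfsg.Agent.BC85.Pairs.Lift
import Cfsg.Agent.Lib.Fusion.Receptive

/-!
# The fusion system of a block exists and is saturated
-/

set_option linter.unusedSectionVars false

namespace Cfsg.Agent.BC85

open BlocksCore BlocksDefect
open scoped Classical

universe u

variable {G : Type u} [Group G] [Fintype G] {p : ℕ} [Fact p.Prime] {M : Ideal AlgInt}

local notation "C[" Q "]" => Subgroup.centralizer (Q : Set G)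

/-! ### Generalities -/

theorem natCard_eq_map_mul_inf_ker {A B : Type*} [Group A] [Finite A] [Group B] (φ : A →* B)
    (X : Subgroup A) :
    Nat.card X = Nat.card (X.map φ) * Nat.card (X ⊓ φ.ker : Subgroup A) := by
  have h1 := Subgroup.card_mul_index ((φ.comp X.subtype).ker)
  rw [Subgroup.index_ker] at h1
  have h2 : (φ.comp X.subtype).range = X.map φ := by
    rw [MonoidHom.range_comp, Subgroup.range_subtype]
  have h3 : Nat.card (φ.comp X.subtype).ker = Nat.card (X ⊓ φ.ker : Subgroup A) := by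
    rw [show (φ.comp X.subtype).ker = (X ⊓ φ.ker).subgroupOf X from by
      ext x; simp [Subgroup.mem_subgroupOf, MonoidHom.mem_ker]]
    exact card_subgroupOf inf_le_left
  rw [h2, h3] at h1
  rw [← h1, mul_comm]

/-- If a Sylow subgroup of `C` is `D`, the image of `D` exhausts every `p`-power dividing the
order of the image of `C`. -/
theorem card_dvd_map_of_sylow {A B : Type*} [Group A] [Finite A] [Group B] (φ : A →* B)
    {D C : Subgroup A} (hDC : D ≤ C) (hk : ¬ p ∣ Nat.card C / Nat.card D) {j : ℕ}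
    (hj : p ^ j ∣ Nat.card (C.map φ)) : p ^ j ∣ Nat.card (D.map φ) := by
  set k := Nat.card C / Nat.card D with hkdef
  obtain ⟨l, hl⟩ := Subgroup.card_dvd_of_le (inf_le_inf_right φ.ker hDC)
  have hC : Nat.card C = Nat.card D * k :=
    (Nat.mul_div_cancel' (Subgroup.card_dvd_of_le hDC)).symm
  rw [natCard_eq_map_mul_inf_ker φ C, natCard_eq_map_mul_inf_ker φ D, hl] at hC
  have hpos : 0 < Nat.card (D ⊓ φ.ker : Subgroup A) := Nat.card_pos
  have h1 : Nat.card (C.map φ) * l = Nat.card (D.map φ) * k :=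
    Nat.eq_of_mul_eq_mul_right hpos (by
      calc Nat.card (C.map φ) * l * Nat.card (D ⊓ φ.ker : Subgroup A)
          = Nat.card (C.map φ) * (Nat.card (D ⊓ φ.ker : Subgroup A) * l) := by ring
        _ = Nat.card (D.map φ) * k * Nat.card (D ⊓ φ.ker : Subgroup A) := by rw [hC]; ring)
  have h2 : p ^ j ∣ Nat.card (D.map φ) * k := h1 ▸ hj.mul_right l
  exact ((Nat.Prime.coprime_iff_not_dvd Fact.out).mpr hk |>.pow_left j).dvd_of_dvd_mul_right h2

/-- A `p`-subgroup with image as large as that of a Sylow subgroup maps onto a Sylow subgroup. -/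
theorem exists_sylow_map {A B : Type*} [Group A] [Finite A] [Group B] (φ : A →* B) (R : Sylow p A)
    {D : Subgroup A} (hD : IsPGroup p D)
    (h : Nat.card ((R : Subgroup A).map φ) ∣ Nat.card (D.map φ)) :
    ∃ S : Sylow p φ.range, (S : Subgroup φ.range) = (D.map φ).subgroupOf φ.range := by
  have key : ∀ X : Subgroup A, (X.map φ).subgroupOf φ.range = X.map φ.rangeRestrict := fun X => by
    have : X.map φ = (X.map φ.rangeRestrict).map φ.range.subtype := by
      rw [Subgroup.map_map, MonoidHom.subtype_comp_rangeRestrict]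
    rw [this, Subgroup.subgroupOf,
      Subgroup.comap_map_eq_self_of_injective (Subgroup.subtype_injective _)]
  have hcard : ∀ X : Subgroup A, Nat.card (X.map φ.rangeRestrict) = Nat.card (X.map φ) := fun X => by
    rw [← key]
    exact card_subgroupOf (Subgroup.map_le_range φ X)
  haveI : Finite φ.range := Finite.of_surjective _ φ.rangeRestrict_surjective
  have hidx : ¬ p ∣ ((D.map φ).subgroupOf φ.range).index := by
    intro hp
    rw [key] at hp
    have hR : ¬ p ∣ ((R : Subgroup A).map φ.rangeRestrict).index := fun h' =>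
      R.not_dvd_index (h'.trans (Subgroup.index_map_dvd (R : Subgroup A) φ.rangeRestrict_surjective))
    refine hR (hp.trans ?_)
    obtain ⟨d, hd⟩ := h
    rw [← hcard, ← hcard] at hd
    have e := (Subgroup.card_mul_index (D.map φ.rangeRestrict)).trans
      (Subgroup.card_mul_index ((R : Subgroup A).map φ.rangeRestrict)).symm
    rw [hd, mul_assoc] at e
    exact Dvd.intro_left d (Nat.eq_of_mul_eq_mul_left Nat.card_pos e)
  exact ⟨((hD.map φ).comap_of_injective _ (Subgroup.subtype_injective _)).toSylow hidx, rfl⟩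

/-! ### The stabilizer of a pair -/

/-- The stabilizer of a pair. -/
noncomputable def stabT (Q : Subgroup G) (f : Set (IrrCharacter C[Q])) : Subgroup G :=
  Subgroup.normalizer (Q : Set G) ⊓ invSubgroup (bp ⟨Q, f⟩)

theorem mem_stabT_iff {Q : Subgroup G} {f : Set (IrrCharacter C[Q])} {y : G} :
    y ∈ stabT Q f ↔ y ∈ Subgroup.normalizer (Q : Set G) ∧ StabilizesBlock C[Q] f y := by
  refine Subgroup.mem_inf.trans ?_
  rw [stabilizesBlock_iff]
  refine and_congr_right fun hy => ⟨fun h => ?_, fun h => ?_⟩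
  · refine ⟨normalizer_le_normalizer_centralizer Q hy, fun g => ?_⟩
    have := Subgroup.inv_mem _ h g
    rwa [inv_inv] at this
  · rw [← inv_inv y]
    exact Subgroup.inv_mem _ fun g => by rw [inv_inv]; exact h.2 g

theorem le_stabT (Q : Subgroup G) (f : Set (IrrCharacter C[Q])) :
    Q ⊔ C[Q] ≤ stabT Q f :=
  le_inf (sup_le Subgroup.le_normalizer (BlocksCore.centralizer_le_normalizer' Q))
    (le_invSubgroup_self Q f)

theorem conjPair_eq_self_iff {Q : Subgroup G} {f : Set (IrrCharacter C[Q])} {g : G} :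
    conjPair g (⟨Q, f⟩ : BrauerPairIdx G) = ⟨Q, f⟩ ↔ g ∈ stabT Q f := by
  constructor
  · intro h
    have hQ : Q.map (MulAut.conj g).toMonoidHom = Q := congrArg Sigma.fst h
    refine Subgroup.mem_inf.mpr ⟨Subgroup.mem_normalizer_iff.mpr fun x => ?_, ?_⟩
    · conv_rhs => rw [← hQ, mem_map_conj_iff]
      simp [mul_assoc]
    · rw [← inv_inv g]
      refine Subgroup.inv_mem _ fun y => ?_
      have := congrFun (congrArg bp h) y
      rw [bp_conjPair] at this
      rwa [inv_inv]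
  · intro h
    refine pair_ext (map_conj_of_mem_normalizer h.1) (funext fun y => ?_)
    rw [bp_conjPair]
    have := Subgroup.inv_mem _ h.2 y
    rwa [inv_inv] at this

variable {B : Set (IrrCharacter G)} {P : Subgroup G}
  {e : Set (IrrCharacter (Subgroup.centralizer (P : Set G)))}

theorem below_eq (hM : IsPModular p M) (he : IsBrauerPair p M P e) {a b : BrauerPairIdx G}
    (ha : SubpairLE p M a.1 a.2 P e) (hb : SubpairLE p M b.1 b.2 P e) (h : a.1 = b.1) : a = b := by
  obtain ⟨Q, f⟩ := a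
  obtain ⟨Q', f'⟩ := b
  dsimp only at h ha hb
  subst h
  rw [below_unique hM he ha hb]

theorem normalSubpair_of_below (hM : IsPModular p M) {Q R : Subgroup G}
    {f : Set (IrrCharacter C[Q])} {g : Set (IrrCharacter C[R])}
    (hg : IsBrauerPair p M R g) (hle : SubpairLE p M Q f R g)
    (hRN : R ≤ Subgroup.normalizer (Q : Set G)) : IsNormalSubpair p M Q f R g := by
  obtain ⟨f₀, hf₀⟩ := exists_normalSubpair hM hg (subpairLE_le hle) hRN
  obtain rfl : f₀ = f := below_unique hM hg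
    (Relation.ReflTransGen.single (show NormalSubpairRel p M ⟨Q, f₀⟩ ⟨R, g⟩ from hf₀)) hle
  exact hf₀

theorem normalizerPart_le_stabT (hM : IsPModular p M) (he : IsBrauerPair p M P e) {Q : Subgroup G}
    {f : Set (IrrCharacter C[Q])} (hle : SubpairLE p M Q f P e) :
    P ⊓ Subgroup.normalizer (Q : Set G) ≤ stabT Q f :=
  le_inf inf_le_right (exists_unit_below hM he hle
    (le_inf (subpairLE_le hle) Subgroup.le_normalizer) inf_le_left inf_le_right).1

/-! ### The system -/

theorem conjHom_range (Q : Subgroup G) {φ : Q →* G} {g : G} (hg : ∀ u : Q, φ u = g * u * g⁻¹) :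
    φ.range = Q.map (MulAut.conj g).toMonoidHom := by
  ext y
  constructor
  · rintro ⟨x, rfl⟩; exact ⟨x, x.2, (hg x).symm⟩
  · rintro ⟨x, hx, rfl⟩; exact ⟨⟨x, hx⟩, hg _⟩

/-- The fusion system of a block on a pair. -/
noncomputable def blockFusion (hM : IsPModular p M) (he : IsBrauerPair p M P e) : FusionSystem P where
  Hom Q := {φ | Q ≤ P ∧ ∃ g : G, (∀ u : Q, φ u = g * (u : G) * g⁻¹) ∧
    Q.map (MulAut.conj g).toMonoidHom ≤ P ∧
    ∃ f : Set (IrrCharacter C[Q]), SubpairLE p M Q f P e ∧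
      SubpairLE p M (Q.map (MulAut.conj g).toMonoidHom) (conjBlock Q g f) P e}
  le_of_mem := by
    rintro Q φ ⟨hQ, g, hg, hQg, -⟩
    exact ⟨hQ, fun x => hQg ⟨x, x.2, (hg x).symm⟩⟩
  injective_of_mem := by
    rintro Q φ ⟨-, g, hg, -⟩ a b hab
    rw [hg, hg] at hab
    exact Subtype.ext (mul_left_cancel (mul_right_cancel hab))
  conj_mem := by
    intro Q g hQ hg
    obtain ⟨f, hf⟩ := exists_below hM he hQ
    have h := subpairLE_conj hM (a := ⟨Q, f⟩) (b := ⟨P, e⟩) hf g
    rw [conjPair_fixed_of_mem e hg] at h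
    exact ⟨hQ, g, fun u => rfl, subpairLE_le (Q := (conjPair g ⟨Q, f⟩).1)
      (f := (conjPair g ⟨Q, f⟩).2) h, f, hf, h⟩
  comp_mem := by
    rintro Q R φ ψ ⟨hQ, g, hg, hQg, f, hf, hgf⟩ ⟨hR, k, hk, hRk, f', hf', hkf⟩ h
    have hQgR : Q.map (MulAut.conj g).toMonoidHom ≤ R := by
      rintro _ ⟨x, hx, rfl⟩
      have := h ⟨x, hx⟩
      rwa [hg] at this
    have h1 : Relation.ReflTransGen (NormalSubpairRel p M)
        (conjPair k (conjPair g ⟨Q, f⟩)) ⟨P, e⟩ := below_conj_of_le hM he hf' hgf hQgR hkf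
    rw [conjPair_conjPair] at h1
    refine ⟨hQ, k * g, fun u => ?_, subpairLE_le (Q := (conjPair (k * g) ⟨Q, f⟩).1)
      (f := (conjPair (k * g) ⟨Q, f⟩).2) h1, f, hf, h1⟩
    show ψ (φ.codRestrict R h u) = _
    rw [hk]
    show k * φ u * k⁻¹ = _
    rw [hg, mul_inv_rev]
    simp only [mul_assoc]
  inv_mem := by
    rintro Q φ ⟨hQ, g, hg, hQg, f, hf, hgf⟩
    refine ⟨conjHom φ.range g⁻¹, ?_, fun x => ?_⟩
    · suffices ∀ R : Subgroup G, R = Q.map (MulAut.conj g).toMonoidHom → R ≤ P ∧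
          ∃ k : G, (∀ u : R, conjHom R g⁻¹ u = k * (u : G) * k⁻¹) ∧
            R.map (MulAut.conj k).toMonoidHom ≤ P ∧
            ∃ f' : Set (IrrCharacter C[R]), SubpairLE p M R f' P e ∧
              SubpairLE p M (R.map (MulAut.conj k).toMonoidHom) (conjBlock R k f') P e from
        this _ (conjHom_range Q hg)
      rintro R rfl
      have h1 : Relation.ReflTransGen (NormalSubpairRel p M)
          (conjPair g⁻¹ (conjPair g ⟨Q, f⟩)) ⟨P, e⟩ := by
        rw [conjPair_conjPair, inv_mul_cancel, conjPair_one]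
        exact hf
      exact ⟨hQg, g⁻¹, fun u => rfl, subpairLE_le
        (Q := (conjPair g⁻¹ (conjPair g ⟨Q, f⟩)).1)
        (f := (conjPair g⁻¹ (conjPair g ⟨Q, f⟩)).2) h1, _, hgf, h1⟩
    · show g⁻¹ * φ x * g⁻¹⁻¹ = x
      rw [hg]
      group

theorem isBlockFusionSystemOn_blockFusion (hM : IsPModular p M)
    (hmax : IsMaximalBrauerPair p M B P e) :
    IsBlockFusionSystemOn p M B P e (blockFusion hM hmax.1.1) :=
  ⟨hmax, fun _ _ => Iff.rfl⟩

variable {F : FusionSystem P}

theorem autGroup_eq (hM : IsPModular p M) (hF : IsBlockFusionSystemOn p M B P e F) {Q : Subgroup G}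
    {f : Set (IrrCharacter C[Q])} (hle : SubpairLE p M Q f P e) :
    F.autGroup Q = autInducedBy (stabT Q f) Q := by
  have hQP := subpairLE_le hle
  ext α
  rw [Fusion.mem_autGroup_iff_hom hQP, hF.2, Fusion.mem_autInducedBy]
  constructor
  · rintro ⟨-, g, hg, -, f', hf', hgf⟩
    obtain rfl : f' = f := below_unique hM hF.1.1.1 hf' hle
    refine ⟨g, conjPair_eq_self_iff.mp (below_eq hM hF.1.1.1 (a := conjPair g ⟨Q, f'⟩)
      (b := ⟨Q, f'⟩) hgf hle ?_), hg⟩
    exact map_conj_of_mem_normalizer (Fusion.mem_normalizer_of_induces hg)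
  · rintro ⟨g, hg, hα⟩
    have hfix := conjPair_eq_self_iff.mpr hg
    refine ⟨hQP, g, hα, (map_conj_of_mem_normalizer hg.1).le.trans hQP, f, hle, ?_⟩
    show Relation.ReflTransGen (NormalSubpairRel p M) (conjPair g ⟨Q, f⟩) _
    rw [hfix]
    exact hle

/-- Fully automized, if the normalizer part is a defect group of the block of the stabilizer. -/
theorem fullyAutomized_of_defect (hM : IsPModular p M) (hF : IsBlockFusionSystemOn p M B P e F)
    {Q : Subgroup G} {f : Set (IrrCharacter C[Q])} (hle : SubpairLE p M Q f P e)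
    {F' : Set (IrrCharacter (stabT Q f))} (hF' : IsPBlock M F')
    (hval : subgroupBlockCoeff (stabT Q f) F' = bp ⟨Q, f⟩)
    (hD : IsDefectGroup p M F' ((P ⊓ Subgroup.normalizer (Q : Set G)).subgroupOf (stabT Q f))) :
    F.IsFullyAutomized p Q := by
  have := isPrime hM
  have he := hF.1.1.1
  have hQP := subpairLE_le hle
  refine ⟨hQP, ?_⟩
  have hQT : Q ≤ stabT Q f := le_sup_left.trans (le_stabT Q f)
  have hCT : C[Q] ≤ stabT Q f := le_sup_right.trans (le_stabT Q f)
  have hTN : stabT Q f ≤ Subgroup.normalizer (Q : Set G) := inf_le_left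
  set φ : stabT Q f →* MulAut Q := (Fusion.conjAutHom (stabT Q f) Q).comp
    (Subgroup.inclusion (le_inf le_rfl hTN)) with hφ
  have hφapp : ∀ (t : stabT Q f) (x : Q), (φ t x : G) = (t : G) * x * (t : G)⁻¹ :=
    fun t x => rfl
  have hrange : φ.range = autInducedBy (stabT Q f) Q := by
    ext α
    rw [Fusion.mem_autInducedBy]
    constructor
    · rintro ⟨t, rfl⟩; exact ⟨t, t.2, hφapp t⟩
    · rintro ⟨g, hg, hα⟩
      exact ⟨⟨g, hg⟩, MulEquiv.ext fun x => Subtype.ext ((hφapp _ x).trans (hα x).symm)⟩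
  have himg : ((P ⊓ Subgroup.normalizer (Q : Set G)).subgroupOf (stabT Q f)).map φ =
      autInducedBy P Q := by
    ext α
    rw [Fusion.mem_autInducedBy]
    constructor
    · rintro ⟨t, ht, rfl⟩; exact ⟨t, ht.1, hφapp t⟩
    · rintro ⟨g, hg, hα⟩
      have hg' : g ∈ P ⊓ Subgroup.normalizer (Q : Set G) :=
        ⟨hg, Fusion.mem_normalizer_of_induces hα⟩
      exact ⟨⟨g, normalizerPart_le_stabT hM he hle hg'⟩, hg',
        MulEquiv.ext fun x => Subtype.ext ((hφapp _ x).trans (hα x).symm)⟩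
  rw [autGroup_eq hM hF hle, ← hrange, ← himg]
  obtain ⟨c, hc, hS⟩ := isDefectGroup_iff.mp hD
  obtain ⟨R⟩ : Nonempty (Sylow p (stabT Q f)) := Sylow.nonempty
  refine exists_sylow_map φ R (isPGroup_of_isDefectGroup hD) ?_
  have hQp : IsPGroup p Q := (subpairLE_isBrauerPair hle he).1
  obtain ⟨n, hn, hfix⟩ := exists_fixed_class hM hQp hQT hCT hTN
    (subpairLE_isBrauerPair hle he).2 hF' hval (fun u hu => hu.2) hc.2.2 R.isPGroup'
  have hker : ∀ m : C[Q], φ (Subgroup.inclusion hCT m) = 1 := fun m =>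
    MulEquiv.ext fun x => Subtype.ext (by
      rw [hφapp]
      show (m : G) * (x : G) * (m : G)⁻¹ = (x : G)
      exact mul_inv_eq_iff_eq_mul.mpr (Subgroup.mem_centralizer_iff.mp m.2 x x.2).symm)
  obtain ⟨j, hj⟩ := IsPGroup.iff_card.mp (R.isPGroup'.map φ)
  rw [hj]
  refine card_dvd_map_of_sylow φ hS.le_centralizer (index_sylowCent_not_dvd hS) ?_
  rw [← hj]
  obtain ⟨t, ht⟩ := isConj_iff.mp hn
  have hle' : (R : Subgroup (stabT Q f)).map φ ≤
      ((Subgroup.centralizer ({c} : Set (stabT Q f))).map φ).map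
        (MulAut.conj (φ t)).toMonoidHom := by
    rintro _ ⟨r, hr, rfl⟩
    obtain ⟨m, hm⟩ := hfix r hr
    refine ⟨φ (t⁻¹ * (Subgroup.inclusion hCT m * r) * t), ⟨_, ?_, rfl⟩, ?_⟩
    · show t⁻¹ * (Subgroup.inclusion hCT m * r) * t ∈ Subgroup.centralizer ({c} : Set (stabT Q f))
      rw [Subgroup.mem_centralizer_singleton_iff] at hm ⊢
      rw [← ht] at hm
      calc t⁻¹ * (Subgroup.inclusion hCT m * r) * t * c
          = t⁻¹ * ((Subgroup.inclusion hCT m * r) * (t * c * t⁻¹)) * t := by group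
        _ = t⁻¹ * ((t * c * t⁻¹) * (Subgroup.inclusion hCT m * r)) * t := by rw [hm]
        _ = c * (t⁻¹ * (Subgroup.inclusion hCT m * r) * t) := by group
    · show φ t * φ (t⁻¹ * (Subgroup.inclusion hCT m * r) * t) * (φ t)⁻¹ = φ r
      rw [map_mul φ (t⁻¹ * _) t, map_mul φ t⁻¹, map_mul φ _ r, map_inv, hker]
      group
  exact (Subgroup.card_dvd_of_le hle').trans (dvd_of_eq (natCard_map_conj _ _))

/-- A fully centralized subgroup is receptive. -/
theorem receptive_of_defect (hM : IsPModular p M) (hF : IsBlockFusionSystemOn p M B P e F)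
    {Q : Subgroup G} {f : Set (IrrCharacter C[Q])} (hle : SubpairLE p M Q f P e)
    (hfc : IsDefectGroup p M f ((P ⊓ C[Q]).subgroupOf C[Q])) : F.IsReceptive Q := by
  have := isPrime hM
  have he := hF.1.1.1
  have hQP := subpairLE_le hle
  have hf := subpairLE_isBrauerPair hle he
  refine Fusion.isReceptive_of hQP ?_
  intro R f₀ hiso M₀ hRM hM₀
  obtain ⟨⟨φ, hφ, hφf⟩, himf⟩ := hiso
  obtain ⟨hRP, g, hg, -, fR, hfR, hgfR⟩ := (hF.2 R φ).mp hφ
  have hf₀ : ∀ x ∈ R, f₀ x = g * x * g⁻¹ := fun x hx => (hφf ⟨x, hx⟩).symm.trans (hg ⟨x, hx⟩)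
  have hRg : R.map (MulAut.conj g).toMonoidHom = Q := by
    refine SetLike.coe_injective ?_
    rw [← himf]
    ext y
    exact ⟨fun ⟨x, hx, hy⟩ => ⟨x, hx, (hf₀ x hx).trans hy⟩,
      fun ⟨x, hx, hy⟩ => ⟨x, hx, (hf₀ x hx).symm.trans hy⟩⟩
  have hQf : conjPair g (⟨R, fR⟩ : BrauerPairIdx G) = ⟨Q, f⟩ :=
    below_eq hM he (b := ⟨Q, f⟩) hgfR hle hRg
  obtain ⟨eM, heM⟩ := exists_below hM he hM₀.1
  have haM : IsBrauerPair p M M₀ eM := subpairLE_isBrauerPair heM he
  obtain ⟨k, hk⟩ := exists_below hM haM hRM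
  obtain rfl : k = fR := below_unique hM he (Relation.ReflTransGen.trans hk heM) hfR
  obtain ⟨b, hbdef⟩ : ∃ b, b = conjPair g (⟨M₀, eM⟩ : BrauerPairIdx G) := ⟨_, rfl⟩
  have hQb : Relation.ReflTransGen (NormalSubpairRel p M) ⟨Q, f⟩ b := by
    rw [hbdef, ← hQf]
    exact subpairLE_conj hM (a := ⟨R, k⟩) (b := ⟨M₀, eM⟩) hk g
  have hb1 : b.1 = M₀.map (MulAut.conj g).toMonoidHom := by rw [hbdef]; rfl
  have hbpair : IsBrauerPair p M b.1 b.2 := by
    rw [hbdef]; exact isBrauerPair_conj hM (a := ⟨M₀, eM⟩) haM g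
  have hbN : b.1 ≤ Subgroup.normalizer (Q : Set G) := by
    rw [hb1, ← hRg]
    rintro _ ⟨m, hm, rfl⟩
    exact Subgroup.le_normalizer_map (MulAut.conj g).toMonoidHom ⟨m, (hM₀.2 m hm).1, rfl⟩
  set N := P ⊓ Subgroup.normalizer (Q : Set G) with hN
  set K := N ⊔ C[Q] with hK
  have hNK : N ≤ K := le_sup_left
  have hCK : C[Q] ≤ K := le_sup_right
  have hQN : Q ≤ N := le_inf hQP Subgroup.le_normalizer
  have hQK : Q ≤ K := hQN.trans hNK
  have hKN : K ≤ Subgroup.normalizer (Q : Set G) :=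
    sup_le inf_le_right (BlocksCore.centralizer_le_normalizer' Q)
  have hKinv : K ≤ invSubgroup (bp ⟨Q, f⟩) :=
    sup_le ((normalizerPart_le_stabT hM he hle).trans inf_le_right)
      (le_sup_right.trans (le_invSubgroup_self Q f))
  have hbK : b.1 ≤ K := by
    rw [hb1]
    rintro _ ⟨m, hm, rfl⟩
    obtain ⟨hmN, h, hhP, hh⟩ := hM₀.2 m hm
    have hc : h⁻¹ * (g * m * g⁻¹) ∈ C[Q] := by
      refine Subgroup.mem_centralizer_iff.mpr fun q hq => ?_
      have : q ∈ R.map (MulAut.conj g).toMonoidHom := by rw [hRg]; exact hq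
      obtain ⟨x, hx, rfl⟩ := this
      have h1 := hh x hx
      rw [hf₀ x hx, hf₀ _ (Fusion.conj_mem_of_mem_normalizer hmN hx)] at h1
      show g * x * g⁻¹ * (h⁻¹ * (g * m * g⁻¹)) = h⁻¹ * (g * m * g⁻¹) * (g * x * g⁻¹)
      calc g * x * g⁻¹ * (h⁻¹ * (g * m * g⁻¹))
          = h⁻¹ * (h * (g * x * g⁻¹) * h⁻¹) * (g * m * g⁻¹) := by group
        _ = h⁻¹ * (g * (m * x * m⁻¹) * g⁻¹) * (g * m * g⁻¹) := by rw [h1]
        _ = h⁻¹ * (g * m * g⁻¹) * (g * x * g⁻¹) := by group
    have hgm : g * m * g⁻¹ ∈ Subgroup.normalizer (Q : Set G) :=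
      hbN (by rw [hb1]; exact ⟨m, hm, rfl⟩)
    have hhN : h ∈ Subgroup.normalizer (Q : Set G) := by
      have := (Subgroup.normalizer (Q : Set G)).mul_mem hgm
        ((Subgroup.normalizer (Q : Set G)).inv_mem (BlocksCore.centralizer_le_normalizer' Q hc))
      simpa [mul_assoc] using this
    show g * m * g⁻¹ ∈ K
    rw [show g * m * g⁻¹ = h * (h⁻¹ * (g * m * g⁻¹)) by group]
    exact mul_mem (hNK ⟨hhP, hhN⟩) (hCK hc)
  obtain ⟨E, hE, hEval⟩ := exists_block_stable hM hf.1 hQK hCK hKN hf.2 fun u hu => hKinv hu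
  have hEK : ∀ x : K, bp ⟨Q, f⟩ (x : G) = blockCoeff E x := fun x => by
    rw [← hEval, subgroupBlockCoeff_coe]
  obtain ⟨-, c₀, hc₀, hu₀⟩ := exists_unit_below hM he hle hQN inf_le_left inf_le_right
  obtain ⟨D, hD, hND⟩ := exists_defectGroup_ge_of_unit hM hE
    (isPGroup_subgroupOf (he.1.to_le (inf_le_left : N ≤ P)) K)
    (c := ⟨c₀, hCK (centralizer_anti hQN hc₀)⟩) ((mem_centralizer_subgroupOf hNK _).mpr hc₀)
    (by rw [← hEK]; exact hu₀)
  set ε : K →* MulAut Q := (Fusion.conjAutHom ⊤ Q).comp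
    (Subgroup.inclusion (le_inf le_top hKN)) with hε
  have hεker : ∀ x : K, x ∈ ε.ker ↔ (x : G) ∈ C[Q] := fun x => by
    rw [MonoidHom.mem_ker, Subgroup.mem_centralizer_iff]
    constructor
    · intro h q hq
      have := congrArg Subtype.val (DFunLike.congr_fun h ⟨q, hq⟩)
      exact (mul_inv_eq_iff_eq_mul.mp this).symm
    · intro h
      refine MulEquiv.ext fun q => Subtype.ext ?_
      exact mul_inv_eq_iff_eq_mul.mpr (h q q.2).symm
  have hcardD : Nat.card D ≤ Nat.card (N.subgroupOf K) := by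
    rw [natCard_eq_map_mul_inf_ker ε D, natCard_eq_map_mul_inf_ker ε (N.subgroupOf K)]
    refine Nat.mul_le_mul ?_ ?_
    · have htop : N.subgroupOf K ⊔ C[Q].subgroupOf K = ⊤ := by
        rw [← Subgroup.subgroupOf_sup hNK hCK, ← hK, Subgroup.subgroupOf_self]
      have hbot : (C[Q].subgroupOf K).map ε = ⊥ :=
        (Subgroup.map_eq_bot_iff _).mpr fun x hx => (hεker x).mpr hx
      refine Subgroup.card_le_of_le (le_trans (Subgroup.map_mono le_top) ?_)
      rw [← htop, Subgroup.map_sup, hbot, sup_bot_eq]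
    · obtain ⟨g₀, hg₀, hS⟩ := isDefectGroup_iff.mp hD
      have hgC : (g₀ : G) ∈ C[Q] := by
        by_contra h
        refine hg₀.2.1 ?_
        rw [← hEK, bp_of_notMem Q f h]
        exact memLocalIdeal_zero
      set S := ((D ⊓ ε.ker).map K.subtype).subgroupOf C[Q] with hSdef
      have hScard : Nat.card S = Nat.card (D ⊓ ε.ker : Subgroup K) := by
        rw [hSdef, card_subgroupOf]
        · exact (Nat.card_congr
            ((D ⊓ ε.ker).equivMapOfInjective _ K.subtype_injective).toEquiv).symm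
        · rintro _ ⟨x, hx, rfl⟩
          exact (hεker x).mp hx.2
      have hSp : IsPGroup p S :=
        isPGroup_subgroupOf (((isPGroup_of_isDefectGroup hD).to_le inf_le_left).map _) _
      have hcen : (⟨g₀, hgC⟩ : C[Q]) ∈ Subgroup.centralizer (S : Set C[Q]) := by
        refine Subgroup.mem_centralizer_iff.mpr ?_
        rintro s ⟨x, hx, hxs⟩
        refine Subtype.ext ?_
        show (s : G) * (g₀ : G) = (g₀ : G) * (s : G)
        rw [show (s : G) = (x : G) from hxs.symm]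
        exact congrArg Subtype.val (Subgroup.mem_centralizer_iff.mp hS.mem_centralizer x hx.1)
      have hdvd := (subConj_defectGroup_of_coeff hM hf.2 hfc hSp hcen (by
        rw [← bp_apply_coe Q f, hEK]; exact hg₀.2.1)).card_dvd
      rw [hScard, card_subgroupOf inf_le_right] at hdvd
      refine (Nat.le_of_dvd Nat.card_pos hdvd).trans ?_
      rw [← card_subgroupOf (show P ⊓ C[Q] ≤ K from inf_le_right.trans hCK)]
      refine Subgroup.card_le_of_le fun x hx => ⟨?_, (hεker x).mpr hx.2⟩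
      exact ⟨hx.1, hKN x.2⟩
  obtain rfl : N.subgroupOf K = D := Subgroup.eq_of_le_of_card_ge hND hcardD
  -- the two pairs read inside `K`
  have hpairK : ∀ (a : BrauerPairIdx G), Q ≤ a.1 → a.1 ≤ K → IsBrauerPair p M a.1 a.2 →
      SubpairLE p M Q f a.1 a.2 →
      ∃ a' : BrauerPairIdx K, IsExactLift a' a ∧ IsBrauerPairOf p M E a'.1 a'.2 := by
    intro a hQa haK hapair hQle
    obtain ⟨a', ha'B, ha'⟩ :=
      exists_exactUnlift hM a ((centralizer_anti hQa).trans hCK) haK hapair.2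
    refine ⟨a', ha', (isBrauerPairOf_iff hM).mpr ⟨⟨?_, ha'B⟩, hE, ?_⟩⟩
    · have h1 := hapair.1
      rw [ha'.2] at h1
      exact h1.of_equiv ((a'.1).equivMapOfInjective _ K.subtype_injective).symm
    · obtain ⟨-, -, -, -, -, hsub⟩ := (isNormalSubpair_iff hM).mp
        (normalSubpair_of_below hM hapair hQle (haK.trans hKN))
      exact (ha'.1.subset_cset_iff hEK).mp hsub
  obtain ⟨b', hb', hb'E⟩ := hpairK b (subpairLE_le hQb) hbK hbpair hQb
  obtain ⟨eN, heN⟩ := exists_below hM he (inf_le_left : N ≤ P)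
  have hQN' : SubpairLE p M Q f N eN := by
    obtain ⟨k', hk'⟩ := exists_below hM (subpairLE_isBrauerPair heN he) hQN
    obtain rfl : k' = f := below_unique hM he (Relation.ReflTransGen.trans hk' heN) hle
    exact hk'
  obtain ⟨⟨N', eN'⟩, hN', hN'E⟩ :=
    hpairK ⟨N, eN⟩ hQN hNK (subpairLE_isBrauerPair heN he) hQN'
  obtain rfl : N' = N.subgroupOf K := by
    have h1 : N = N'.map K.subtype := hN'.2
    rw [h1, Subgroup.subgroupOf, Subgroup.comap_map_eq_self_of_injective K.subtype_injective]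
  obtain ⟨x, hx⟩ := exists_conj_below hM (isMaximal_of_defect hM hD hN'E) hb'E
  have h2 : Relation.ReflTransGen (NormalSubpairRel p M) (conjPair (x : G) b) ⟨P, e⟩ :=
    (IsExactLift.subpairLE hM (hb'.conj x) hx ⟨N, eN⟩ hN').trans heN
  obtain ⟨n, hn, c, hc, hxe⟩ : ∃ n ∈ N, ∃ c ∈ C[Q], n * c = (x : G) := by
    have hx2 : (x : G) ∈ ((N ⊔ C[Q] : Subgroup G) : Set G) := x.2
    rw [Subgroup.coe_mul_of_left_le_normalizer_right N C[Q]
      ((inf_le_right : N ≤ _).trans (normalizer_le_normalizer_centralizer Q))] at hx2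
    exact hx2
  have h3 : Relation.ReflTransGen (NormalSubpairRel p M) (conjPair (c * g) ⟨M₀, eM⟩) ⟨P, e⟩ := by
    have h4 := subpairLE_conj hM (a := conjPair (x : G) b) (b := ⟨P, e⟩) h2 n⁻¹
    rw [conjPair_fixed_of_mem e (P.inv_mem hn.1), hbdef, conjPair_conjPair, conjPair_conjPair,
      ← hxe, show n⁻¹ * (n * c) * g = c * g by group] at h4
    exact h4
  refine ⟨fun y => (c * g) * y * (c * g)⁻¹, ⟨conjHom M₀ (c * g), (hF.2 M₀ _).mpr
    ⟨hM₀.1, c * g, fun u => rfl, subpairLE_le (Q := (conjPair (c * g) ⟨M₀, eM⟩).1)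
      (f := (conjPair (c * g) ⟨M₀, eM⟩).2) h3, eM, heM, h3⟩, fun u => rfl⟩, fun y hy => ?_⟩
  rw [hf₀ y hy]
  have hcq : g * y * g⁻¹ ∈ Q := by rw [← hRg]; exact ⟨y, hy, rfl⟩
  calc c * g * y * (c * g)⁻¹ = c * (g * y * g⁻¹) * c⁻¹ := by group
    _ = g * y * g⁻¹ := mul_inv_eq_iff_eq_mul.mpr (Subgroup.mem_centralizer_iff.mp hc _ hcq).symm

/-- The centralizer part is a defect group if the normalizer part is one of the stabilizer. -/
theorem centralizerPart_defect_of_normalizerPart (hM : IsPModular p M)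
    (he : IsBrauerPair p M P e) {Q : Subgroup G} {f : Set (IrrCharacter C[Q])}
    (hle : SubpairLE p M Q f P e) {F' : Set (IrrCharacter (stabT Q f))} (hF' : IsPBlock M F')
    (hval : subgroupBlockCoeff (stabT Q f) F' = bp ⟨Q, f⟩)
    (hD : IsDefectGroup p M F' ((P ⊓ Subgroup.normalizer (Q : Set G)).subgroupOf (stabT Q f))) :
    IsDefectGroup p M f ((P ⊓ C[Q]).subgroupOf C[Q]) := by
  have := isPrime hM
  have hf := subpairLE_isBrauerPair hle he
  have hCT : C[Q] ≤ stabT Q f := le_sup_right.trans (le_stabT Q f)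
  obtain ⟨D, hD', hge⟩ := centralizerPart_le_defectGroup hM he (subpairLE_le hle) hle
  obtain ⟨g₀, hg₀, hS⟩ := isDefectGroup_iff.mp hD'
  set S := (D.map (C[Q]).subtype).subgroupOf (stabT Q f) with hSdef
  have hcen : Subgroup.inclusion hCT g₀ ∈ Subgroup.centralizer (S : Set (stabT Q f)) := by
    refine Subgroup.mem_centralizer_iff.mpr ?_
    rintro s ⟨d, hd, hds⟩
    refine Subtype.ext ?_
    show (s : G) * (g₀ : G) = (g₀ : G) * (s : G)
    rw [show (s : G) = (d : G) from hds.symm]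
    exact congrArg Subtype.val (Subgroup.mem_centralizer_iff.mp hS.mem_centralizer d hd)
  obtain ⟨t, ht⟩ := subConj_defectGroup_of_coeff hM hF' hD
    (isPGroup_subgroupOf (hS.isPGroup.map _) _) hcen (by
      rw [← subgroupBlockCoeff_coe (stabT Q f) F', hval]
      show ¬ MemLocalIdeal M (bp ⟨Q, f⟩ (g₀ : G))
      rw [bp_apply_coe]
      exact hg₀.2.1)
  have hcard : Nat.card D ≤ Nat.card ((P ⊓ C[Q]).subgroupOf C[Q]) := by
    rw [card_subgroupOf inf_le_right]
    refine le_trans (le_of_eq ?_) (Subgroup.card_le_of_le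
      (show (D.map (C[Q]).subtype).map (MulAut.conj (t : G)).toMonoidHom ≤ P ⊓ C[Q] from ?_))
    · rw [natCard_map_conj]
      exact Nat.card_congr (D.equivMapOfInjective _ (Subgroup.subtype_injective _)).toEquiv
    · rintro _ ⟨d, hd, rfl⟩
      have hdC : d ∈ C[Q] := Subgroup.map_subtype_le _ hd
      refine ⟨(ht ⟨⟨d, hCT hdC⟩, hd, rfl⟩).1, ?_⟩
      exact Fusion.conj_mem_of_mem_normalizer
        (normalizer_le_normalizer_centralizer Q t.2.1) hdC
  rw [Subgroup.eq_of_le_of_card_ge hge hcard]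
  exact hD'

/-- The fusion system of a block is saturated. -/
theorem blockFusion_isSaturated (hM : IsPModular p M) (hF : IsBlockFusionSystemOn p M B P e F) :
    F.IsSaturated p := by
  intro Q hQ
  obtain ⟨f, hle⟩ := exists_below hM hF.1.1.1 hQ
  obtain ⟨x, hx, hxD⟩ := exists_conj_normalizerPart_defect hM hF.1 hle
    (T := stabT Q f) (fun y => mem_stabT_iff)
  obtain ⟨F', hF', hval', hD'⟩ := hxD (stabT _ _) (fun y => mem_stabT_iff)
  have hval : subgroupBlockCoeff (stabT (Q.map (MulAut.conj x).toMonoidHom) (conjBlock Q x f)) F' =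
      bp ⟨_, conjBlock Q x f⟩ := funext fun y => by
    by_cases hy : y ∈ stabT (Q.map (MulAut.conj x).toMonoidHom) (conjBlock Q x f)
    · exact (subgroupBlockCoeff_coe _ F' ⟨y, hy⟩).trans (hval' ⟨y, hy⟩)
    · rw [subgroupBlockCoeff_of_notMem _ _ hy, bp_of_notMem _ _ fun h =>
        hy (le_sup_right.trans (le_stabT _ _) h)]
  exact ⟨_, (fusion_isConj_iff hF).mpr ⟨x, rfl, f, hle, hx⟩,
    fullyAutomized_of_defect hM hF hx hF' hval hD',
    receptive_of_defect hM hF hx
      (centralizerPart_defect_of_normalizerPart hM hF.1.1.1 hx hF' hval hD')⟩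

end Cfsg.Agent.BC85
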