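import Cfsg.Agent.BC86.HeightBound
import Cfsg.Agent.BC85.Counting
import Cfsg.Agent.BC85.Pairs.NilpotentFusion

/-!
# Nilpotent blocks with abelian defect groups

The bound on heights, sharpened by the trivial subsection, and its consequence: a nilpotent block
with an abelian defect group has only one irreducible Brauer character.
-/

open scoped ComplexConjugate

namespace Cfsg.Agent.BC85

open BlocksCore BlocksDefect BC86

attribute [local instance] BC86.fintypeSub

variable {G : Type*} [Group G] [Finite G] {p : ℕ} [Fact p.Prime] {M : Ideal AlgInt}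

local notation "C[" y "]" => Subgroup.centralizer ({y} : Set G)

/-- The contribution of the trivial subsection is Galois invariant. -/
theorem regular_sum {χ : IrrCharacter G} (σ : ℂ →+* ℂ) {m : ℤ} {d : ℕ}
    (hm : (m : ℂ) = (p : ℂ) ^ d * prj p χ χ) :
    ∑ ρ : IrrCharacter C[(1 : G)], Complex.normSq (sectionInner p (1 : G)
      (Blocks88.galoisIrr σ χ : G → ℂ) (ρ : C[(1 : G)] → ℂ)) = (m : ℝ) / ((p ^ d : ℕ) : ℝ) := by
  classical
  have := Fintype.ofFinite G
  have htop : C[(1 : G)] = ⊤ := eq_top_iff.mpr fun g _ =>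
    Subgroup.mem_centralizer_singleton_iff.mpr (by simp)
  rw [sum_sectionInner_normSq (irr_class _)]
  apply Complex.ofReal_injective
  have hp0 : (p : ℂ) ^ d ≠ 0 := pow_ne_zero _ (Nat.cast_ne_zero.mpr (Fact.out : p.Prime).ne_zero)
  push_cast
  rw [hm, mul_div_cancel_left₀ _ hp0]
  have hσ : σ (prj p χ χ) = prj p χ χ := by
    refine mul_left_cancel₀ hp0 ?_
    rw [← hm]
    conv_lhs => rw [show (p : ℂ) ^ d = σ ((p : ℂ) ^ d) by simp]
    rw [← map_mul, ← hm, map_intCast]
  rw [← hσ, prj_def, classInner, map_mul, map_inv₀, map_natCast, map_sum, htop,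
    Finset.sum_filter]
  congr 1
  · rw [Subgroup.card_top]
  · refine Fintype.sum_equiv Subgroup.topEquiv.toEquiv _ _ fun c => ?_
    rw [map_mul, conj_irr, one_mul]
    show _ = σ (pRegularPart p (χ : G → ℂ) (c : G)) * _
    by_cases hc : p ∣ orderOf c
    · rw [if_neg (not_not.mpr hc), pRegularPart_neg (by rwa [Subgroup.orderOf_coe]), map_zero,
        zero_mul]
    · rw [if_pos hc, pRegularPart_pos (by rwa [Subgroup.orderOf_coe]), ← Complex.mul_conj,
        conj_irr]
      rfl

theorem sharp_height_bound (hM : IsPModular p M) {B : Set (IrrCharacter G)} (hB : IsPBlock M B)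
    {D : Subgroup G} (hBD : IsDefectGroup p M B D) {H : Subgroup G}
    (hH : H = D ⊔ Subgroup.centralizer (D : Set G)) {b : Set (IrrCharacter H)}
    (hind : IsInducedBlock M H b B) (T : Subgroup G)
    (hT : ∀ g : G, g ∈ T ↔ (g ∈ Subgroup.normalizer (D : Set G) ∧ ∀ θ ∈ b, ∀ θ' : IrrCharacter H,
      (∀ h h' : H, (h' : G) = g * h * g⁻¹ → (θ' : H → ℂ) h' = (θ : H → ℂ) h) → θ' ∈ b))
    {χ : IrrCharacter G} (hχ : χ ∈ B) {m : ℤ}
    (hm : (m : ℂ) = (p : ℂ) ^ blockDefect p B * prj p χ χ) :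
    (p : ℤ) ^ blockHeight p B (χ : G → ℂ) * (Nat.card (Subgroup.center D) - 1) +
      H.relIndex T * m ≤ H.relIndex T * Nat.card D := by
  classical
  have := Fintype.ofFinite G
  have := Fintype.ofFinite (T ⧸ H.subgroupOf T)
  have hp : p.Prime := Fact.out
  have := isPrime hM
  have hD := isPGroup_of_isDefectGroup hBD
  let Z := {y : G // y ∈ D ∧ (∀ z ∈ D, z * y = y * z) ∧ y ≠ 1}
  have hcardZ : (Nat.card (Subgroup.center D) : ℤ) - 1 = Fintype.card Z := by
    rw [sub_eq_iff_eq_add, ← Nat.card_eq_fintype_card]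
    suffices h : Nat.card (Subgroup.center D) = Nat.card Z + 1 by exact_mod_cast h
    rw [← Finite.card_option]
    refine Nat.card_congr
      { toFun := fun y => if h : ((y : D) : G) = 1 then none else some ⟨((y : D) : G), (y : D).2,
          fun z hz => congrArg Subtype.val (Subgroup.mem_center_iff.mp y.2 ⟨z, hz⟩), h⟩
        invFun := fun y => y.elim 1 fun y => ⟨⟨y.1, y.2.1⟩,
          Subgroup.mem_center_iff.mpr fun z => Subtype.ext (y.2.2.1 z z.2)⟩
        left_inv := fun y => ?_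
        right_inv := fun y => ?_ }
    · by_cases h : ((y : D) : G) = 1
      · simp only [dif_pos h]
        exact Subtype.ext (Subtype.ext h.symm)
      · simp only [dif_neg h]
        rfl
    · rcases y with _ | y
      · exact dif_pos rfl
      · exact dif_neg y.2.2.2
  have hord : ∀ y : Z, ∃ k : ℕ, orderOf y.1 = p ^ k := fun y => by
    obtain ⟨k, hk⟩ := IsPGroup.iff_orderOf.mp hD ⟨y.1, y.2.1⟩
    exact ⟨k, by rw [← hk, Subgroup.orderOf_mk]⟩
  choose β hβK hβB hβd hβD using fun y : Z => exists_major hH hM hBD hind y.2.1 y.2.2.1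
  set d := blockDefect p B with hd
  have hcardD : Nat.card D = p ^ d := defectGroup_natCard hM hB hBD
  set h := blockHeight p B (χ : G → ℂ) with hh
  set e := H.relIndex T with he
  let rep : G → G := fun g => Quotient.out (ConjClasses.mk g)
  have hrep : ∀ g : G, ∃ t : G, t * rep g * t⁻¹ = g := fun g =>
    isConj_iff.mp (ConjClasses.mk_eq_mk_iff_isConj.mp (Quotient.out_eq (ConjClasses.mk g)))
  choose tt htt using hrep
  -- a fixed character lies in at most `e` of the transported subsections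
  let Pr : (x : G) → IrrCharacter C[x] → Z → Prop := fun x ρ y =>
    ∃ hx : tt y.1 * x * (tt y.1)⁻¹ = y.1, pullIrr (centConj (tt y.1) hx).symm ρ ∈ β y
  have hfib : ∀ (x : G) (ρ : IrrCharacter C[x]), (Finset.univ.filter (Pr x ρ)).card ≤ e := by
    intro x ρ
    rcases (Finset.univ.filter (Pr x ρ)).eq_empty_or_nonempty with he0 | ⟨y₀, hy₀⟩
    · simp [he0]
    obtain ⟨hx₀, hm₀⟩ := (Finset.mem_filter.mp hy₀).2
    have himg : ∀ y ∈ Finset.univ.filter (Pr x ρ), ∃ g ∈ T, g * y₀.1 * g⁻¹ = y.1 := by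
      intro y hy
      obtain ⟨hx, hm⟩ := (Finset.mem_filter.mp hy).2
      have ht : tt y.1 * (tt y₀.1)⁻¹ * y₀.1 * (tt y.1 * (tt y₀.1)⁻¹)⁻¹ = y.1 := by
        conv_lhs => arg 1; arg 2; rw [← hx₀]
        conv_rhs => rw [← hx]
        group
      have hconj : pullIrr (centConj (tt y.1 * (tt y₀.1)⁻¹) ht) '' β y = β y₀ := by
        refine (isPBlock_eq_of_mem (hβK y₀).2.1 (isPBlock_image_pullIrr _ (hβK y).2.1) hm₀
          ⟨_, hm, Subtype.ext (funext fun c => ?_)⟩).symm
        rw [pullIrr_apply, pullIrr_apply, pullIrr_apply]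
        refine congrArg _ (Subtype.ext ?_)
        show (tt y.1)⁻¹ * (tt y.1 * (tt y₀.1)⁻¹ * (c : G) * (tt y.1 * (tt y₀.1)⁻¹)⁻¹) * tt y.1 =
          (tt y₀.1)⁻¹ * (c : G) * tt y₀.1
        group
      obtain ⟨g, hg1, hg2, hg3⟩ := exists_inertial hH hM hBD hind y₀.2.1 y₀.2.2.1 y.2.1 y.2.2.1
        (hβK y₀) (hβD y₀) (hβK y) ht hconj
      exact ⟨g, (hT g).mpr ⟨hg2, hg3⟩, hg1⟩
    have hHy : ∀ k ∈ H, k * y₀.1 * k⁻¹ = y₀.1 := fun k hk => by
      rw [Subgroup.mem_centralizer_singleton_iff.mp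
        (root_le_centralizer hH y₀.2.1 y₀.2.2.1 hk), mul_inv_cancel_right]
    calc (Finset.univ.filter (Pr x ρ)).card
        = ((Finset.univ.filter (Pr x ρ)).image fun y : Z => y.1).card :=
          (Finset.card_image_of_injective _ Subtype.val_injective).symm
      _ ≤ (Finset.univ.image fun q : T ⧸ H.subgroupOf T =>
            (q.out : G) * y₀.1 * (q.out : G)⁻¹).card := by
          refine Finset.card_le_card fun w hw => ?_
          obtain ⟨y, hy, rfl⟩ := Finset.mem_image.mp hw
          obtain ⟨g, hgT, hg⟩ := himg y hy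
          refine Finset.mem_image.mpr ⟨QuotientGroup.mk ⟨g, hgT⟩, Finset.mem_univ _, ?_⟩
          obtain ⟨k, hk⟩ := QuotientGroup.mk_out_eq_mul (H.subgroupOf T) ⟨g, hgT⟩
          rw [hk]
          show g * ((k : T) : G) * y₀.1 * (g * ((k : T) : G))⁻¹ = y.1
          rw [show g * ((k : T) : G) * y₀.1 * (g * ((k : T) : G))⁻¹ =
            g * (((k : T) : G) * y₀.1 * ((k : T) : G)⁻¹) * g⁻¹ by group, hHy ((k : T) : G) k.2, hg]
      _ ≤ e := Finset.card_image_le.trans (by
          rw [Finset.card_univ, ← Nat.card_eq_fintype_card]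
          rfl)
  -- the sum of the squared norms of the sections
  have hmain : ∀ σ : ℂ →+* ℂ, ∑ y : Z, ∑ ρ ∈ Finset.univ.filter (· ∈ β y),
      Complex.normSq (sectionInner p y.1 (Blocks88.galoisIrr σ χ : G → ℂ)
        (Blocks88.galoisIrr σ ρ : C[y.1] → ℂ)) ≤ (e : ℝ) * (1 - (m : ℝ) / ((p ^ d : ℕ) : ℝ)) := by
    intro σ
    set f : G → ℂ := (Blocks88.galoisIrr σ χ : G → ℂ) with hf
    have hfc : IsClassFunction G f := irr_class _
    set X := Finset.univ.image (fun y : Z => rep y.1) with hX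
    rw [← Finset.sum_fiberwise_of_maps_to (t := X) (g := fun y : Z => rep y.1)
      fun y _ => Finset.mem_image_of_mem _ (Finset.mem_univ y)]
    have hstep : ∀ x ∈ X, ∑ y ∈ Finset.univ.filter (fun y : Z => rep y.1 = x),
        ∑ ρ ∈ Finset.univ.filter (· ∈ β y),
          Complex.normSq (sectionInner p y.1 f (Blocks88.galoisIrr σ ρ : C[y.1] → ℂ)) ≤
        (e : ℝ) * ∑ ρ : IrrCharacter C[x],
          Complex.normSq (sectionInner p x f (ρ : C[x] → ℂ)) := by
      intro x _
      calc ∑ y ∈ Finset.univ.filter (fun y : Z => rep y.1 = x),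
            ∑ ρ ∈ Finset.univ.filter (· ∈ β y),
              Complex.normSq (sectionInner p y.1 f (Blocks88.galoisIrr σ ρ : C[y.1] → ℂ))
          ≤ ∑ y : Z, ∑ ρ : IrrCharacter C[x], if Pr x ρ y then
              Complex.normSq (sectionInner p x f (Blocks88.galoisIrr σ ρ : C[x] → ℂ)) else 0 := by
            refine le_trans (Finset.sum_le_sum fun y hy => ?_)
              (Finset.sum_le_sum_of_subset_of_nonneg (Finset.subset_univ _) fun y _ _ =>
                Finset.sum_nonneg fun ρ _ => by split_ifs; exacts [Complex.normSq_nonneg _, le_rfl])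
            obtain rfl := (Finset.mem_filter.mp hy).2
            rw [← Finset.sum_filter]
            set τ := centConj (tt y.1) (htt y.1) with hτ
            refine le_of_eq (Finset.sum_bij (fun ρ _ => pullIrr τ ρ) (fun ρ hρ => ?_)
              (fun ρ _ ρ' _ he => ?_) (fun ρ hρ => ?_) (fun ρ _ => ?_))
            · refine Finset.mem_filter.mpr ⟨Finset.mem_univ _, htt y.1, ?_⟩
              have : pullIrr τ.symm (pullIrr τ ρ) = ρ := Subtype.ext (funext fun c =>
                congrArg (ρ : C[y.1] → ℂ) (τ.apply_symm_apply c))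
              rw [this]
              exact (Finset.mem_filter.mp hρ).2
            · refine Subtype.ext (funext fun c => ?_)
              have := congrFun (congrArg Subtype.val he) (τ.symm c)
              rwa [pullIrr_apply, pullIrr_apply, τ.apply_symm_apply] at this
            · obtain ⟨hx, hm⟩ := (Finset.mem_filter.mp hρ).2
              exact ⟨_, Finset.mem_filter.mpr ⟨Finset.mem_univ _, hm⟩, pullIrr_symm τ ρ⟩
            · rw [show Blocks88.galoisIrr σ (pullIrr τ ρ) = pullIrr τ (Blocks88.galoisIrr σ ρ) from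
                Subtype.ext rfl]
              exact congrArg _ (sectionInner_centConj hfc _ _).symm
        _ ≤ (e : ℝ) * ∑ ρ : IrrCharacter C[x],
              Complex.normSq (sectionInner p x f (Blocks88.galoisIrr σ ρ : C[x] → ℂ)) := by
            rw [Finset.sum_comm, Finset.mul_sum]
            refine Finset.sum_le_sum fun ρ _ => ?_
            rw [← Finset.sum_filter, Finset.sum_const, nsmul_eq_mul]
            exact mul_le_mul_of_nonneg_right (Nat.cast_le.mpr (hfib x ρ)) (Complex.normSq_nonneg _)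
        _ = _ := by
            congr 1
            exact Fintype.sum_bijective (Blocks88.galoisIrr σ)
              (Finite.injective_iff_bijective.mp (Blocks88.galoisIrr_injective σ)) _ _ fun ρ => rfl
    refine (Finset.sum_le_sum hstep).trans ?_
    rw [← Finset.mul_sum]
    refine mul_le_mul_of_nonneg_left ?_ (Nat.cast_nonneg _)
    have hone : ∀ x ∈ X, x ≠ 1 := by
      intro x hx h1
      obtain ⟨y, -, rfl⟩ := Finset.mem_image.mp hx
      refine y.2.2.2 ?_
      rw [← htt y.1, h1, mul_one, mul_inv_cancel]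
    rw [← regular_sum σ hm, le_sub_iff_add_le]
    have h0 : (1 : G) ∉ X := fun h => hone 1 h rfl
    rw [add_comm, ← Finset.sum_insert (f := fun x => ∑ ρ : IrrCharacter C[x],
      Complex.normSq (sectionInner p x f (ρ : C[x] → ℂ))) h0]
    refine (sum_sections_le hfc (insert 1 X) ?_ ?_).trans_eq ?_
    · intro x hx
      rcases Finset.mem_insert.mp hx with rfl | hx
      · exact ⟨0, by simp⟩
      obtain ⟨y, -, rfl⟩ := Finset.mem_image.mp hx
      obtain ⟨k, hk⟩ := hord y
      exact ⟨k, by rw [← hk, ← orderOf_conjugate (rep y.1) (tt y.1), htt]⟩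
    · intro x hx x' hx' hc
      rcases Finset.mem_insert.mp hx with rfl | hx
      · exact (isConj_one_right.mp hc).symm
      rcases Finset.mem_insert.mp hx' with rfl | hx'
      · exact isConj_one_left.mp hc
      obtain ⟨y, -, rfl⟩ := Finset.mem_image.mp hx
      obtain ⟨y', -, rfl⟩ := Finset.mem_image.mp hx'
      have h1 := ConjClasses.mk_eq_mk_iff_isConj.mpr hc
      rw [show ConjClasses.mk (rep y.1) = ConjClasses.mk y.1 from Quotient.out_eq _,
        show ConjClasses.mk (rep y'.1) = ConjClasses.mk y'.1 from Quotient.out_eq _] at h1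
      exact congrArg Quotient.out h1
    · have h1 := CharCore.classInner_irr_self (Blocks88.galoisIrr σ χ)
      rw [classInner, ← hf] at h1
      simp only [Complex.mul_conj] at h1
      rw [finsum_eq_sum_of_fintype]
      exact Complex.ofReal_injective (by push_cast; exact h1)
  -- the scaled contributions
  let r : Z → ℂ := fun y => ((p ^ d : ℕ) : ℂ) / ((p ^ h : ℕ) : ℂ) *
    ∑ ρ ∈ Finset.univ.filter (· ∈ β y), sectionInner p y.1 (χ : G → ℂ) (ρ : C[y.1] → ℂ) *
      conj (sectionInner p y.1 (χ : G → ℂ) (ρ : C[y.1] → ℂ))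
  have hph : ((p ^ h : ℕ) : ℂ) ≠ 0 := Nat.cast_ne_zero.mpr (pow_ne_zero _ hp.ne_zero)
  have hpd : ((p ^ d : ℕ) : ℂ) ≠ 0 := Nat.cast_ne_zero.mpr (pow_ne_zero _ hp.ne_zero)
  have hspec := fun y : Z => scaledCoord_spec hM (hord y) (hβB y) (hβd y) hχ
  have hrint : ∀ y, IsIntegral ℤ (r y) := by
    intro y
    obtain ⟨k, hk⟩ := hord y
    have hyc : (⟨y.1, Subgroup.mem_centralizer_singleton_iff.mpr rfl⟩ : C[y.1]) ∈
        Subgroup.center C[y.1] := Subgroup.mem_center_iff.mpr fun g =>
      Subtype.ext (Subgroup.mem_centralizer_singleton_iff.mp g.2)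
    simp only [r]
    rw [sum_sq_eq hM (hβK y).2.1 _ rfl hyc χ, Finset.mul_sum]
    refine IsIntegral.sum _ fun ρ hρ => ?_
    obtain ⟨r', hr', hX⟩ := (hspec y).1 ρ (Finset.mem_filter.mp hρ).2
    rw [scaledCoord, hβd y] at hX
    rw [← mul_assoc, show ((p ^ d : ℕ) : ℂ) / ((p ^ h : ℕ) : ℂ) *
      sectionInner p y.1 (χ : G → ℂ) (ρ : C[y.1] → ℂ) = r' by
        rw [div_mul_eq_mul_div, hX, mul_div_cancel_left₀ _ hph]]
    refine hr'.mul ?_
    rw [map_mul, map_natCast]
    refine (isIntegral_natCast _).mul (IsIntegral.map (starRingEnd ℂ).toIntAlgHom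
      (IsIntegral.of_pow (n := p ^ k) (pow_pos hp.pos k) ?_))
    rw [← cval_pow ρ hyc]
    convert isIntegral_one (R := ℤ) (B := ℂ)
    rw [← cval_one ρ]
    congr 1
    exact Subtype.ext (by simp [← hk, pow_orderOf_eq_one])
  have hσr : ∀ (σ : ℂ →+* ℂ) (y : Z), σ (r y) = (((p ^ d : ℕ) : ℝ) / ((p ^ h : ℕ) : ℝ) *
      ∑ ρ ∈ Finset.univ.filter (· ∈ β y), Complex.normSq (sectionInner p y.1
        (Blocks88.galoisIrr σ χ : G → ℂ) (Blocks88.galoisIrr σ ρ : C[y.1] → ℂ)) : ℝ) := by
    intro σ y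
    simp only [r, map_mul, map_div₀, map_natCast, map_sum, fun ρ => (map_sectionInner (p := p) σ y.1 χ ρ).1,
      fun ρ => (map_sectionInner (p := p) σ y.1 χ ρ).2]
    simp only [Complex.mul_conj]
    push_cast
    rfl
  have hrne : ∀ y, r y ≠ 0 := by
    intro y h0
    obtain ⟨ρ, hρ, hu⟩ := (hspec y).2
    simp only [r, mul_eq_zero, div_eq_zero_iff, hph, hpd, or_self, false_or, Complex.mul_conj,
      ← Complex.ofReal_sum, Complex.ofReal_eq_zero] at h0
    exact hu (Complex.normSq_eq_zero.mp ((Finset.sum_eq_zero_iff_of_nonneg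
      fun i _ => Complex.normSq_nonneg _).mp h0 ρ (Finset.mem_filter.mpr ⟨Finset.mem_univ _, hρ⟩)))
  -- averaging
  have hfin : (Set.range fun σ : ℂ →+* ℂ => fun y => σ (r y)).Finite := by
    refine (Set.Finite.pi' fun y : Z => finite_range_map (hrint y)).subset ?_
    rintro _ ⟨σ, rfl⟩ y
    exact ⟨σ, rfl⟩
  set 𝒯 := hfin.toFinset with h𝒯
  have h𝒯1 : (0 : ℝ) < 𝒯.card := Nat.cast_pos.mpr (Finset.card_pos.mpr
    ⟨fun y => RingHom.id ℂ (r y), hfin.mem_toFinset.mpr ⟨RingHom.id ℂ, rfl⟩⟩)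
  have h1 := Blocks88.card_le_sum_norm (𝒯 ×ˢ (Finset.univ : Finset Z)) (fun q => q.1 q.2)
    (fun q hq => ?_) (fun q hq => ?_) fun σ => ?_
  · rw [Finset.card_product, Finset.sum_product, Finset.card_univ, Nat.cast_mul] at h1
    have h2 : ∀ t ∈ 𝒯, ∑ y : Z, ‖t y‖ ≤ ((p ^ d : ℕ) : ℝ) / ((p ^ h : ℕ) : ℝ) *
        ((e : ℝ) * (1 - (m : ℝ) / ((p ^ d : ℕ) : ℝ))) := by
      intro t ht
      obtain ⟨σ, rfl⟩ := hfin.mem_toFinset.mp ht
      refine le_trans (le_of_eq ?_) (mul_le_mul_of_nonneg_left (hmain σ) (by positivity))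
      rw [Finset.mul_sum]
      refine Finset.sum_congr rfl fun y _ => ?_
      show ‖σ (r y)‖ = _
      rw [hσr σ y, Complex.norm_real, Real.norm_eq_abs, abs_of_nonneg]
      exact mul_nonneg (by positivity) (Finset.sum_nonneg fun _ _ => Complex.normSq_nonneg _)
    have h3 := h1.trans (Finset.sum_le_sum h2)
    rw [Finset.sum_const, nsmul_eq_mul] at h3
    have h4 := le_of_mul_le_mul_left h3 h𝒯1
    have hphR : (0 : ℝ) < ((p ^ h : ℕ) : ℝ) := Nat.cast_pos.mpr (pow_pos hp.pos _)
    rw [div_mul_eq_mul_div, le_div_iff₀ hphR] at h4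
    rw [hcardD, hcardZ]
    have hpdR : ((p ^ d : ℕ) : ℝ) ≠ 0 := Nat.cast_ne_zero.mpr (pow_ne_zero _ hp.ne_zero)
    rw [show ((p ^ d : ℕ) : ℝ) * ((e : ℝ) * (1 - (m : ℝ) / ((p ^ d : ℕ) : ℝ))) =
      (e : ℝ) * ((p ^ d : ℕ) : ℝ) - e * m by field_simp] at h4
    have h5 : (((p : ℤ) ^ h * Fintype.card Z + e * m : ℤ) : ℝ) ≤
        (((e : ℤ) * (p ^ d : ℕ) : ℤ) : ℝ) := by
      push_cast at h4 ⊢
      linarith
    exact_mod_cast h5
  · obtain ⟨σ, hσ⟩ := hfin.mem_toFinset.mp (Finset.mem_product.mp hq).1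
    rw [← congrFun hσ q.2]
    exact (hrint q.2).map σ.toIntAlgHom
  · obtain ⟨σ, hσ⟩ := hfin.mem_toFinset.mp (Finset.mem_product.mp hq).1
    rw [← congrFun hσ q.2]
    exact (map_ne_zero σ).mpr (hrne q.2)
  · refine ⟨fun q => (fun y => σ (q.1 y), q.2), fun q hq => ?_, fun q _ q' _ hqq' => ?_,
      fun q _ => rfl⟩
    · obtain ⟨τ, hτ⟩ := hfin.mem_toFinset.mp (Finset.mem_product.mp hq).1
      exact Finset.mem_product.mpr ⟨hfin.mem_toFinset.mpr
        ⟨σ.comp τ, funext fun y => by show σ (τ (r y)) = σ (q.1 y); rw [← hτ]⟩, Finset.mem_univ _⟩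
    · simp only [Prod.mk.injEq] at hqq'
      exact Prod.ext (funext fun y => σ.injective (congrFun hqq'.1 y)) hqq'.2

section RankOne

local notation "C[" Q "]₀" => Subgroup.centralizer (Q : Set G)

/-- In a nilpotent block with abelian defect group all heights vanish and every diagonal entry of
the contribution matrix is one. -/
theorem contrib_diag_of_nilpotent (hM : IsPModular p M) {B : Set (IrrCharacter G)}
    (hnil : IsNilpotentBlock p M B) {D : Subgroup G} (hD : IsDefectGroup p M B D)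
    (hab : ∀ x ∈ D, ∀ y ∈ D, x * y = y * x) {χ : IrrCharacter G} (hχ : χ ∈ B) {m : ℤ}
    (hm : (m : ℂ) = (p : ℂ) ^ blockDefect p B * prj p χ χ) (hm1 : 1 ≤ m) :
    blockHeight p B (χ : G → ℂ) = 0 ∧ m = 1 := by
  classical
  have := Fintype.ofFinite G
  have := isPrime hM
  have hB := hnil.1
  have hDC : D ≤ C[D]₀ := fun u hu => Subgroup.mem_centralizer_iff.mpr fun q hq => hab q hq u hu
  obtain ⟨e, he⟩ := exists_pairOf_of_subConj hM hB hD (isPGroup_of_isDefectGroup hD) (subConj_refl _)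
  have hmax := isMaximal_of_defect hM hD he
  have hind : IsInducedBlock M C[D]₀ e B :=
    isInducedBlock_of_over hM hDC le_rfl he he.1.2 (fun θ hθ => by
      show θ ∈ unitSet M (pullFun (C[D]₀).subtype (bp ⟨D, e⟩))
      rw [pullFun_bp, unitSet_blockCoeff hM]
      exact hθ)
  have hT : ∀ g : G, g ∈ C[D]₀ ↔ (g ∈ Subgroup.normalizer (D : Set G) ∧
      ∀ θ ∈ e, ∀ θ' : IrrCharacter C[D]₀,
        (∀ h h' : C[D]₀, (h' : G) = g * h * g⁻¹ → (θ' : C[D]₀ → ℂ) h' = (θ : C[D]₀ → ℂ) h) →
          θ' ∈ e) := by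
    intro g
    constructor
    · intro hg
      refine ⟨BlocksCore.centralizer_le_normalizer' D hg, fun θ hθ θ' h => ?_⟩
      convert hθ
      refine Subtype.ext (funext fun k => ?_)
      rw [h (⟨g, hg⟩⁻¹ * k * ⟨g, hg⟩) k (by
        show (k : G) = g * (g⁻¹ * (k : G) * g) * g⁻¹
        group)]
      conv_rhs => rw [← irr_class θ k (⟨g, hg⟩⁻¹ : C[D]₀), inv_inv]
    · rintro ⟨hgN, h⟩
      refine (nilpotent_iff_of_abelian hM hmax hab).mp hnil g
        (mem_stabT_iff.mpr ⟨hgN, normalizer_le_normalizer_centralizer D hgN, fun θ hθ => ?_⟩)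
      have hgK := mem_normalizer_conj_iff (normalizer_le_normalizer_centralizer D hgN)
      have hc : ∀ h h' : C[D]₀, (h' : G) = g * h * g⁻¹ →
          (pullIrr (conjIso C[D]₀ C[D]₀ g hgK) θ : C[D]₀ → ℂ) h' = (θ : C[D]₀ → ℂ) h := by
        intro k k' hk
        rw [pullIrr_apply]
        refine congrArg (θ : C[D]₀ → ℂ) (Subtype.ext ?_)
        show g⁻¹ * (k' : G) * g = k
        rw [hk]
        group
      exact ⟨_, h θ hθ _ hc, hc⟩
  have h := sharp_height_bound hM hB hD (sup_eq_right.mpr hDC).symm hind C[D]₀ hT hχ hm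
  rw [Subgroup.relIndex_self, Nat.cast_one, one_mul, one_mul] at h
  have hc : Subgroup.center D = ⊤ := eq_top_iff.mpr fun x _ =>
    Subgroup.mem_center_iff.mpr fun y => Subtype.ext (hab y y.2 x x.2)
  rw [hc, Subgroup.card_top, defectGroup_natCard hM hB hD] at h
  push_cast at h
  rcases Nat.eq_zero_or_pos (blockHeight p B (χ : G → ℂ)) with h0 | h0
  · rw [h0, pow_zero, one_mul] at h
    exact ⟨h0, by omega⟩
  · exfalso
    by_cases hd0 : blockDefect p B = 0
    · have := degree_factorization_le (p := p) χ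
      simp only [blockHeight, blockDefect] at h0 hd0
      omega
    have hp2 : (2 : ℤ) ≤ (p : ℤ) ^ blockHeight p B (χ : G → ℂ) := by
      exact_mod_cast (Fact.out : p.Prime).two_le.trans (Nat.le_self_pow h0.ne' p)
    have hd2 : (2 : ℤ) ≤ (p : ℤ) ^ blockDefect p B := by
      exact_mod_cast (Fact.out : p.Prime).two_le.trans (Nat.le_self_pow hd0 p)
    nlinarith

/-- A nilpotent block with an abelian defect group has one Brauer character. -/
theorem rank_one_of_abelian (hM : IsPModular p M) {B : Set (IrrCharacter G)}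
    (hnil : IsNilpotentBlock p M B) {D : Subgroup G} (hD : IsDefectGroup p M B D)
    (hab : ∀ x ∈ D, ∀ y ∈ D, x * y = y * x) :
    blockRank p B = 1 ∧ Nat.card B = p ^ blockDefect p B ∧
      ∀ χ ∈ B, ∀ ψ ∈ B, pRegularPart p (χ : G → ℂ) = pRegularPart p (ψ : G → ℂ) := by
  classical
  have := Fintype.ofFinite G
  have := finite_irr (G := G)
  have := Fintype.ofFinite B
  have hB := hnil.1
  obtain ⟨m, hm, hs, hi, hd, hu, -⟩ := exists_matrix hM hB
  obtain ⟨θ, hθ, hθ0⟩ := exists_height_zero hM hB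
  obtain ⟨h1, h2, -⟩ := row_facts p hM.1 (blockDefect p B)
    (fun χ : B => blockHeight p B ((χ : IrrCharacter G) : G → ℂ)) m hs hi hd hu
    (o := ⟨θ, hθ⟩) hθ0
  have hdiag := fun χ : B => contrib_diag_of_nilpotent hM hnil hD hab χ.2 (hm χ χ) (h2 χ)
  set n : ℤ := (p : ℤ) ^ blockDefect p B with hn
  have hn0 : 0 < n := pow_pos (by exact_mod_cast hM.1.pos) _
  have hsq : ∀ χ ψ : B, 1 ≤ m χ ψ ^ 2 := fun χ ψ => by
    have h0 : m χ ψ ≠ 0 := fun h => hu χ ψ (hdiag ψ).1 (by rw [h]; exact dvd_zero _)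
    have : 0 < m χ ψ ^ 2 := by positivity
    omega
  have hk : (Nat.card B : ℤ) ≤ n := by
    have h := h1 ⟨θ, hθ⟩
    rw [(hdiag ⟨θ, hθ⟩).2, mul_one] at h
    rw [← h, Nat.card_eq_fintype_card, ← Finset.card_univ, Finset.card_eq_sum_ones, Nat.cast_sum]
    exact Finset.sum_le_sum fun ψ _ => by simpa using hsq ⟨θ, hθ⟩ ψ
  have hl : (blockRank p B : ℤ) * n = Nat.card B := by
    apply Int.cast_injective (α := ℂ)
    push_cast
    rw [hn, Int.cast_pow, Int.cast_natCast, blockRank_eq_sum hM hB, Finset.sum_mul,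
      Nat.card_eq_fintype_card, ← Finset.card_univ, Finset.card_eq_sum_ones, Nat.cast_sum]
    refine Finset.sum_congr rfl fun χ _ => ?_
    rw [mul_comm, ← hm χ χ, (hdiag χ).2]
    simp
  have hpos : 0 < Nat.card B :=
    Nat.card_pos_iff.mpr ⟨⟨⟨θ, hθ⟩⟩, inferInstance⟩
  have hrank : blockRank p B = 1 := by
    rcases Nat.lt_trichotomy (blockRank p B) 1 with h | h | h
    · have h0 : blockRank p B = 0 := by omega
      rw [h0, Nat.cast_zero, zero_mul] at hl
      omega
    · exact h
    · have : (2 : ℤ) * n ≤ Nat.card B := by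
        rw [← hl]
        exact mul_le_mul_of_nonneg_right (by exact_mod_cast h) hn0.le
      omega
  rw [hrank, Nat.cast_one, one_mul] at hl
  refine ⟨hrank, Int.ofNat.inj (hl.symm.trans (by rw [hn]; rfl)), ?_⟩
  -- all entries of the matrix are signs, and the rows are proportional
  have hone : ∀ χ ψ : B, m χ ψ ^ 2 = 1 := by
    intro χ
    have h := h1 χ
    rw [(hdiag χ).2, mul_one, hl, Nat.card_eq_fintype_card, ← Finset.card_univ,
      Finset.card_eq_sum_ones, Nat.cast_sum] at h
    intro ψ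
    refine ((Finset.sum_eq_sum_iff_of_le fun i _ => ?_).mp h.symm ψ (Finset.mem_univ _)).symm.trans
      (by simp)
    simpa using hsq χ i
  intro χ hχ ψ hψ
  set a : B := ⟨χ, hχ⟩
  set b : B := ⟨ψ, hψ⟩
  have hrow : ∀ c : B, m a c = m a b * m b c := by
    have h0 : ∑ c : B, (m a c - m a b * m b c) ^ 2 = 0 := by
      simp only [sub_sq, mul_pow, Finset.sum_add_distrib, Finset.sum_sub_distrib, hone,
        mul_one]
      rw [show ∑ c : B, 2 * m a c * (m a b * m b c) = 2 * m a b * ∑ c : B, m a c * m c b by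
        rw [Finset.mul_sum]
        exact Finset.sum_congr rfl fun c _ => by rw [hs b c]; ring]
      rw [hi a b, Finset.sum_const, Finset.card_univ, ← Nat.card_eq_fintype_card, nsmul_eq_mul,
        mul_one, ← hl]
      have := hone a b
      linear_combination (-2 * n) * this
    intro c
    have := (Finset.sum_eq_zero_iff_of_nonneg fun i _ => sq_nonneg _).mp h0 c (Finset.mem_univ _)
    exact sub_eq_zero.mp (pow_eq_zero_iff two_ne_zero |>.mp this)
  have hpn : (p : ℂ) ^ blockDefect p B ≠ 0 :=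
    pow_ne_zero _ (Nat.cast_ne_zero.mpr hM.1.ne_zero)
  have hval : ∀ x : G, pRegularPart p (χ : G → ℂ) x =
      (m a b : ℂ) * pRegularPart p (ψ : G → ℂ) x := by
    intro x
    rw [pRegularPart_eq_finsum hM hB hχ, pRegularPart_eq_finsum hM hB hψ, finsum_block,
      finsum_block, Finset.mul_sum]
    refine Finset.sum_congr rfl fun c _ => ?_
    have h := congrArg (fun z : ℤ => (z : ℂ)) (hrow c)
    simp only [Int.cast_mul, hm] at h
    refine mul_left_cancel₀ hpn ?_
    linear_combination ((c : IrrCharacter G) : G → ℂ) x * h +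
      (prj p ψ c * ((c : IrrCharacter G) : G → ℂ) x * (p : ℂ) ^ blockDefect p B) * (hm a b).symm
  have h11 := hval 1
  rw [pRegularPart_pos (by simp [(Fact.out : p.Prime).ne_one]),
    pRegularPart_pos (by simp [(Fact.out : p.Prime).ne_one]), irr_one_eq, irr_one_eq] at h11
  have hab1 : m a b = 1 := by
    rcases sq_eq_one_iff.mp (hone a b) with h | h
    · exact h
    · rw [h] at h11
      push_cast at h11
      have h' : ((charDegree (χ : G → ℂ) + charDegree (ψ : G → ℂ) : ℕ) : ℂ) = 0 := by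
        push_cast
        linear_combination h11
      have := charDegree_pos χ
      have h'' := Nat.cast_eq_zero.mp h'
      omega
  funext x
  rw [hval x, hab1, Int.cast_one, one_mul]

end RankOne

end Cfsg.Agent.BC85
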