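import Cfsg.Agent.BC85.Pairs.Principal
import Cfsg.Agent.Lib.Transfer.Frobenius

/-!
# Nilpotent principal blocks
-/

set_option linter.unusedSectionVars false

namespace Cfsg.Agent.BC85

open BlocksCore BlocksDefect
open scoped Classical

universe u

variable {G : Type u} [Group G] [Fintype G] {p : ℕ} [Fact p.Prime] {M : Ideal AlgInt}

local notation "C[" Q "]" => Subgroup.centralizer (Q : Set G)

theorem eq_of_principal_pairOf (hM : IsPModular p M) {a b : BrauerPairIdx G}
    (ha : IsBrauerPairOf p M (principalBlock M G) a.1 a.2)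
    (hb : IsBrauerPairOf p M (principalBlock M G) b.1 b.2) (h : a.1 = b.1) : a = b := by
  obtain ⟨Q, f⟩ := a
  obtain ⟨R, g⟩ := b
  simp only at h
  subst h
  have h1 : f = principalBlock M C[Q] := (principal_pairOf_iff hM ha.1.1 ha.1.2).mp ha
  have h2 : g = principalBlock M C[Q] := (principal_pairOf_iff hM hb.1.1 hb.1.2).mp hb
  rw [h1, h2]

/-- The normalizer stabilizes the principal pair. -/
theorem stabilizes_principal (hM : IsPModular p M) {Q : Subgroup G} (hQ : IsPGroup p Q) {x : G}
    (hx : x ∈ Subgroup.normalizer (Q : Set G)) :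
    StabilizesBlock C[Q] (principalBlock M C[Q]) x := by
  refine (stabilizesBlock_iff _ x).mpr ⟨normalizer_le_normalizer_centralizer Q hx, fun g => ?_⟩
  have h0 := principal_pairOf (G := G) hM hQ
  have h := eq_of_principal_pairOf hM (pairOf_conj hM (a := ⟨Q, _⟩) h0 x) (b := ⟨Q, _⟩) h0
    (map_conj_of_mem_normalizer hx)
  have h' := congrArg (fun a => bp a g) h
  simp only [bp_conjPair] at h'
  exact h'

theorem hasNormalPComplement_iff_nilpotentBlock (hM : IsPModular p M) :
    HasNormalPComplement p G ↔ IsNilpotentBlock p M (principalBlock M G) := by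
  constructor
  · rintro ⟨P, N, hN, hc⟩
    refine ⟨isPBlock_principal, fun Q e hQe x hx _ hreg => ?_⟩
    have hcard : Nat.card N * Nat.card P = Nat.card G := hc.card_mul
    have hnot : ¬ p ∣ Nat.card N := fun hd => by
      have h1 : Nat.card (P : Subgroup G) * p ∣ Nat.card G := by
        rw [← hcard, mul_comm (Nat.card N)]
        exact mul_dvd_mul_left _ hd
      rw [P.card_eq_multiplicity, ← pow_succ] at h1
      exact Nat.pow_succ_factorization_not_dvd Nat.card_pos.ne' Fact.out h1
    have hxN : x ∈ N := by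
      rw [← QuotientGroup.eq_one_iff, ← orderOf_eq_one_iff]
      have h2 : orderOf (x : G ⧸ N) ∣ Nat.card P := by
        have : Nat.card (G ⧸ N) = Nat.card P := by
          have h3 := N.card_eq_card_quotient_mul_card_subgroup
          rw [← hcard, mul_comm] at h3
          exact (Nat.eq_of_mul_eq_mul_right Nat.card_pos h3).symm
        exact this ▸ orderOf_dvd_natCard _
      rw [P.card_eq_multiplicity] at h2
      obtain ⟨j, -, hj⟩ := (Nat.dvd_prime_pow Fact.out).mp h2
      rcases Nat.eq_zero_or_pos j with rfl | hj0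
      · simpa using hj
      · exact absurd ((dvd_pow_self p hj0.ne').trans
          (hj ▸ orderOf_map_dvd (QuotientGroup.mk' N) x)) hreg
    refine Subgroup.mem_centralizer_iff.mpr fun q hq => ?_
    set t := x * q * x⁻¹ * q⁻¹ with ht
    have htQ : t ∈ Q :=
      Q.mul_mem ((Subgroup.mem_normalizer_iff.mp hx q).mp hq) (Q.inv_mem hq)
    have htN : t ∈ N := by
      rw [ht, show x * q * x⁻¹ * q⁻¹ = x * (q * x⁻¹ * q⁻¹) by group]
      exact N.mul_mem hxN (hN.conj_mem _ (N.inv_mem hxN) q)
    have ht1 : t = 1 := by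
      obtain ⟨j, hj⟩ := IsPGroup.iff_orderOf.mp hQe.1.1 ⟨t, htQ⟩
      rw [← Subgroup.orderOf_coe] at hj
      rcases Nat.eq_zero_or_pos j with rfl | hj0
      · exact orderOf_eq_one_iff.mp (by simpa using hj)
      · exact absurd ((dvd_pow_self p hj0.ne').trans
          (hj ▸ Subgroup.orderOf_dvd_natCard N htN)) hnot
    rw [ht, mul_inv_eq_one, mul_inv_eq_iff_eq_mul] at ht1
    exact ht1.symm
  · intro h
    obtain ⟨P⟩ := (inferInstance : Nonempty (Sylow p G))
    refine Transfer.hasNormalPComplement_of_normalizer_centralizer P fun Q hQ _ g hg hco => ?_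
    have hQp : IsPGroup p Q := P.isPGroup'.to_le hQ
    exact h.2 Q _ (principal_pairOf hM hQp) g hg (stabilizes_principal hM hQp hg)
      ((Nat.Prime.coprime_iff_not_dvd Fact.out).mp hco.symm)

end Cfsg.Agent.BC85
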