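import Cfsg.Agent.BC85.Pairs.Maximal
import Cfsg.Agent.Lib.BlocksDefect.PrincipalSection

/-!
# Brauer pairs of the principal block
-/

set_option linter.unusedSectionVars false

namespace Cfsg.Agent.BC85

open BlocksCore BlocksDefect
open scoped Classical

universe u

variable {G : Type u} [Group G] [Fintype G] {p : ℕ} [Fact p.Prime] {M : Ideal AlgInt}

local notation "C[" Q "]" => Subgroup.centralizer (Q : Set G)

theorem omega_oneIrr (a : G → ℂ) : omega (oneIrr G : G → ℂ) a = ∑ g, a g := by
  simp [omega_eq_sum, coe_oneIrr]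

/-- The augmentation commutes with the Brauer map. -/
theorem sum_pull_sub_sum (hM : IsPModular p M) {Q : Subgroup G} (hQ : IsPGroup p Q) {a : G → ℂ}
    (ha : IsBrFun M Q a) :
    MemLocalIdeal M (∑ g, a g - ∑ c : C[Q], a c) := by
  have := isPrime hM
  have h := memLocalIdeal_convSum_sub hM hQ a (fun _ => (1 : ℂ)) ha.invP (fun _ _ _ => rfl)
    ha.ring (fun _ => (localRing M).one_mem) (Subgroup.one_mem _ : (1 : G) ∈ C[Q])
  rw [sum_filter_centralizer (isCentHom_subtype Q)] at h
  simpa using h

theorem principal_pairOf (hM : IsPModular p M) {Q : Subgroup G} (hQ : IsPGroup p Q) :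
    IsBrauerPairOf p M (principalBlock M G) Q (principalBlock M C[Q]) := by
  have := isPrime hM
  have hB : IsPBlock M (principalBlock M G) := isPBlock_principal
  have hbr := isBrFun_blockCoeff hM Q hB
  refine (isBrauerPairOf_iff hM).mpr ⟨⟨hQ, isPBlock_principal⟩, hB, ?_⟩
  rw [subset_cset_iff_mem hM hbr isPBlock_principal (oneIrr_mem (M := M))]
  refine not_memLocalIdeal_of_sub_one ?_
  rw [omega_oneIrr]
  have h := memLocalIdeal_neg (sum_pull_sub_sum hM hQ hbr)
  rw [← omega_oneIrr (G := G), omega_blockCoeff, Set.indicator_of_mem (oneIrr_mem (M := M)),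
    Pi.one_apply, neg_sub] at h
  exact h

theorem sum_bp (Q : Subgroup G) (f : Set (IrrCharacter C[Q])) :
    ∑ g, bp ⟨Q, f⟩ g = f.indicator 1 (oneIrr C[Q]) := by
  rw [← omega_blockCoeff f, omega_oneIrr, ← Finset.sum_filter_add_sum_filter_not Finset.univ
    (· ∈ C[Q]), sum_filter_centralizer (isCentHom_subtype Q),
    Finset.sum_eq_zero (s := Finset.univ.filter (fun y => ¬ y ∈ C[Q]))
      (fun y hy => bp_of_notMem Q f (Finset.mem_filter.mp hy).2), add_zero]
  exact Finset.sum_congr rfl fun c _ => bp_apply_coe Q f c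

/-- Brauer's third main theorem for pairs. -/
theorem principal_pairOf_iff (hM : IsPModular p M) {Q : Subgroup G} (hQ : IsPGroup p Q)
    {e : Set (IrrCharacter C[Q])} (he : IsPBlock M e) :
    IsBrauerPairOf p M (principalBlock M G) Q e ↔ e = principalBlock M C[Q] := by
  have := isPrime hM
  refine ⟨fun h => ?_, fun h => h ▸ principal_pairOf hM hQ⟩
  have hCH := BlocksCore.centralizer_le_normalizer' Q
  have hQH : Q ≤ Subgroup.normalizer (Q : Set G) := Subgroup.le_normalizer
  obtain ⟨E, hE, hsub⟩ := exists_block_over hM hQ hQH hCH he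
  obtain ⟨E₀, hE₀, hsub₀⟩ := exists_block_over hM hQ hQH hCH
    (isPBlock_principal (M := M) (G := C[Q]))
  obtain rfl : E = E₀ :=
    (eq_principal_of_induced hM (isInducedBlock_of_over hM hQH hCH h hE hsub)).trans
      (eq_principal_of_induced hM
        (isInducedBlock_of_over hM hQH hCH (principal_pairOf hM hQ) hE₀ hsub₀)).symm
  obtain ⟨x, -, hx⟩ := exists_conj_of_over hM hQ hQH hCH le_rfl hE he isPBlock_principal hsub hsub₀
  have hsum : ∑ g, bp ⟨Q, e⟩ g = ∑ g, bp ⟨Q, principalBlock M C[Q]⟩ g := by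
    rw [← hx]
    simp only [bp_conjPair]
    exact Fintype.sum_equiv (MulAut.conj x).toEquiv _ _ fun g =>
      congrArg _ (by simp [MulAut.conj_apply, mul_assoc])
  rw [sum_bp, sum_bp, Set.indicator_of_mem (oneIrr_mem (M := M))] at hsum
  refine isPBlock_eq_of_mem he isPBlock_principal ?_ (oneIrr_mem (M := M))
  by_contra hne
  rw [Set.indicator_of_notMem hne] at hsum
  exact zero_ne_one hsum

/-- Sylow subgroups are the defect groups of the principal block. -/
theorem isDefectGroup_principal_iff (hM : IsPModular p M) (D : Subgroup G) :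
    IsDefectGroup p M (principalBlock M G) D ↔ ∃ S : Sylow p G, (S : Subgroup G) = D := by
  have := isPrime hM
  have key : ∀ D, IsDefectGroup p M (principalBlock M G) D →
      ∀ S : Sylow p G, Nat.card S ≤ Nat.card D := fun D hD S =>
    Nat.le_of_dvd Nat.card_pos
      (SubConj.card_dvd (pairOf_subConj_defect hM hD (principal_pairOf hM S.isPGroup')))
  constructor
  · intro hD
    obtain ⟨S, hS⟩ := (isPGroup_of_isDefectGroup hD).exists_le_sylow
    exact ⟨S, (Subgroup.eq_of_le_of_card_ge hS (key D hD S)).symm⟩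
  · rintro ⟨S, rfl⟩
    obtain ⟨D, hD⟩ := exists_isDefectGroup hM (isPBlock_principal (M := M) (G := G))
    have hdvd : Nat.card D ∣ Nat.card S := by
      obtain ⟨T, hT⟩ := (isPGroup_of_isDefectGroup hD).exists_le_sylow
      exact (Subgroup.card_dvd_of_le hT).trans
        (dvd_of_eq (T.card_eq_multiplicity.trans S.card_eq_multiplicity.symm))
    obtain ⟨x, hx⟩ :=
      (pairOf_subConj_defect hM hD (principal_pairOf hM S.isPGroup')).exists_eq_of_card_le
        (Nat.le_of_dvd Nat.card_pos hdvd)
    have h := isDefectGroup_map_conj hM isPBlock_principal hD x⁻¹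
    rw [← hx, BlocksDefect.map_conj_map_conj, inv_mul_cancel, BlocksDefect.map_conj_one] at h
    exact h

end Cfsg.Agent.BC85
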