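import Cfsg.Agent.BC85.Pairs.Local
import Cfsg.Agent.Lib.BlocksCore.FirstMain
import Mathlib.GroupTheory.Nilpotent

/-!
# Brauer pairs: uniqueness below a pair, and the block of a pair
-/

set_option linter.unusedSectionVars false

namespace Cfsg.Agent.BC85

open BlocksCore BlocksDefect
open scoped Classical

universe u

variable {G : Type u} [Group G] [Fintype G] {p : ℕ} [Fact p.Prime] {M : Ideal AlgInt}

local notation "C[" Q "]" => Subgroup.centralizer (Q : Set G)

/-- The idempotent of a pair as a function on the whole group. -/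
noncomputable def bp (a : BrauerPairIdx G) : G → ℂ :=
  subgroupBlockCoeff C[a.1] a.2

theorem pair_ext {a b : BrauerPairIdx G} (h : a.1 = b.1) (hb : bp a = bp b) : a = b := by
  obtain ⟨Q, f⟩ := a
  obtain ⟨P, e⟩ := b
  simp only at h
  subst h
  exact congrArg (Sigma.mk Q) (subgroupBlockCoeff_injective hb)

/-- The characters of the centralizer of `P` at which the Brauer image of `β` is a unit. -/
def cset (M : Ideal AlgInt) (P : Subgroup G) (β : G → ℂ) : Set (IrrCharacter C[P]) :=
  brSet M (C[P]).subtype β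

theorem brauerOmega_eq (P : Subgroup G) (β : G → ℂ) (ξ : C[P] → ℂ) :
    brauerOmega P β ξ = omega ξ (pullFun (C[P]).subtype β) := by
  rw [brauerOmega, omega_eq_sum, finsum_eq_sum_of_fintype, Finset.sum_div]
  rfl

theorem centralizer_anti {Q P : Subgroup G} (h : Q ≤ P) : C[P] ≤ C[Q] :=
  fun _ hx => Subgroup.mem_centralizer_iff.mpr fun u hu =>
    Subgroup.mem_centralizer_iff.mp hx u (h hu)

theorem normalizer_le_normalizer_centralizer (Q : Subgroup G) :
    Subgroup.normalizer (Q : Set G) ≤ Subgroup.normalizer (C[Q] : Set G) :=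
  fun _ hx => Subgroup.mem_normalizer_iff.mpr fun _ =>
    (BlocksCore.conj_mem_centralizer_iff hx).symm

theorem brauerOmega_sub_one_iff (hM : IsPModular p M) {P : Subgroup G} (hP : IsPGroup p P)
    {β : G → ℂ} (hβ : IsBrFun M P β) (hid : ∀ g, MemLocalIdeal M (conv β β g - β g))
    (ξ : IrrCharacter C[P]) :
    MemLocalIdeal M (brauerOmega P β (ξ : C[P] → ℂ) - 1) ↔ ξ ∈ cset M P β := by
  have := isPrime hM
  rw [brauerOmega_eq]
  refine ⟨not_memLocalIdeal_of_sub_one, fun h => ?_⟩
  have h1 := omega_sub_indicator_unitSet hM (isIntClassFun_pullFun (isCentHom_subtype P) hβ)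
    (pull_idem hM hP (isCentHom_subtype P) hβ hid) ξ
  rw [Set.indicator_of_mem (show ξ ∈ unitSet M (pullFun (C[P]).subtype β) from h)] at h1
  exact h1

theorem isBlockUnion_cset (hM : IsPModular p M) {P : Subgroup G} {β : G → ℂ}
    (hβ : IsBrFun M P β) : IsBlockUnion M (cset M P β) :=
  isBlockUnion_brSet hM (isCentHom_subtype P) hβ

theorem subset_cset_iff_mem (hM : IsPModular p M) {P : Subgroup G} {β : G → ℂ}
    (hβ : IsBrFun M P β) {e : Set (IrrCharacter C[P])} (he : IsPBlock M e) {ξ : IrrCharacter C[P]}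
    (hξ : ξ ∈ e) : e ⊆ cset M P β ↔ ξ ∈ cset M P β := by
  have := isPrime hM
  exact ⟨fun h => h hξ, fun h => (isBlockUnion_cset hM hβ).subset_of_mem he h hξ⟩

theorem forall_brauerOmega_iff (hM : IsPModular p M) {P : Subgroup G} (hP : IsPGroup p P)
    {β : G → ℂ} (hβ : IsBrFun M P β) (hid : ∀ g, MemLocalIdeal M (conv β β g - β g))
    (e : Set (IrrCharacter C[P])) :
    (∀ ξ ∈ e, MemLocalIdeal M (brauerOmega P β (ξ : C[P] → ℂ) - 1)) ↔ e ⊆ cset M P β :=
  forall₂_congr fun ξ _ => brauerOmega_sub_one_iff hM hP hβ hid ξ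

theorem isBrFun_blockCoeff (hM : IsPModular p M) (P : Subgroup G) {B : Set (IrrCharacter G)}
    (hB : IsPBlock M B) : IsBrFun M P (blockCoeff B) :=
  isBrFun_of_intClassFun (isIntClassFun_blockCoeff hM hB)

theorem isBrauerPairOf_iff (hM : IsPModular p M) {B : Set (IrrCharacter G)} {P : Subgroup G}
    {e : Set (IrrCharacter C[P])} :
    IsBrauerPairOf p M B P e ↔
      IsBrauerPair p M P e ∧ IsPBlock M B ∧ e ⊆ cset M P (blockCoeff B) := by
  have := isPrime hM
  exact and_congr_right fun h => and_congr_right fun hB => forall_brauerOmega_iff hM h.1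
    (isBrFun_blockCoeff hM P hB) (blockCoeff_idem_mod B) e

/-- Every pair is a pair of exactly one block. -/
theorem existsUnique_block_of_pair (hM : IsPModular p M) {P : Subgroup G}
    {e : Set (IrrCharacter C[P])} (he : IsBrauerPair p M P e) :
    ∃! B : Set (IrrCharacter G), IsBrauerPairOf p M B P e := by
  have := isPrime hM
  obtain ⟨ξ, hξ⟩ := isPBlock_nonempty he.2
  obtain ⟨B, hB, hmem⟩ := exists_block_mem_brSet hM he.1 (isCentHom_subtype P) ξ
  refine ⟨B, (isBrauerPairOf_iff hM).mpr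
    ⟨he, hB, (subset_cset_iff_mem hM (isBrFun_blockCoeff hM P hB) he.2 hξ).mpr hmem⟩,
    fun B' hB' => ?_⟩
  obtain ⟨-, hB'b, hsub⟩ := (isBrauerPairOf_iff hM).mp hB'
  exact brSet_disjoint hM he.1 (isCentHom_subtype P) hB'b hB (hsub hξ) hmem

/-- The central character of the block of a pair is read off on the centralizer. -/
theorem pairOf_rel (hM : IsPModular p M) {B : Set (IrrCharacter G)} {P : Subgroup G}
    {e : Set (IrrCharacter C[P])} (h : IsBrauerPairOf p M B P e) {ξ : IrrCharacter C[P]}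
    (hξ : ξ ∈ e) {χ : IrrCharacter G} (hχ : χ ∈ B) {a : G → ℂ} (ha : IsIntClassFun M a) :
    MemLocalIdeal M (omega (ξ : C[P] → ℂ) (pullFun (C[P]).subtype a) - omega (χ : G → ℂ) a) := by
  obtain ⟨he, hB, hsub⟩ := (isBrauerPairOf_iff hM).mp h
  exact brSet_rel hM he.1 (isCentHom_subtype P) hB (hsub hξ) hχ ha

theorem bp_apply_coe (Q : Subgroup G) (f : Set (IrrCharacter C[Q])) (c : C[Q]) :
    bp ⟨Q, f⟩ (c : G) = blockCoeff f c :=
  subgroupBlockCoeff_coe C[Q] f c

theorem bp_of_notMem (Q : Subgroup G) (f : Set (IrrCharacter C[Q])) {g : G} (hg : g ∉ C[Q]) :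
    bp ⟨Q, f⟩ g = 0 :=
  subgroupBlockCoeff_of_notMem C[Q] f hg

theorem pullFun_bp (Q : Subgroup G) (f : Set (IrrCharacter C[Q])) :
    pullFun (C[Q]).subtype (bp ⟨Q, f⟩) = blockCoeff f :=
  funext fun c => bp_apply_coe Q f c

theorem conv_bp (Q : Subgroup G) (A B : Set (IrrCharacter C[Q])) :
    conv (bp ⟨Q, A⟩) (bp ⟨Q, B⟩) = bp ⟨Q, A ∩ B⟩ := by
  funext g
  by_cases hg : g ∈ C[Q]
  · rw [show g = (C[Q]).subtype ⟨g, hg⟩ from rfl,
      conv_pull_eq (isCentHom_subtype Q) (fun y hy => bp_of_notMem Q A hy), pullFun_bp,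
      pullFun_bp, conv_blockCoeff]
    exact (bp_apply_coe Q _ ⟨g, hg⟩).symm
  · rw [bp_of_notMem Q _ hg, conv_apply]
    refine Finset.sum_eq_zero fun y _ => ?_
    by_cases hy : y ∈ C[Q]
    · rw [bp_of_notMem Q B (g := y⁻¹ * g) fun h => hg (by simpa using Subgroup.mul_mem _ hy h),
        mul_zero]
    · rw [bp_of_notMem Q A hy, zero_mul]

theorem isBrFun_bp (hM : IsPModular p M) {Q P : Subgroup G} {f : Set (IrrCharacter C[Q])}
    (hf : IsBlockUnion M f) (hQP : Q ≤ P)
    (hinv : ∀ u ∈ P, ∀ g, bp ⟨Q, f⟩ (u * g * u⁻¹) = bp ⟨Q, f⟩ g) : IsBrFun M P (bp ⟨Q, f⟩) :=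
  ⟨subgroupBlockCoeff_memLocalRing hM hf, hinv,
    fun _ hu => subgroupBlockCoeff_conj_of_mem f (centralizer_anti hQP hu)⟩

theorem bp_inv_self (Q : Subgroup G) (f : Set (IrrCharacter C[Q])) :
    ∀ u ∈ Q, ∀ g, bp ⟨Q, f⟩ (u * g * u⁻¹) = bp ⟨Q, f⟩ g := by
  intro u hu g
  have hN : u ∈ Subgroup.normalizer (Q : Set G) := Subgroup.le_normalizer hu
  by_cases hg : g ∈ C[Q]
  · rw [show u * g * u⁻¹ = g from mul_inv_eq_iff_eq_mul.mpr
      (Subgroup.mem_centralizer_iff.mp hg u hu)]
  · rw [bp_of_notMem Q f hg,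
      bp_of_notMem Q f fun h => hg ((BlocksCore.conj_mem_centralizer_iff hN).mp h)]

theorem stabilizes_iff_invariant {Q P : Subgroup G} (hPN : P ≤ Subgroup.normalizer (Q : Set G))
    (f : Set (IrrCharacter C[Q])) :
    (∀ x ∈ P, StabilizesBlock C[Q] f x) ↔
      ∀ u ∈ P, ∀ g, bp ⟨Q, f⟩ (u * g * u⁻¹) = bp ⟨Q, f⟩ g := by
  constructor
  · intro h u hu g
    have := ((stabilizesBlock_iff f u⁻¹).mp (h _ (P.inv_mem hu))).2 g
    rwa [inv_inv] at this
  · intro h x hx
    refine (stabilizesBlock_iff f x).mpr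
      ⟨normalizer_le_normalizer_centralizer Q (hPN hx), fun g => ?_⟩
    have := h x⁻¹ (P.inv_mem hx) g
    rwa [inv_inv] at this

theorem isNormalSubpair_iff (hM : IsPModular p M) {Q P : Subgroup G}
    {f : Set (IrrCharacter C[Q])} {e : Set (IrrCharacter C[P])} :
    IsNormalSubpair p M Q f P e ↔ IsBrauerPair p M Q f ∧ IsBrauerPair p M P e ∧ Q ≤ P ∧
      P ≤ Subgroup.normalizer (Q : Set G) ∧
      (∀ u ∈ P, ∀ g, bp ⟨Q, f⟩ (u * g * u⁻¹) = bp ⟨Q, f⟩ g) ∧ e ⊆ cset M P (bp ⟨Q, f⟩) := by
  have := isPrime hM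
  refine and_congr_right fun hf => and_congr_right fun he => and_congr_right fun hQP =>
    and_congr_right fun hPN => ?_
  rw [stabilizes_iff_invariant hPN f]
  refine and_congr_right fun hinv => forall_brauerOmega_iff hM he.1
    (isBrFun_bp hM (isBlockUnion_isPBlock hf.2) hQP hinv) (fun g => ?_) e
  rw [conv_bp, Set.inter_self, sub_self]
  exact memLocalIdeal_zero

/-- The blocks of the centralizer of `Q` stable under `P`: exactly one lies below `(P, e)`. -/
theorem normalSubpair_unique (hM : IsPModular p M) {Q P : Subgroup G}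
    {f f' : Set (IrrCharacter C[Q])} {e : Set (IrrCharacter C[P])}
    (h : IsNormalSubpair p M Q f P e) (h' : IsNormalSubpair p M Q f' P e) : f = f' := by
  have := isPrime hM
  obtain ⟨hf, he, hQP, -, hinv, hsub⟩ := (isNormalSubpair_iff hM).mp h
  obtain ⟨hf', -, -, -, hinv', hsub'⟩ := (isNormalSubpair_iff hM).mp h'
  have hb := isBrFun_bp hM (isBlockUnion_isPBlock hf.2) hQP hinv
  have hb' := isBrFun_bp hM (isBlockUnion_isPBlock hf'.2) hQP hinv'
  obtain ⟨ξ, hξ⟩ := isPBlock_nonempty he.2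
  by_contra hne
  have hempty : f ∩ f' = ∅ := Set.eq_empty_iff_forall_notMem.mpr fun χ hχ =>
    hne (isPBlock_eq_of_mem hf.2 hf'.2 hχ.1 hχ.2)
  have hι := isCentHom_subtype P
  have hz : pullFun (C[P]).subtype (conv (bp ⟨Q, f⟩) (bp ⟨Q, f'⟩)) = 0 := by
    funext c
    rw [conv_bp, hempty, pullFun_apply]
    by_cases hc : (C[P]).subtype c ∈ C[Q]
    · show subgroupBlockCoeff C[Q] ∅ _ = 0
      rw [subgroupBlockCoeff_of_mem _ _ hc, blockCoeff_empty]; rfl
    · exact bp_of_notMem Q ∅ hc
  have hi := isIntClassFun_pullFun hι hb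
  have hi' := isIntClassFun_pullFun hι hb'
  have h1 := omega_congr ξ (isIntClassFun_pullFun hι (hb.conv hb')).1
    (isClassFunction_conv hi.1 hi'.1) (conv_pull_sub hM he.1 hι hb hb')
  rw [hz, omega_zero, omega_conv ξ hi.1 hi'.1, zero_sub] at h1
  have h2 : MemLocalIdeal M _ := memLocalIdeal_neg h1
  rw [neg_neg] at h2
  rcases memLocalIdeal_mem_or_mem (omega_memLocalRing ξ hi) (omega_memLocalRing ξ hi') h2 with h | h
  · exact hsub hξ h
  · exact hsub' hξ h

theorem exists_normalSubpair (hM : IsPModular p M) {Q P : Subgroup G}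
    {e : Set (IrrCharacter C[P])} (he : IsBrauerPair p M P e) (hQP : Q ≤ P)
    (hPN : P ≤ Subgroup.normalizer (Q : Set G)) :
    ∃ f : Set (IrrCharacter C[Q]), IsNormalSubpair p M Q f P e := by
  have := isPrime hM
  have hQ : IsPGroup p Q := he.1.to_le hQP
  obtain ⟨ξ, hξ⟩ := isPBlock_nonempty he.2
  let α := {f : Set (IrrCharacter C[Q]) // IsPBlock M f}
  haveI : Finite (IrrCharacter C[Q]) := finite_irr
  haveI : Fintype α := Fintype.ofFinite α
  have hmem : ∀ (u : P) (y : G), y ∈ C[Q] ↔ (u : G)⁻¹ * y * (u : G) ∈ C[Q] := fun u =>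
    mem_normalizer_conj_iff (normalizer_le_normalizer_centralizer Q (hPN u.2))
  let act : P → α → α := fun u f => ⟨conjSet (hmem u) f.1, isPBlock_conjSet _ f.2⟩
  have hval : ∀ (u : P) (f : α) (g : G),
      bp ⟨Q, (act u f).1⟩ g = bp ⟨Q, f.1⟩ ((u : G)⁻¹ * g * (u : G)) :=
    fun u f g => subgroupBlockCoeff_conjSet _ _ _
  let _ : MulAction P α :=
    { smul := act
      one_smul := fun f => Subtype.ext (subgroupBlockCoeff_injective (funext fun g =>
        (hval 1 f g).trans (by simp [bp])))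
      mul_smul := fun u v f => Subtype.ext (subgroupBlockCoeff_injective (funext fun g =>
        (hval (u * v) f g).trans (((hval u (act v f) g).trans (hval v f _)).trans
          (congrArg _ (by simp [mul_assoc]))).symm)) }
  let v : α → ℂ := fun f => omega (ξ : C[P] → ℂ) (pullFun (C[P]).subtype (bp ⟨Q, f.1⟩))
  have hcls : ∀ f : α, IsIntClassFun M (pullFun (C[P]).subtype (bp ⟨Q, f.1⟩)) := fun f =>
    ⟨fun c d => subgroupBlockCoeff_conj_of_mem f.1 (centralizer_anti hQP d.2) c.1,
      fun _ => subgroupBlockCoeff_memLocalRing hM (isBlockUnion_isPBlock f.2) _⟩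
  have hinvv : ∀ (u : P) (f : α), v (u • f) = v f := by
    intro u f
    show omega _ _ = omega _ _
    congr 1
    funext c
    rw [pullFun_apply, pullFun_apply]
    refine (hval u f _).trans (congrArg _ ?_)
    show (u : G)⁻¹ * (c : G) * (u : G) = (c : G)
    rw [mul_assoc, ← Subgroup.mem_centralizer_iff.mp c.2 u u.2, inv_mul_cancel_left]
  have hsum : ∑ f, v f = 1 := by
    show ∑ f : α, omega (ξ : C[P] → ℂ) (pullFun (C[P]).subtype (bp ⟨Q, f.1⟩)) = 1
    rw [← omega_sum, ← omega_classInd_one ξ]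
    congr 1
    have hone : (∑ f : α, blockCoeff f.1) = classInd (1 : C[Q]) := by
      refine eq_of_omega_eq (fun g h => ?_) (isClassFunction_classInd _) fun χ => ?_
      · simp only [Finset.sum_apply]
        exact Finset.sum_congr rfl fun f _ => isClassFunction_blockCoeff f.1 g h
      · rw [omega_sum, omega_classInd_one, Finset.sum_eq_single ⟨_, isPBlock_blockOf χ⟩]
        · rw [omega_blockCoeff, Set.indicator_of_mem (mem_blockOf_self χ)]; rfl
        · intro f _ hf
          rw [omega_blockCoeff, Set.indicator_of_notMem fun h =>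
            hf (Subtype.ext (isPBlock_eq_blockOf f.2 h))]
        · exact fun h => absurd (Finset.mem_univ _) h
    funext c
    rw [Finset.sum_apply]
    have hc := centralizer_anti hQP c.2
    have e1 : ∀ f : α, pullFun (C[P]).subtype (bp ⟨Q, f.1⟩) c = blockCoeff f.1 ⟨c.1, hc⟩ :=
      fun f => subgroupBlockCoeff_coe C[Q] f.1 ⟨c.1, hc⟩
    rw [Finset.sum_congr rfl fun f _ => e1 f]
    have := congrFun hone ⟨c.1, hc⟩
    rw [Finset.sum_apply] at this
    rw [this]
    by_cases h1 : c = 1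
    · subst h1
      rw [classInd_apply_of_isConj (IsConj.refl 1)]
      exact classInd_apply_of_isConj (IsConj.refl 1)
    · rw [classInd_apply_of_not_isConj, classInd_apply_of_not_isConj]
      · exact fun h => h1 (isConj_one_right.mp h)
      · exact fun h => h1 (Subtype.ext (congrArg Subtype.val (isConj_one_right.mp h) :))
  have key := memLocalIdeal_sum_sub_fixed (α := α) (P := P) hM he.1 v hinvv
    (fun f => omega_memLocalRing ξ (hcls f))
  rw [hsum] at key
  obtain ⟨f, hf, hu⟩ : ∃ f ∈ Finset.univ.filter (· ∈ MulAction.fixedPoints P α),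
      ¬ MemLocalIdeal M (v f) := by
    by_contra hno
    push Not at hno
    exact not_memLocalIdeal_one (M := M)
      (by simpa using memLocalIdeal_add key (memLocalIdeal_sum hno))
  have hfix := (Finset.mem_filter.mp hf).2
  refine ⟨f.1, (isNormalSubpair_iff hM).mpr ⟨⟨hQ, f.2⟩, he, hQP, hPN, fun u hu g => ?_, ?_⟩⟩
  · have e1 : act ⟨u⁻¹, P.inv_mem hu⟩ f = f := hfix ⟨u⁻¹, P.inv_mem hu⟩
    have e2 := hval ⟨u⁻¹, P.inv_mem hu⟩ f g
    rw [e1, inv_inv] at e2
    exact e2.symm
  · exact (isBlockUnion_unitSet hM (hcls f)).subset_of_mem he.2 hu hξ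

/-- Composition: whether `e` occurs in the Brauer image of `β` only depends on its subpair. -/
theorem subset_cset_iff_of_normalSubpair (hM : IsPModular p M) {Q P : Subgroup G}
    {f : Set (IrrCharacter C[Q])} {e : Set (IrrCharacter C[P])}
    (h : IsNormalSubpair p M Q f P e) {β : G → ℂ} (hβQ : IsBrFun M Q β) (hβP : IsBrFun M P β)
    (hid : ∀ g, MemLocalIdeal M (conv β β g - β g)) :
    e ⊆ cset M P β ↔ f ⊆ cset M Q β := by
  have := isPrime hM
  obtain ⟨hf, he, hQP, hPN, hinv, hsub⟩ := (isNormalSubpair_iff hM).mp h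
  obtain ⟨ξ, hξ⟩ := isPBlock_nonempty he.2
  have hι := isCentHom_subtype P
  have hbf := isBrFun_bp hM (isBlockUnion_isPBlock hf.2) hQP hinv
  have hbfid : ∀ g, MemLocalIdeal M (conv (bp ⟨Q, f⟩) (bp ⟨Q, f⟩) g - bp ⟨Q, f⟩ g) := fun g => by
    rw [conv_bp, Set.inter_self, sub_self]; exact memLocalIdeal_zero
  set A := cset M Q β with hA
  have hAu : IsBlockUnion M A := isBlockUnion_cset hM hβQ
  set γ : G → ℂ := (C[Q] : Set G).indicator β with hγ
  have hconjmem : ∀ u : G, u ∈ Subgroup.normalizer (Q : Set G) → ∀ y, β (u * y * u⁻¹) = β y →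
      γ (u * y * u⁻¹) = γ y := by
    intro u hu y hy
    by_cases hyC : y ∈ C[Q]
    · rw [hγ, Set.indicator_of_mem (show y ∈ (C[Q] : Set G) from hyC), Set.indicator_of_mem
        (show u * y * u⁻¹ ∈ (C[Q] : Set G) from (BlocksCore.conj_mem_centralizer_iff hu).mpr hyC)]
      exact hy
    · rw [hγ, Set.indicator_of_notMem (show y ∉ (C[Q] : Set G) from hyC), Set.indicator_of_notMem
        (show u * y * u⁻¹ ∉ (C[Q] : Set G) from fun h' =>
          hyC ((BlocksCore.conj_mem_centralizer_iff hu).mp h'))]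
  have hγB : IsBrFun M P γ := by
    refine ⟨fun y => ?_, fun u hu y => hconjmem u (hPN hu) y (hβP.invP u hu y), fun u hu y => ?_⟩
    · by_cases hy : y ∈ (C[Q] : Set G)
      · rw [hγ, Set.indicator_of_mem hy]; exact hβP.ring y
      · rw [hγ, Set.indicator_of_notMem hy]; exact (localRing M).zero_mem
    · exact hconjmem u (BlocksCore.centralizer_le_normalizer' Q (centralizer_anti hQP hu)) y
        (hβP.invC u hu y)
  have hpullγ : pullFun (C[P]).subtype γ = pullFun (C[P]).subtype β := funext fun c =>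
    Set.indicator_of_mem (show (c : G) ∈ (C[Q] : Set G) from centralizer_anti hQP c.2) _
  have hiγ := isIntClassFun_pullFun hι hγB
  have hif := isIntClassFun_pullFun hι hbf
  have hiAf : IsIntClassFun M (pullFun (C[P]).subtype (bp ⟨Q, A ∩ f⟩)) :=
    ⟨fun c d => subgroupBlockCoeff_conj_of_mem _ (centralizer_anti hQP d.2) c.1, fun _ =>
      subgroupBlockCoeff_memLocalRing hM (fun χ hχ => Set.subset_inter (hAu χ hχ.1)
        (isBlockUnion_isPBlock hf.2 χ hχ.2)) _⟩
  have key : MemLocalIdeal M (omega (ξ : C[P] → ℂ) (pullFun (C[P]).subtype γ) *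
      omega (ξ : C[P] → ℂ) (pullFun (C[P]).subtype (bp ⟨Q, f⟩)) -
      omega (ξ : C[P] → ℂ) (pullFun (C[P]).subtype (bp ⟨Q, A ∩ f⟩))) := by
    rw [← omega_conv ξ hiγ.1 hif.1]
    refine omega_congr ξ (isClassFunction_conv hiγ.1 hif.1) hiAf.1 fun c => ?_
    rw [← sub_add_sub_cancel (b := conv γ (bp ⟨Q, f⟩) ((C[P]).subtype c))]
    refine memLocalIdeal_add ?_ ?_
    · rw [← neg_sub]
      exact memLocalIdeal_neg (conv_pull_sub hM he.1 hι hγB hbf c)
    · have hc : (c : G) ∈ C[Q] := centralizer_anti hQP c.2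
      rw [show (C[P]).subtype c = (C[Q]).subtype ⟨c, hc⟩ from rfl,
        conv_pull_eq (isCentHom_subtype Q) (fun y hy => Set.indicator_of_notMem hy β),
        pullFun_bp, show pullFun (C[P]).subtype (bp ⟨Q, A ∩ f⟩) c =
          blockCoeff (A ∩ f) ⟨c, hc⟩ from bp_apply_coe Q _ ⟨c, hc⟩, ← conv_blockCoeff,
        conv_apply, conv_apply, ← Finset.sum_sub_distrib]
      refine memLocalIdeal_sum fun d _ => ?_
      rw [← sub_mul]
      refine memLocalIdeal_mul_right ?_
        ((isIntClassFun_blockCoeff hM hf.2).2 _)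
      rw [show pullFun (C[Q]).subtype γ d = β d from Set.indicator_of_mem d.2 β]
      exact pull_sub_blockCoeff_brSet hM hf.1 (isCentHom_subtype Q) hβQ hid d
  rw [hpullγ] at key
  have hvf : MemLocalIdeal M (omega (ξ : C[P] → ℂ) (pullFun (C[P]).subtype (bp ⟨Q, f⟩)) - 1) := by
    rw [← brauerOmega_eq]
    exact (brauerOmega_sub_one_iff hM he.1 hbf hbfid ξ).mpr (hsub hξ)
  rw [subset_cset_iff_mem hM hβP he.2 hξ]
  constructor
  · intro hu
    by_contra hfA
    have hempty : A ∩ f = ∅ := Set.eq_empty_iff_forall_notMem.mpr fun χ hχ =>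
      hfA (hAu.subset_of_mem hf.2 hχ.1 hχ.2)
    have hz : pullFun (C[P]).subtype (bp ⟨Q, A ∩ f⟩) = 0 := by
      funext c
      rw [hempty, pullFun_apply]
      exact (subgroupBlockCoeff_of_mem C[Q] ∅ (centralizer_anti hQP c.2)).trans
        (congrFun blockCoeff_empty _)
    rw [hz, omega_zero, sub_zero] at key
    rcases memLocalIdeal_mem_or_mem (omega_memLocalRing ξ (hpullγ ▸ hiγ))
      (omega_memLocalRing ξ hif) key with h1 | h1
    · exact hu h1
    · exact not_memLocalIdeal_of_sub_one hvf h1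
  · intro hfA hu
    rw [Set.inter_eq_right.mpr hfA] at key
    have h1 := memLocalIdeal_sub (memLocalIdeal_mul_right hu (omega_memLocalRing ξ hif)) key
    rw [sub_sub_cancel] at h1
    exact not_memLocalIdeal_of_sub_one hvf h1

/-- A normal inclusion preserves membership in a block. -/
theorem normalSubpair_pairOf_iff (hM : IsPModular p M) {Q P : Subgroup G}
    {f : Set (IrrCharacter C[Q])} {e : Set (IrrCharacter C[P])}
    (h : IsNormalSubpair p M Q f P e) (B : Set (IrrCharacter G)) :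
    IsBrauerPairOf p M B P e ↔ IsBrauerPairOf p M B Q f := by
  have := isPrime hM
  obtain ⟨hf, he, -⟩ := (isNormalSubpair_iff hM).mp h
  rw [isBrauerPairOf_iff hM, isBrauerPairOf_iff hM, and_iff_right he, and_iff_right hf]
  exact and_congr_right fun hB => subset_cset_iff_of_normalSubpair hM h
    (isBrFun_blockCoeff hM Q hB) (isBrFun_blockCoeff hM P hB) (blockCoeff_idem_mod B)

theorem subpairLE_le {Q P : Subgroup G} {f : Set (IrrCharacter C[Q])}
    {e : Set (IrrCharacter C[P])} (h : SubpairLE p M Q f P e) : Q ≤ P := by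
  suffices ∀ a b : BrauerPairIdx G, Relation.ReflTransGen (NormalSubpairRel p M) a b → a.1 ≤ b.1 from
    this _ _ h
  intro a b hab
  induction hab with
  | refl => exact le_rfl
  | tail _ hbc ih => exact ih.trans hbc.2.2.1

theorem subpairLE_isBrauerPair {Q P : Subgroup G} {f : Set (IrrCharacter C[Q])}
    {e : Set (IrrCharacter C[P])} (h : SubpairLE p M Q f P e) (he : IsBrauerPair p M P e) :
    IsBrauerPair p M Q f := by
  suffices ∀ a b : BrauerPairIdx G, Relation.ReflTransGen (NormalSubpairRel p M) a b →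
      IsBrauerPair p M b.1 b.2 → IsBrauerPair p M a.1 a.2 from this _ _ h he
  intro a b hab
  induction hab using Relation.ReflTransGen.head_induction_on with
  | refl => exact id
  | head hac _ _ => exact fun _ => hac.1

theorem subpairLE_pairOf_iff (hM : IsPModular p M) {Q P : Subgroup G}
    {f : Set (IrrCharacter C[Q])} {e : Set (IrrCharacter C[P])} (h : SubpairLE p M Q f P e)
    (B : Set (IrrCharacter G)) : IsBrauerPairOf p M B P e ↔ IsBrauerPairOf p M B Q f := by
  suffices ∀ a b : BrauerPairIdx G, Relation.ReflTransGen (NormalSubpairRel p M) a b →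
      (IsBrauerPairOf p M B b.1 b.2 ↔ IsBrauerPairOf p M B a.1 a.2) from this _ _ h
  intro a b hab
  induction hab with
  | refl => exact Iff.rfl
  | tail _ hbc ih => exact (normalSubpair_pairOf_iff hM hbc B).trans ih

theorem normalSubpair_self_eq (hM : IsPModular p M) {Q : Subgroup G}
    {f e : Set (IrrCharacter C[Q])} (h : IsNormalSubpair p M Q f Q e) : f = e := by
  have := isPrime hM
  obtain ⟨hf, he, -, -, -, hsub⟩ := (isNormalSubpair_iff hM).mp h
  obtain ⟨ξ, hξ⟩ := isPBlock_nonempty he.2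
  refine isPBlock_eq_of_mem hf.2 he.2 ?_ hξ
  have h1 := hsub hξ
  rwa [cset, brSet, pullFun_bp, unitSet_blockCoeff hM] at h1

theorem subpairLE_self_eq (hM : IsPModular p M) {Q : Subgroup G}
    {f e : Set (IrrCharacter C[Q])} (h : SubpairLE p M Q f Q e) : f = e := by
  suffices ∀ a b : BrauerPairIdx G, Relation.ReflTransGen (NormalSubpairRel p M) a b →
      a.1 = b.1 → a = b by
    simpa using this _ _ h rfl
  intro a b hab
  induction hab using Relation.ReflTransGen.head_induction_on with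
  | refl => exact fun _ => rfl
  | @head a c hac hcb ih =>
    intro hab'
    have hca : c.1 = a.1 := le_antisymm (hab' ▸ subpairLE_le (M := M) (p := p) hcb) hac.2.2.1
    obtain ⟨Q', f'⟩ := a
    obtain ⟨R, g⟩ := c
    simp only at hca
    subst hca
    obtain rfl := normalSubpair_self_eq hM hac
    exact ih hab'

/-- A chain from a proper subgroup starts with a strict normal step. -/
theorem exists_strict_step (hM : IsPModular p M) {a b : BrauerPairIdx G}
    (hab : Relation.ReflTransGen (NormalSubpairRel p M) a b) (hne : a.1 ≠ b.1) :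
    ∃ c : BrauerPairIdx G, a.1 < c.1 ∧ NormalSubpairRel p M a c ∧
      Relation.ReflTransGen (NormalSubpairRel p M) c b := by
  induction hab using Relation.ReflTransGen.head_induction_on with
  | refl => exact absurd rfl hne
  | @head a c hac hcb ih =>
    by_cases hEq : a.1 = c.1
    · obtain ⟨Q', f'⟩ := a
      obtain ⟨R, g⟩ := c
      simp only at hEq
      subst hEq
      obtain rfl := normalSubpair_self_eq hM hac
      exact ih hne
    · exact ⟨c, lt_of_le_of_ne hac.2.2.1 hEq, hac, hcb⟩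

theorem exists_lt_normalizer {P Q : Subgroup G} (hP : IsPGroup p P) (hlt : Q < P) :
    Q < P ⊓ Subgroup.normalizer (Q : Set G) := by
  haveI : Group.IsNilpotent P := hP.isNilpotent
  have hQlt : Q.subgroupOf P < ⊤ := lt_top_iff_ne_top.mpr fun h =>
    hlt.not_ge (Subgroup.subgroupOf_eq_top.mp h)
  obtain ⟨x, hxN, hxQ⟩ := SetLike.exists_of_lt (Group.normalizerCondition_of_isNilpotent _ hQlt)
  refine lt_of_le_of_ne (le_inf hlt.le Subgroup.le_normalizer) fun h => hxQ ?_
  show (x : G) ∈ Q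
  rw [h]
  refine ⟨x.2, Subgroup.mem_normalizer_iff.mpr fun y => ?_⟩
  have hx := Subgroup.mem_normalizer_iff.mp hxN
  constructor
  · intro hy
    exact (hx ⟨y, hlt.le hy⟩).mp hy
  · intro hy
    have hyP : y ∈ P := by
      have := P.mul_mem (P.mul_mem (P.inv_mem x.2) (hlt.le hy)) x.2
      simpa [mul_assoc] using this
    exact (hx ⟨y, hyP⟩).mpr hy

theorem exists_below_aux (hM : IsPModular p M) : ∀ n : ℕ, ∀ {P Q : Subgroup G}
    {e : Set (IrrCharacter C[P])}, IsBrauerPair p M P e → Q ≤ P → Nat.card P ≤ Nat.card Q + n →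
    ∃ f : Set (IrrCharacter C[Q]), SubpairLE p M Q f P e := by
  intro n
  induction n with
  | zero =>
    intro P Q e he hQP hn
    obtain rfl : Q = P := Subgroup.eq_of_le_of_card_ge hQP (by simpa using hn)
    exact ⟨e, Relation.ReflTransGen.refl⟩
  | succ n ih =>
    intro P Q e he hQP hn
    by_cases hEq : Q = P
    · subst hEq
      exact ⟨e, Relation.ReflTransGen.refl⟩
    · have hlt := exists_lt_normalizer he.1 (lt_of_le_of_ne hQP hEq)
      have hcard : Nat.card Q < Nat.card (P ⊓ Subgroup.normalizer (Q : Set G) : Subgroup G) :=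
        lt_of_not_ge fun hge => hlt.ne (Subgroup.eq_of_le_of_card_ge hlt.le hge)
      obtain ⟨g, hg⟩ := ih he
        (inf_le_left : P ⊓ Subgroup.normalizer (Q : Set G) ≤ P) (by omega)
      obtain ⟨f, hf⟩ := exists_normalSubpair hM (subpairLE_isBrauerPair hg he) hlt.le inf_le_right
      exact ⟨f, Relation.ReflTransGen.head (show NormalSubpairRel p M ⟨Q, f⟩ ⟨_, g⟩ from hf) hg⟩

theorem exists_below (hM : IsPModular p M) {P Q : Subgroup G} {e : Set (IrrCharacter C[P])}
    (he : IsBrauerPair p M P e) (hQP : Q ≤ P) :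
    ∃ f : Set (IrrCharacter C[Q]), SubpairLE p M Q f P e :=
  exists_below_aux hM (Nat.card P) he hQP (Nat.le_add_left _ _)

/-- If everything normalizes `Q`, the subpair at `Q` is inherited downwards along a chain. -/
theorem normalSubpair_down (hM : IsPModular p M) {Q : Subgroup G} {f : Set (IrrCharacter C[Q])}
    {a b : BrauerPairIdx G} (hab : Relation.ReflTransGen (NormalSubpairRel p M) a b)
    (hf : IsNormalSubpair p M Q f b.1 b.2) (hQa : Q ≤ a.1) :
    IsNormalSubpair p M Q f a.1 a.2 := by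
  have := isPrime hM
  induction hab using Relation.ReflTransGen.head_induction_on with
  | refl => exact hf
  | @head a c hac hcb ih =>
    have hfc := ih (hQa.trans hac.2.2.1)
    obtain ⟨hf1, -, -, hcN, hinv, hsub⟩ := (isNormalSubpair_iff hM).mp hfc
    have hac' : a.1 ≤ c.1 := hac.2.2.1
    have hinva : ∀ u ∈ a.1, ∀ g, bp ⟨Q, f⟩ (u * g * u⁻¹) = bp ⟨Q, f⟩ g :=
      fun u hu => hinv u (hac' hu)
    refine (isNormalSubpair_iff hM).mpr ⟨hf1, hac.1, hQa, hac'.trans hcN, hinva, ?_⟩
    refine (subset_cset_iff_of_normalSubpair hM hac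
      (isBrFun_bp hM (isBlockUnion_isPBlock hf1.2) hQa hinva)
      (isBrFun_bp hM (isBlockUnion_isPBlock hf1.2) (hQa.trans hac') hinv) fun g => ?_).mp hsub
    rw [conv_bp, Set.inter_self, sub_self]
    exact memLocalIdeal_zero

theorem below_unique_aux (hM : IsPModular p M) {P : Subgroup G} {e : Set (IrrCharacter C[P])}
    (he : IsBrauerPair p M P e) : ∀ n : ℕ, ∀ Q : Subgroup G, Nat.card P ≤ Nat.card Q + n →
    ∀ f f' : Set (IrrCharacter C[Q]), SubpairLE p M Q f P e → SubpairLE p M Q f' P e → f = f' := by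
  intro n
  induction n with
  | zero =>
    intro Q hn f f' h h'
    obtain rfl : Q = P := Subgroup.eq_of_le_of_card_ge (subpairLE_le h) (by simpa using hn)
    rw [subpairLE_self_eq hM h, subpairLE_self_eq hM h']
  | succ n ih =>
    intro Q hn f f' h h'
    by_cases hEq : Q = P
    · subst hEq
      rw [subpairLE_self_eq hM h, subpairLE_self_eq hM h']
    · have hlt := exists_lt_normalizer he.1 (lt_of_le_of_ne (subpairLE_le h) hEq)
      obtain ⟨g, hg⟩ := exists_below hM he
        (inf_le_left : P ⊓ Subgroup.normalizer (Q : Set G) ≤ P)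
      obtain ⟨f₀, hf₀⟩ := exists_normalSubpair hM (subpairLE_isBrauerPair hg he) hlt.le
        inf_le_right
      suffices hall : ∀ f : Set (IrrCharacter C[Q]), SubpairLE p M Q f P e → f = f₀ by
        rw [hall f h, hall f' h']
      intro f h
      obtain ⟨c, hc1, hc2, hc3⟩ := exists_strict_step hM h hEq
      have hcR : c.1 ≤ P ⊓ Subgroup.normalizer (Q : Set G) :=
        le_inf (subpairLE_le (f := c.2) (Q := c.1) hc3) hc2.2.2.2.1
      obtain ⟨h1, hh1⟩ := exists_below hM (subpairLE_isBrauerPair hg he) hcR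
      have hcard : Nat.card Q < Nat.card c.1 :=
        lt_of_not_ge fun hge => hc1.ne (Subgroup.eq_of_le_of_card_ge hc1.le hge)
      have heq : h1 = c.2 := ih c.1 (by omega) h1 c.2 (hh1.trans hg) hc3
      rw [heq] at hh1
      exact normalSubpair_unique hM hc2 (normalSubpair_down hM hh1 hf₀ hc1.le)

/-- Below a pair there is at most one pair on each subgroup. -/
theorem below_unique (hM : IsPModular p M) {P Q : Subgroup G} {e : Set (IrrCharacter C[P])}
    (he : IsBrauerPair p M P e) {f f' : Set (IrrCharacter C[Q])}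
    (h : SubpairLE p M Q f P e) (h' : SubpairLE p M Q f' P e) : f = f' :=
  below_unique_aux hM he (Nat.card P) Q (Nat.le_add_left _ _) f f' h h'

end Cfsg.Agent.BC85
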