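import Cfsg.Agent.BC85.Pairs.Nilpotent
import Cfsg.Agent.Lib.Fusion.Aut
import Cfsg.Prelude.Def_BlockFusion

/-!
# The fusion system of a block
-/

set_option linter.unusedSectionVars false

namespace Cfsg.Agent.BC85

open BlocksCore BlocksDefect
open scoped Classical

universe u

variable {G : Type u} [Group G] [Fintype G] {p : ℕ} [Fact p.Prime] {M : Ideal AlgInt}

local notation "C[" Q "]" => Subgroup.centralizer (Q : Set G)

theorem conjPair_fixed_of_mem {P : Subgroup G} (e : Set (IrrCharacter C[P])) {u : G}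
    (hu : u ∈ P) : conjPair u (⟨P, e⟩ : BrauerPairIdx G) = ⟨P, e⟩ :=
  pair_ext (map_conj_of_mem_normalizer (Subgroup.le_normalizer hu)) (funext fun g => by
    rw [bp_conjPair]
    have := bp_inv_self P e u⁻¹ (P.inv_mem hu) g
    rwa [inv_inv] at this)

/-- Transport of the condition "lies below `(P, e)`" along conjugation. -/
theorem below_conj_of_le (hM : IsPModular p M) {P : Subgroup G} {e : Set (IrrCharacter C[P])}
    (he : IsBrauerPair p M P e) {Q R : Subgroup G} {f : Set (IrrCharacter C[Q])}
    {f' : Set (IrrCharacter C[R])} (hf : SubpairLE p M Q f P e) (hf' : SubpairLE p M R f' P e)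
    (hRQ : R ≤ Q) {g : G}
    (hg : SubpairLE p M (Q.map (MulAut.conj g).toMonoidHom) (conjBlock Q g f) P e) :
    SubpairLE p M (R.map (MulAut.conj g).toMonoidHom) (conjBlock R g f') P e := by
  obtain ⟨k, hk⟩ := exists_below hM (subpairLE_isBrauerPair hf he) hRQ
  obtain rfl : k = f' := below_unique hM he (Relation.ReflTransGen.trans hk hf) hf'
  exact Relation.ReflTransGen.trans (subpairLE_conj hM hk g) hg

theorem principal_maximal (hM : IsPModular p M) (S : Sylow p G) :
    IsMaximalBrauerPair p M (principalBlock M G) (S : Subgroup G)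
      (principalBlock M C[(S : Subgroup G)]) :=
  isMaximal_of_defect hM ((isDefectGroup_principal_iff hM _).mpr ⟨S, rfl⟩)
    (principal_pairOf hM S.isPGroup')

theorem principal_fusion_eq (hM : IsPModular p M) (S : Sylow p G)
    {F : FusionSystem (S : Subgroup G)}
    (hF : IsBlockFusionSystemOn p M (principalBlock M G) (S : Subgroup G)
      (principalBlock M C[(S : Subgroup G)]) F) (Q : Subgroup G) :
    F.Hom Q = (groupFusionSystem (S : Subgroup G)).Hom Q := by
  ext φ
  rw [hF.2]
  constructor
  · rintro ⟨hQ, g, hg, hle, -⟩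
    exact ⟨hQ, fun x => hg x ▸ hle ⟨x, x.2, rfl⟩, g, hg⟩
  · rintro ⟨hQ, hS, g, hg⟩
    have hQS : Q.map (MulAut.conj g).toMonoidHom ≤ (S : Subgroup G) := by
      rintro _ ⟨x, hx, rfl⟩
      have := hS ⟨x, hx⟩
      rw [hg] at this
      exact this
    have he := (principal_maximal hM S).1
    obtain ⟨f, hf⟩ := exists_below hM he.1 hQ
    obtain ⟨f', hf'⟩ := exists_below hM he.1 hQS
    have hfp := (subpairLE_pairOf_iff hM hf _).mp he
    have hf'p := (subpairLE_pairOf_iff hM hf' _).mp he
    have heq := eq_of_principal_pairOf hM (pairOf_conj hM (a := ⟨Q, f⟩) hfp g) (b := ⟨_, f'⟩) hf'p rfl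
    refine ⟨hQ, g, hg, hQS, f, hf, ?_⟩
    show Relation.ReflTransGen (NormalSubpairRel p M) (conjPair g ⟨Q, f⟩) _
    rw [heq]
    exact hf'

end Cfsg.Agent.BC85
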