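import Cfsg.Agent.BC85.Pairs.Local
import Mathlib.GroupTheory.Sylow
import Mathlib.GroupTheory.Nilpotent

/-!
# Blocks of stabilizers of chains of `p`-subgroups
-/

namespace Cfsg.Agent.BC85

open BlocksCore

variable {G : Type*} [Group G]

/-- An element of order prime to `p` normalizing a finite `p`-group and fixing a subgroup
together with its centralizer there fixes the whole group. -/
theorem centralizes_of_fixes [Finite G] {p : ℕ} [Fact p.Prime] {S B : Subgroup G}
    (hS : IsPGroup p S) {n : G} (hn : n ∈ Subgroup.normalizer (S : Set G)) (hpn : ¬ p ∣ orderOf n)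
    (hB : B ≤ Subgroup.centralizer ({n} : Set G))
    (hC : ∀ s ∈ S, s ∈ Subgroup.centralizer (B : Set G) → n * s = s * n) :
    S ≤ Subgroup.centralizer ({n} : Set G) ∨ ¬ B ≤ S := by
  by_cases hBS : B ≤ S
  swap
  · exact Or.inr hBS
  refine Or.inl ?_
  set F : Subgroup S := (Subgroup.centralizer ({n} : Set G)).subgroupOf S with hF
  suffices hF' : F = ⊤ by
    intro s hs
    have : (⟨s, hs⟩ : S) ∈ F := hF' ▸ Subgroup.mem_top _
    exact this
  have hmem : ∀ s : S, s ∈ F ↔ n * (s : G) = (s : G) * n := fun s => by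
    rw [hF, Subgroup.mem_subgroupOf, Subgroup.mem_centralizer_singleton_iff]
    exact eq_comm
  haveI : Group.IsNilpotent S := hS.isNilpotent
  refine normalizerCondition_iff_only_full_group_self_normalizing.mp
    Group.normalizerCondition_of_isNilpotent F (le_antisymm ?_ Subgroup.le_normalizer)
  intro s hs
  rw [hmem]
  -- `t` is the commutator of `n` with `s`
  set t : G := (s : G)⁻¹ * (n * (s : G) * n⁻¹) with ht
  have hnS : n * (s : G) * n⁻¹ ∈ S := (Subgroup.mem_normalizer_iff.mp hn _).mp s.2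
  have htS : t ∈ S := S.mul_mem (S.inv_mem s.2) hnS
  have htB : t ∈ Subgroup.centralizer (B : Set G) := by
    rw [Subgroup.mem_centralizer_iff]
    intro b hb
    have hbn : n * b = b * n := (Subgroup.mem_centralizer_singleton_iff.mp (hB hb)).symm
    have hbF : (⟨b, hBS hb⟩ : S) ∈ F := (hmem _).mpr hbn
    have hc : n * ((s : G) * b * (s : G)⁻¹) = ((s : G) * b * (s : G)⁻¹) * n :=
      (hmem _).mp ((Subgroup.mem_normalizer_iff.mp hs _).mp hbF)
    calc b * t = (s : G)⁻¹ * ((s : G) * b * (s : G)⁻¹) * (n * (s : G) * n⁻¹) := by rw [ht]; group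
      _ = (s : G)⁻¹ * (n * ((s : G) * b * (s : G)⁻¹) * n⁻¹) * (n * (s : G) * n⁻¹) := by
          rw [hc]; group
      _ = (s : G)⁻¹ * (n * (s : G)) * (b * n⁻¹) := by group
      _ = (s : G)⁻¹ * (n * (s : G)) * (n⁻¹ * b) := by
          rw [show b * n⁻¹ = n⁻¹ * b by
            calc b * n⁻¹ = n⁻¹ * (n * b) * n⁻¹ := by group
              _ = n⁻¹ * (b * n) * n⁻¹ := by rw [hbn]
              _ = n⁻¹ * b := by group]
      _ = t * b := by rw [ht]; group
  have htn : n * t = t * n := hC t htS htB
  have hpow : ∀ k : ℕ, n ^ k * (s : G) * (n ^ k)⁻¹ = (s : G) * t ^ k := by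
    intro k
    induction k with
    | zero => simp
    | succ k ih =>
      have htk : n * t ^ k * n⁻¹ = t ^ k := by
        rw [(Commute.pow_right htn k).eq]; group
      calc n ^ (k + 1) * (s : G) * (n ^ (k + 1))⁻¹ = n * (n ^ k * (s : G) * (n ^ k)⁻¹) * n⁻¹ := by
            rw [pow_succ']; group
        _ = (n * (s : G) * n⁻¹) * (n * t ^ k * n⁻¹) := by rw [ih]; group
        _ = (s : G) * t * t ^ k := by rw [htk, ht]; group
        _ = (s : G) * t ^ (k + 1) := by rw [pow_succ', mul_assoc]
  have h1 : t ^ orderOf n = 1 := by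
    have := hpow (orderOf n)
    rw [pow_orderOf_eq_one] at this
    simpa using this
  have h2 : t = 1 := by
    obtain ⟨j, hj⟩ := IsPGroup.iff_orderOf.mp hS ⟨t, htS⟩
    rw [← Subgroup.orderOf_coe] at hj
    have hdvd : orderOf t ∣ orderOf n := orderOf_dvd_of_pow_eq_one h1
    rcases Nat.eq_zero_or_pos j with rfl | hj0
    · exact orderOf_eq_one_iff.mp (by simpa using hj)
    · exact absurd ((dvd_pow_self p hj0.ne').trans (hj ▸ hdvd)) hpn
  have := hpow 1
  rw [pow_one, h2, one_pow, mul_one] at this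
  calc n * (s : G) = (n * (s : G) * n⁻¹) * n := by group
    _ = (s : G) * n := by rw [this]

/-- Block idempotents of a chain stabilizer live on the centralizer of the last term. -/
theorem blockCoeff_chain_eq_zero [Fintype G] (p : ℕ) [Fact p.Prime] {M : Ideal AlgInt}
    (hM : IsPModular p M) {m : ℕ} (Q : Fin (m + 1) → Subgroup G) (hQ : StrictMono Q)
    (hQp : ∀ i, IsPGroup p (Q i)) {N : Subgroup G}
    (hN : ∀ g : G, g ∈ N ↔ ∀ i, g ∈ Subgroup.normalizer (Q i : Set G))
    {E : Set (IrrCharacter N)} (hE : IsPBlock M E) (n : N)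
    (hn : (n : G) ∉ Subgroup.centralizer (Q (Fin.last m) : Set G)) : blockCoeff E n = 0 := by
  classical
  have := isPrime hM
  by_contra hne
  set P : Subgroup N := (Q (Fin.last m)).subgroupOf N with hP
  have hNQ : N ≤ Subgroup.normalizer (Q (Fin.last m) : Set G) := fun g hg => (hN g).mp hg _
  haveI : P.Normal := Subgroup.normal_subgroupOf_of_le_normalizer hNQ
  have hcent : n ∈ Subgroup.centralizer (P : Set N) := by
    by_contra h
    exact hne (blockCoeff_eq_zero_of_notMem_centralizer hM P
      (isPGroup_subgroupOf (hQp _) N) hE h)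
  have hreg : ¬ p ∣ orderOf (n : G) := fun h => hne
    (blockCoeff_eq_zero_of_dvd_orderOf hM hE (by rwa [← Subgroup.orderOf_coe]))
  have hQN : ∀ x ∈ Q (Fin.last m), x ∈ N → (n : G) * x = x * (n : G) := fun x hx hxN =>
    congrArg Subtype.val ((Subgroup.mem_centralizer_iff.mp hcent) ⟨x, hxN⟩ hx).symm
  have key : ∀ i : ℕ, ∀ hi : i < m + 1,
      Q ⟨i, hi⟩ ≤ Subgroup.centralizer ({(n : G)} : Set G) := by
    intro i
    induction i with
    | zero =>
      intro hi x hx
      rw [Subgroup.mem_centralizer_singleton_iff]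
      refine (hQN x (hQ.monotone (Fin.le_last _) hx) ((hN x).mpr fun j => ?_)).symm
      exact Subgroup.le_normalizer (hQ.monotone (show (⟨0, hi⟩ : Fin (m + 1)) ≤ j from
        Nat.zero_le _) hx)
    | succ i ih =>
      intro hi
      have hlt : (⟨i, Nat.lt_of_succ_lt hi⟩ : Fin (m + 1)) < ⟨i + 1, hi⟩ := Nat.lt_succ_self i
      refine (centralizes_of_fixes (hQp ⟨i + 1, hi⟩) ((hN _).mp n.2 _) hreg
        (ih (Nat.lt_of_succ_lt hi)) (fun s hs hsB => ?_)).resolve_right
          (not_not.mpr (hQ hlt).le)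
      refine hQN s (hQ.monotone (Fin.le_last _) hs) ((hN s).mpr fun j => ?_)
      by_cases hj : (j : ℕ) ≤ i
      · refine Subgroup.mem_normalizer_iff.mpr fun x => ?_
        have hjle : Q j ≤ Q ⟨i, Nat.lt_of_succ_lt hi⟩ := hQ.monotone hj
        constructor
        · intro hx
          rw [← Subgroup.mem_centralizer_iff.mp hsB x (hjle hx), mul_inv_cancel_right]
          exact hx
        · intro hx
          have e := Subgroup.mem_centralizer_iff.mp hsB _ (hjle hx)
          rw [show s * x * s⁻¹ * s = s * x by group] at e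
          rw [mul_left_cancel e]
          exact hx
      · exact Subgroup.le_normalizer (hQ.monotone (show (⟨i + 1, hi⟩ : Fin (m + 1)) ≤ j from
          Nat.succ_le_of_lt (not_le.mp hj)) hs)
  refine hn (Subgroup.mem_centralizer_iff.mpr fun x hx => ?_)
  exact Subgroup.mem_centralizer_singleton_iff.mp (key m (Nat.lt_succ_self m) hx)

end Cfsg.Agent.BC85
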