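import Cfsg.Agent.BC85.Pairs.Pair

/-!
# Conjugation of Brauer pairs
-/

set_option linter.unusedSectionVars false

namespace Cfsg.Agent.BC85

open BlocksCore
open scoped Classical

universe u

variable {G : Type u} [Group G] [Fintype G] {p : ℕ} [Fact p.Prime] {M : Ideal AlgInt}

local notation "C[" Q "]" => Subgroup.centralizer (Q : Set G)

/-- The conjugate of a pair. -/
def conjPair (x : G) (a : BrauerPairIdx G) : BrauerPairIdx G :=
  ⟨a.1.map (MulAut.conj x).toMonoidHom, conjBlock a.1 x a.2⟩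

theorem conjPair_fst (x : G) (a : BrauerPairIdx G) :
    (conjPair x a).1 = a.1.map (MulAut.conj x).toMonoidHom := rfl

theorem mem_map_conj_iff {Q : Subgroup G} {x y : G} :
    y ∈ Q.map (MulAut.conj x).toMonoidHom ↔ x⁻¹ * y * x ∈ Q := by
  constructor
  · rintro ⟨q, hq, rfl⟩
    show x⁻¹ * (x * q * x⁻¹) * x ∈ Q
    rwa [show x⁻¹ * (x * q * x⁻¹) * x = q by group]
  · exact fun h => ⟨_, h, show x * (x⁻¹ * y * x) * x⁻¹ = y by group⟩

theorem map_conj_map_conj (Q : Subgroup G) (x y : G) :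
    (Q.map (MulAut.conj x).toMonoidHom).map (MulAut.conj y).toMonoidHom =
      Q.map (MulAut.conj (y * x)).toMonoidHom := by
  ext z
  simp only [mem_map_conj_iff, mul_inv_rev, mul_assoc]

theorem map_conj_of_mem_normalizer {Q : Subgroup G} {x : G}
    (hx : x ∈ Subgroup.normalizer (Q : Set G)) : Q.map (MulAut.conj x).toMonoidHom = Q :=
  Subgroup.ext fun y => mem_map_conj_iff.trans (mem_normalizer_conj_iff hx y).symm

theorem bp_conjPair (x : G) (a : BrauerPairIdx G) (g : G) :
    bp (conjPair x a) g = bp a (x⁻¹ * g * x) := by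
  show subgroupBlockCoeff _ (conjBlock a.1 x a.2) g = _
  rw [conjBlock_eq]
  exact subgroupBlockCoeff_conjSet _ _ g

theorem conjPair_conjPair (x y : G) (a : BrauerPairIdx G) :
    conjPair y (conjPair x a) = conjPair (y * x) a :=
  pair_ext (map_conj_map_conj a.1 x y) (funext fun g => by
    simp only [bp_conjPair, mul_inv_rev, mul_assoc])

theorem conjPair_one (a : BrauerPairIdx G) : conjPair 1 a = a :=
  pair_ext (Subgroup.ext fun y => by simp [conjPair_fst, mem_map_conj_iff])
    (funext fun g => by simp [bp_conjPair])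

theorem pullIrr_mem_cset_iff (P : Subgroup G) (x : G) {β β' : G → ℂ}
    (hβ' : ∀ g, β' g = β (x⁻¹ * g * x)) (ξ : IrrCharacter C[P]) :
    pullIrr (conjIso C[P] _ x (mem_centralizer_map_conj P x)) ξ ∈
      cset M (P.map (MulAut.conj x).toMonoidHom) β' ↔ ξ ∈ cset M P β := by
  have e : pullFun (Subgroup.centralizer
      ((P.map (MulAut.conj x).toMonoidHom : Subgroup G) : Set G)).subtype β' =
      fun c => pullFun (C[P]).subtype β (conjIso C[P] _ x (mem_centralizer_map_conj P x) c) :=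
    funext fun c => hβ' _
  show ¬ MemLocalIdeal M _ ↔ ¬ MemLocalIdeal M _
  rw [e, omega_pullIrr]

theorem conjBlock_subset_cset (P : Subgroup G) (x : G) {β β' : G → ℂ}
    (hβ' : ∀ g, β' g = β (x⁻¹ * g * x)) {e : Set (IrrCharacter C[P])}
    (h : e ⊆ cset M P β) : conjBlock P x e ⊆ cset M (P.map (MulAut.conj x).toMonoidHom) β' := by
  rw [conjBlock_eq]
  rintro _ ⟨ξ, hξ, rfl⟩
  exact (pullIrr_mem_cset_iff P x hβ' ξ).mpr (h hξ)

theorem isBrauerPair_conj (hM : IsPModular p M) {a : BrauerPairIdx G}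
    (h : IsBrauerPair p M a.1 a.2) (x : G) :
    IsBrauerPair p M (conjPair x a).1 (conjPair x a).2 := by
  have := isPrime hM
  refine ⟨h.1.map _, ?_⟩
  show IsPBlock M (conjBlock a.1 x a.2)
  rw [conjBlock_eq]
  exact isPBlock_conjSet _ h.2

theorem normalSubpair_conj (hM : IsPModular p M) {a b : BrauerPairIdx G}
    (h : NormalSubpairRel p M a b) (x : G) :
    NormalSubpairRel p M (conjPair x a) (conjPair x b) := by
  obtain ⟨ha, hb, hle, hN, hinv, hsub⟩ := (isNormalSubpair_iff hM).mp h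
  refine (isNormalSubpair_iff hM).mpr ⟨isBrauerPair_conj hM ha x, isBrauerPair_conj hM hb x,
    Subgroup.map_mono hle, ?_, ?_, conjBlock_subset_cset b.1 x (bp_conjPair x a) hsub⟩
  · rintro _ ⟨u, hu, rfl⟩
    refine Subgroup.mem_normalizer_iff.mpr fun y => ?_
    show y ∈ a.1.map _ ↔ x * u * x⁻¹ * y * (x * u * x⁻¹)⁻¹ ∈ a.1.map _
    rw [mem_map_conj_iff, mem_map_conj_iff, Subgroup.mem_normalizer_iff.mp (hN hu)]
    simp [mul_assoc]
  · intro u hu g
    show bp (conjPair x a) _ = bp (conjPair x a) g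
    rw [bp_conjPair, bp_conjPair]
    have h' := hinv _ (mem_map_conj_iff.mp hu) (x⁻¹ * g * x)
    rw [show x⁻¹ * (u * g * u⁻¹) * x = x⁻¹ * u * x * (x⁻¹ * g * x) * (x⁻¹ * u * x)⁻¹ by group]
    exact h'

theorem subpairLE_conj (hM : IsPModular p M) {a b : BrauerPairIdx G}
    (h : Relation.ReflTransGen (NormalSubpairRel p M) a b) (x : G) :
    Relation.ReflTransGen (NormalSubpairRel p M) (conjPair x a) (conjPair x b) := by
  induction h with
  | refl => exact Relation.ReflTransGen.refl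
  | tail _ hbc ih => exact ih.tail (normalSubpair_conj hM hbc x)

theorem pairOf_conj (hM : IsPModular p M) {B : Set (IrrCharacter G)} {a : BrauerPairIdx G}
    (h : IsBrauerPairOf p M B a.1 a.2) (x : G) :
    IsBrauerPairOf p M B (conjPair x a).1 (conjPair x a).2 := by
  obtain ⟨ha, hB, hsub⟩ := (isBrauerPairOf_iff hM).mp h
  refine (isBrauerPairOf_iff hM).mpr ⟨isBrauerPair_conj hM ha x, hB,
    conjBlock_subset_cset a.1 x (fun g => ?_) hsub⟩
  simpa using (isClassFunction_blockCoeff B g x⁻¹).symm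

end Cfsg.Agent.BC85
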