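import Cfsg.Agent.BC85.Pairs.Stabilizer
import Cfsg.Agent.BC85.Pairs.BlockFusion
import Cfsg.Agent.BC85.Basic

/-!
# Fully centralized, fully normalized and centric subgroups for a block fusion system
-/

set_option linter.unusedSectionVars false

namespace Cfsg.Agent.BC85

open BlocksCore BlocksDefect
open scoped Classical

universe u

variable {G : Type u} [Group G] [Fintype G] {p : ℕ} [Fact p.Prime] {M : Ideal AlgInt}

local notation "C[" Q "]" => Subgroup.centralizer (Q : Set G)

variable {B : Set (IrrCharacter G)} {P : Subgroup G}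
  {e : Set (IrrCharacter (Subgroup.centralizer (P : Set G)))}
  {F : FusionSystem P}

theorem fusion_isConj_iff (hF : IsBlockFusionSystemOn p M B P e F) {Q R : Subgroup G} :
    F.IsConj Q R ↔ ∃ g : G, Q.map (MulAut.conj g).toMonoidHom = R ∧
      ∃ f, SubpairLE p M Q f P e ∧
        SubpairLE p M (Q.map (MulAut.conj g).toMonoidHom) (conjBlock Q g f) P e := by
  constructor
  · rintro ⟨φ, hφ, rfl⟩
    obtain ⟨-, g, hg, -, f, hf, hgf⟩ := (hF.2 Q φ).mp hφ
    refine ⟨g, ?_, f, hf, hgf⟩
    ext y
    constructor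
    · rintro ⟨x, hx, rfl⟩; exact ⟨⟨x, hx⟩, hg _⟩
    · rintro ⟨x, rfl⟩; exact ⟨x, x.2, (hg x).symm⟩
  · rintro ⟨g, rfl, f, hf, hgf⟩
    refine ⟨(MulAut.conj g).toMonoidHom.comp Q.subtype,
      (hF.2 Q _).mpr ⟨subpairLE_le hf, g, fun _ => rfl, subpairLE_le hgf, f, hf, hgf⟩, ?_⟩
    ext y
    constructor
    · rintro ⟨x, rfl⟩; exact ⟨x, x.2, rfl⟩
    · rintro ⟨x, hx, rfl⟩; exact ⟨⟨x, hx⟩, rfl⟩

/-- The isomorphism of centralizers carries defect groups of `f` to those of its conjugate. -/
theorem card_defect_conjBlock (hM : IsPModular p M) {Q : Subgroup G} {f : Set (IrrCharacter C[Q])}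
    (hf : IsPBlock M f) (x : G) {D : Subgroup C[Q]} (hD : IsDefectGroup p M f D)
    {D' : Subgroup (Subgroup.centralizer ((Q.map (MulAut.conj x).toMonoidHom : Subgroup G) : Set G))}
    (hD' : IsDefectGroup p M (conjBlock Q x f) D') : Nat.card D' = Nat.card D := by
  have := isPrime hM
  set σ := conjIso C[Q] _ x (mem_centralizer_map_conj Q x) with hσ
  have hval : ∀ k, blockCoeff (conjBlock Q x f) k = blockCoeff f (σ k) := fun k => by
    rw [conjBlock_eq, conjSet, blockCoeff_image_pullIrr]
  refine le_antisymm (card_defectGroup_le_of_iso hM hf hD hD' σ hval)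
    (card_defectGroup_le_of_iso hM ?_ hD' hD σ.symm fun k => ?_)
  · rw [conjBlock_eq]; exact isPBlock_conjSet _ hf
  · rw [hval, σ.apply_symm_apply]

theorem fullyCentralized_iff (hM : IsPModular p M) (hF : IsBlockFusionSystemOn p M B P e F)
    {Q : Subgroup G} {f : Set (IrrCharacter C[Q])} (hle : SubpairLE p M Q f P e) :
    F.IsFullyCentralized Q ↔
      IsDefectGroup p M f ((P ⊓ C[Q]).subgroupOf C[Q]) := by
  have := isPrime hM
  have he := hF.1.1.1
  have hQP := subpairLE_le hle
  have hf := (subpairLE_isBrauerPair hle he).2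
  obtain ⟨D, hD, hge⟩ := centralizerPart_le_defectGroup hM he hQP hle
  constructor
  · intro hfc
    obtain ⟨x, hx, hxD⟩ := exists_conj_centralizerPart_defect hM hF.1 hle
    have hcard := hfc.2 _ ((fusion_isConj_iff hF).mpr ⟨x, rfl, f, hle, hx⟩)
    rw [FusionSystem.centralizerIn, FusionSystem.centralizerIn,
      ← card_subgroupOf (H := P ⊓ Subgroup.centralizer
        ((Q.map (MulAut.conj x).toMonoidHom : Subgroup G) : Set G)) inf_le_right,
      card_defect_conjBlock hM hf x hD hxD, ← card_subgroupOf (H := P ⊓ C[Q]) inf_le_right] at hcard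
    rw [Subgroup.eq_of_le_of_card_ge hge hcard]
    exact hD
  · intro hdef
    refine ⟨hQP, fun R hR => ?_⟩
    obtain ⟨g, rfl, f', hf', hgf⟩ := (fusion_isConj_iff hF).mp hR
    obtain rfl : f' = f := below_unique hM he hf' hle
    obtain ⟨D', hD', hge'⟩ := centralizerPart_le_defectGroup hM he (subpairLE_le hgf) hgf
    rw [FusionSystem.centralizerIn, FusionSystem.centralizerIn,
      ← card_subgroupOf (H := P ⊓ Subgroup.centralizer
        ((Q.map (MulAut.conj g).toMonoidHom : Subgroup G) : Set G)) inf_le_right,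
      ← card_subgroupOf (H := P ⊓ C[Q]) inf_le_right]
    exact (Subgroup.card_le_of_le hge').trans (card_defect_conjBlock hM hf g hdef hD').le

theorem stab_conj_iff (Q : Subgroup G) (f : Set (IrrCharacter C[Q])) (x y : G) :
    (y ∈ Subgroup.normalizer ((Q.map (MulAut.conj x).toMonoidHom) : Set G) ∧
      StabilizesBlock (Subgroup.centralizer ((Q.map (MulAut.conj x).toMonoidHom) : Set G))
        (conjBlock Q x f) y) ↔
    (x⁻¹ * y * x ∈ Subgroup.normalizer (Q : Set G) ∧
      StabilizesBlock C[Q] f (x⁻¹ * y * x)) := by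
  rw [stabilizesBlock_iff, stabilizesBlock_iff]
  have hN : ∀ y : G, y ∈ Subgroup.normalizer ((Q.map (MulAut.conj x).toMonoidHom) : Set G) ↔
      x⁻¹ * y * x ∈ Subgroup.normalizer (Q : Set G) := by
    intro y
    simp only [Subgroup.mem_normalizer_iff, mem_map_conj_iff]
    constructor
    · intro h q
      have := h (x * q * x⁻¹)
      simpa [mul_assoc] using this
    · intro h q
      have := h (x⁻¹ * q * x)
      simpa [mul_assoc] using this
  rw [hN]
  refine and_congr_right fun hy => and_congr ?_ ?_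
  · exact iff_of_true (normalizer_le_normalizer_centralizer _ ((hN y).mpr hy))
      (normalizer_le_normalizer_centralizer _ hy)
  · constructor
    · intro h g
      have h' := h (x * g * x⁻¹)
      rw [show subgroupBlockCoeff _ (conjBlock Q x f) = bp (conjPair x ⟨Q, f⟩) from rfl,
        bp_conjPair, bp_conjPair] at h'
      simpa [mul_assoc, bp] using h'
    · intro h g
      rw [show subgroupBlockCoeff _ (conjBlock Q x f) = bp (conjPair x ⟨Q, f⟩) from rfl,
        bp_conjPair, bp_conjPair]
      have h' := h (x⁻¹ * g * x)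
      simpa [mul_assoc, bp] using h'

theorem exists_stab_conj {T : Subgroup G} {Q : Subgroup G} {f : Set (IrrCharacter C[Q])}
    (hT : ∀ y, y ∈ T ↔ y ∈ Subgroup.normalizer (Q : Set G) ∧ StabilizesBlock C[Q] f y) (x : G)
    (y : G) :
    y ∈ T.map (MulAut.conj x).toMonoidHom ↔
      y ∈ Subgroup.normalizer ((Q.map (MulAut.conj x).toMonoidHom) : Set G) ∧
        StabilizesBlock (Subgroup.centralizer ((Q.map (MulAut.conj x).toMonoidHom) : Set G))
          (conjBlock Q x f) y := by
  rw [mem_map_conj_iff, stab_conj_iff, hT]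

theorem fullyNormalized_iff (hM : IsPModular p M) (hF : IsBlockFusionSystemOn p M B P e F)
    {Q : Subgroup G} {f : Set (IrrCharacter C[Q])} (hle : SubpairLE p M Q f P e) {T : Subgroup G}
    (hT : ∀ y, y ∈ T ↔ y ∈ Subgroup.normalizer (Q : Set G) ∧ StabilizesBlock C[Q] f y) :
    F.IsFullyNormalized Q ↔ ∃ F' : Set (IrrCharacter T), IsPBlock M F' ∧
      (∀ t : T, blockCoeff F' t = subgroupBlockCoeff C[Q] f (t : G)) ∧
      IsDefectGroup p M F' ((P ⊓ Subgroup.normalizer (Q : Set G)).subgroupOf T) := by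
  have := isPrime hM
  have he := hF.1.1.1
  have hQP := subpairLE_le hle
  obtain ⟨F₀, hF₀, hval₀, D, hD, hge⟩ := normalizerPart_le_defectGroup hM he hQP hle hT
  have hNT : P ⊓ Subgroup.normalizer (Q : Set G) ≤ T := by
    intro u hu
    obtain ⟨hinv, -⟩ := exists_unit_below hM he hle (le_inf hQP Subgroup.le_normalizer)
      inf_le_left inf_le_right
    refine (hT u).mpr ⟨hu.2, (stabilizes_iff_invariant inf_le_right f).mpr
      (fun v hv => hinv hv) u hu⟩
  -- the block of the stabilizer of a conjugate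
  have key : ∀ g : G, SubpairLE p M (Q.map (MulAut.conj g).toMonoidHom) (conjBlock Q g f) P e →
      ∃ (F' : Set (IrrCharacter (T.map (MulAut.conj g).toMonoidHom))),
        IsPBlock M F' ∧
        (∀ t : T.map (MulAut.conj g).toMonoidHom, blockCoeff F' t = subgroupBlockCoeff _
          (conjBlock Q g f) (t : G)) ∧
        P ⊓ Subgroup.normalizer ((Q.map (MulAut.conj g).toMonoidHom) : Set G) ≤
          T.map (MulAut.conj g).toMonoidHom ∧
        ∀ D' : Subgroup _, IsDefectGroup p M F' D' → Nat.card D' = Nat.card D ∧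
          Nat.card (P ⊓ Subgroup.normalizer ((Q.map (MulAut.conj g).toMonoidHom) : Set G) :
            Subgroup G) ≤ Nat.card D := by
    intro g hg
    have hT' := exists_stab_conj hT g
    obtain ⟨F', hF', hval', D₁, hD₁, hge₁⟩ :=
      normalizerPart_le_defectGroup hM he (subpairLE_le hg) hg hT'
    have hN' : P ⊓ Subgroup.normalizer ((Q.map (MulAut.conj g).toMonoidHom) : Set G) ≤
        T.map (MulAut.conj g).toMonoidHom := fun u hu => by
      obtain ⟨hinv, -⟩ := exists_unit_below hM he hg
        (le_inf (subpairLE_le hg) Subgroup.le_normalizer) inf_le_left inf_le_right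
      exact (hT' u).mpr ⟨hu.2, (stabilizes_iff_invariant inf_le_right _).mpr
        (fun v hv => hinv hv) u hu⟩
    refine ⟨F', hF', hval', hN', fun D' hD' => ?_⟩
    set σ := conjIso T (T.map (MulAut.conj g).toMonoidHom) g (fun y => mem_map_conj_iff) with hσ
    have hv : ∀ k, blockCoeff F' k = blockCoeff F₀ (σ k) := fun k => by
      rw [hval', hval₀]
      exact bp_conjPair g ⟨Q, f⟩ k
    have hcard : ∀ D'' : Subgroup _, IsDefectGroup p M F' D'' → Nat.card D'' = Nat.card D :=
      fun D'' hD'' => le_antisymm (card_defectGroup_le_of_iso hM hF₀ hD hD'' σ hv)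
        (card_defectGroup_le_of_iso hM hF' hD'' hD σ.symm fun k => by
          rw [hv, σ.apply_symm_apply])
    refine ⟨hcard D' hD', ?_⟩
    rw [← hcard D₁ hD₁, ← card_subgroupOf hN']
    exact Subgroup.card_le_of_le hge₁
  constructor
  · intro hfn
    obtain ⟨x, hx, hxD⟩ := exists_conj_normalizerPart_defect hM hF.1 hle hT
    obtain ⟨F', hF', hval', hDef⟩ := hxD _ (exists_stab_conj hT x)
    obtain ⟨F'', hF'', hval'', hN'', hcards⟩ := key x hx
    obtain rfl : F'' = F' := blockCoeff_injective (funext fun t => by rw [hval'', hval'])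
    have hc := hfn.2 _ ((fusion_isConj_iff hF).mpr ⟨x, rfl, f, hle, hx⟩)
    have h1 := (hcards _ hDef).1
    rw [card_subgroupOf hN''] at h1
    rw [FusionSystem.normalizerIn, FusionSystem.normalizerIn, h1, ← card_subgroupOf hNT] at hc
    refine ⟨F₀, hF₀, hval₀, ?_⟩
    rw [Subgroup.eq_of_le_of_card_ge hge hc]
    exact hD
  · rintro ⟨F', hF', hval', hdef⟩
    obtain rfl : F' = F₀ := blockCoeff_injective (funext fun t => by rw [hval', hval₀])
    refine ⟨hQP, fun R hR => ?_⟩
    obtain ⟨g, rfl, f', hf', hgf⟩ := (fusion_isConj_iff hF).mp hR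
    obtain rfl : f' = f := below_unique hM he hf' hle
    obtain ⟨F₁, hF₁, -, -, hcards⟩ := key g hgf
    obtain ⟨D₁, hD₁⟩ := exists_isDefectGroup hM hF₁
    obtain ⟨x, hx⟩ := isConj_defectGroup hM hF₀ hD hdef
    rw [FusionSystem.normalizerIn, FusionSystem.normalizerIn]
    refine (hcards D₁ hD₁).2.trans (le_of_eq ?_)
    rw [← card_subgroupOf hNT, ← hx, natCard_map_conj]

theorem centric_iff (hM : IsPModular p M) (hF : IsBlockFusionSystemOn p M B P e F)
    {Q : Subgroup G} {f : Set (IrrCharacter C[Q])} (hle : SubpairLE p M Q f P e) :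
    F.IsCentric Q ↔ IsDefectGroup p M f ((Q ⊓ C[Q]).subgroupOf C[Q]) := by
  have := isPrime hM
  have he := hF.1.1.1
  have hQP := subpairLE_le hle
  have hfp := subpairLE_isBrauerPair hle he
  have hcardZ : ∀ g : G, Nat.card (Q.map (MulAut.conj g).toMonoidHom ⊓
      Subgroup.centralizer ((Q.map (MulAut.conj g).toMonoidHom : Subgroup G) : Set G) :
        Subgroup G) = Nat.card (Q ⊓ C[Q] : Subgroup G) := fun g => by
    rw [← natCard_map_conj (Q ⊓ C[Q]) g]
    refine congrArg (fun S : Subgroup G => Nat.card S) (Subgroup.ext fun y => ?_)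
    simp only [Subgroup.mem_inf, mem_map_conj_iff, mem_centralizer_map_conj]
  obtain ⟨D, hD, -⟩ := centralizerPart_le_defectGroup hM he hQP hle
  constructor
  · intro hc
    obtain ⟨x, hx, hxD⟩ := exists_conj_centralizerPart_defect hM hF.1 hle
    haveI : ((Q ⊓ C[Q]).subgroupOf C[Q]).Normal := ⟨fun z hz c => by
      have hcomm : (c : G) * (z : G) * (c : G)⁻¹ = (z : G) :=
        mul_inv_eq_iff_eq_mul.mpr (Subgroup.mem_centralizer_iff.mp c.2 (z : G) hz.1).symm
      show ((c * z * c⁻¹ : C[Q]) : G) ∈ Q ⊓ C[Q]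
      rw [show ((c * z * c⁻¹ : C[Q]) : G) = (c : G) * (z : G) * (c : G)⁻¹ from rfl, hcomm]
      exact hz⟩
    have hZD : (Q ⊓ C[Q]).subgroupOf C[Q] ≤ D := BlocksDefect.le_defectGroup _ hM
      (isPGroup_subgroupOf (hfp.1.to_le inf_le_left) _) hfp.2 hD
    have h1 := card_defect_conjBlock hM hfp.2 x hD hxD
    rw [card_subgroupOf inf_le_right] at h1
    have h2 : P ⊓ Subgroup.centralizer ((Q.map (MulAut.conj x).toMonoidHom : Subgroup G) : Set G) ≤
        Q.map (MulAut.conj x).toMonoidHom ⊓
          Subgroup.centralizer ((Q.map (MulAut.conj x).toMonoidHom : Subgroup G) : Set G) :=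
      le_inf (hc.2 _ ((fusion_isConj_iff hF).mpr ⟨x, rfl, f, hle, hx⟩)) inf_le_right
    have h3 : Nat.card D ≤ Nat.card ((Q ⊓ C[Q]).subgroupOf C[Q]) := by
      rw [card_subgroupOf inf_le_right, ← h1, ← hcardZ x]
      exact Subgroup.card_le_of_le h2
    rw [Subgroup.eq_of_le_of_card_ge hZD h3]
    exact hD
  · intro hdef
    refine ⟨hQP, fun R hR => ?_⟩
    obtain ⟨g, rfl, f', hf', hgf⟩ := (fusion_isConj_iff hF).mp hR
    obtain rfl : f' = f := below_unique hM he hf' hle
    obtain ⟨D', hD', hge'⟩ := centralizerPart_le_defectGroup hM he (subpairLE_le hgf) hgf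
    have h1 := Subgroup.card_le_of_le hge'
    rw [card_defect_conjBlock hM hfp.2 g hdef hD', card_subgroupOf inf_le_right,
      card_subgroupOf inf_le_right, ← hcardZ g] at h1
    have hsub : Q.map (MulAut.conj g).toMonoidHom ⊓
        Subgroup.centralizer ((Q.map (MulAut.conj g).toMonoidHom : Subgroup G) : Set G) ≤
        P ⊓ Subgroup.centralizer ((Q.map (MulAut.conj g).toMonoidHom : Subgroup G) : Set G) :=
      inf_le_inf_right _ (subpairLE_le hgf)
    exact (Subgroup.eq_of_le_of_card_ge hsub h1).ge.trans inf_le_left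

end Cfsg.Agent.BC85
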