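import Cfsg.Agent.Lib.BlocksCore.Inflate

/-!
# Idempotent class functions, exactly and modulo the local ideal

An integral class function that is idempotent modulo the local ideal is congruent to the block
idempotent of the set of characters at which its central character is a unit; an exactly
idempotent class function is the idempotent of a set of characters.
-/

set_option linter.unusedSectionVars false

namespace Cfsg.Agent.BC85

open BlocksCore

variable {G : Type*} [Group G] [Fintype G] {p : ℕ} {M : Ideal AlgInt}

theorem blockCoeff_injective {A B : Set (IrrCharacter G)} (h : blockCoeff A = blockCoeff B) :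
    A = B := by
  ext χ
  have e := congrArg (omega (χ : G → ℂ)) h
  rw [omega_blockCoeff, omega_blockCoeff] at e
  by_cases hA : χ ∈ A <;> by_cases hB : χ ∈ B <;> simp_all

theorem conv_blockCoeff (A B : Set (IrrCharacter G)) :
    conv (blockCoeff A) (blockCoeff B) = blockCoeff (A ∩ B) :=
  eq_of_omega_eq (isClassFunction_conv (isClassFunction_blockCoeff A) (isClassFunction_blockCoeff B))
    (isClassFunction_blockCoeff _) fun χ => by
      rw [omega_conv χ (isClassFunction_blockCoeff A) (isClassFunction_blockCoeff B),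
        omega_blockCoeff, omega_blockCoeff, omega_blockCoeff]
      by_cases hA : χ ∈ A <;> by_cases hB : χ ∈ B <;> simp [hA, hB]

theorem blockCoeff_empty : blockCoeff (∅ : Set (IrrCharacter G)) = 0 :=
  eq_of_omega_eq (isClassFunction_blockCoeff _) (fun _ _ => rfl) fun χ => by
    rw [omega_blockCoeff, omega_zero, Set.indicator_of_notMem (Set.notMem_empty χ)]

theorem conv_comm' {a b : G → ℂ} (ha : IsClassFunction G a) (hb : IsClassFunction G b) :
    conv a b = conv b a :=
  eq_of_omega_eq (isClassFunction_conv ha hb) (isClassFunction_conv hb ha) fun χ => by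
    rw [omega_conv χ ha hb, omega_conv χ hb ha, mul_comm]

/-- An exactly idempotent class function is a block coefficient function. -/
theorem eq_blockCoeff_of_idem {a : G → ℂ} (ha : IsClassFunction G a) (h : conv a a = a) :
    a = blockCoeff {χ : IrrCharacter G | omega (χ : G → ℂ) a = 1} := by
  refine eq_of_omega_eq ha (isClassFunction_blockCoeff _) fun χ => ?_
  rw [omega_blockCoeff]
  have e := omega_conv χ ha ha
  rw [h] at e
  by_cases hχ : omega (χ : G → ℂ) a = 1
  · rw [Set.indicator_of_mem (show χ ∈ {χ : IrrCharacter G | omega (χ : G → ℂ) a = 1} from hχ)]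
    exact hχ
  · rw [Set.indicator_of_notMem (show χ ∉ {χ : IrrCharacter G | omega (χ : G → ℂ) a = 1} from hχ)]
    exact (mul_eq_zero.mp (show omega (χ : G → ℂ) a * (omega (χ : G → ℂ) a - 1) = 0 by
      rw [mul_sub, ← e, mul_one, sub_self])).resolve_right (sub_ne_zero.mpr hχ)

variable (M) in
/-- A union of blocks. -/
def IsBlockUnion (A : Set (IrrCharacter G)) : Prop :=
  ∀ χ ∈ A, blockOf M (χ : G → ℂ) ⊆ A

theorem IsBlockUnion.subset_of_mem [M.IsPrime] {A B : Set (IrrCharacter G)}
    (hA : IsBlockUnion M A) (hB : IsPBlock M B) {χ : IrrCharacter G} (hχA : χ ∈ A) (hχB : χ ∈ B) :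
    B ⊆ A := by
  rw [isPBlock_eq_blockOf hB hχB]
  exact hA χ hχA

theorem isBlockUnion_isPBlock [M.IsPrime] {B : Set (IrrCharacter G)} (hB : IsPBlock M B) :
    IsBlockUnion M B := fun χ hχ => by rw [← isPBlock_eq_blockOf hB hχ]

theorem isIntClassFun_blockCoeff_union (hM : IsPModular p M) {A : Set (IrrCharacter G)}
    (hA : IsBlockUnion M A) : IsIntClassFun M (blockCoeff A) := by
  classical
  have := isPrime hM
  haveI := finite_irr (G := G)
  haveI := Fintype.ofFinite (IrrCharacter G)
  have hmem : (1 - ∏ χ ∈ Finset.univ.filter (· ∈ A),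
      (1 - (blockOf M (χ : G → ℂ)).indicator 1) : IrrCharacter G → ℂ) ∈ omegaRing M :=
    sub_mem (one_mem _) (prod_mem fun χ _ => sub_mem (one_mem _)
      (indicator_block_mem_omegaRing (isPBlock_blockOf χ)))
  obtain ⟨a, ha, hav⟩ := hmem
  rw [eq_of_omega_eq (isClassFunction_blockCoeff A) ha.1 fun ψ => ?_]
  · exact ha
  rw [omega_blockCoeff, hav]
  simp only [Pi.sub_apply, Pi.one_apply, Finset.prod_apply]
  by_cases hψ : ψ ∈ A
  · rw [Set.indicator_of_mem hψ, Finset.prod_eq_zero (i := ψ) (by simp [hψ]), sub_zero]
    · rfl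
    · rw [Set.indicator_of_mem (mem_blockOf_self ψ), Pi.one_apply, sub_self]
  · rw [Set.indicator_of_notMem hψ, Finset.prod_eq_one fun χ hχ => ?_, sub_self]
    rw [Set.indicator_of_notMem (fun h => hψ (hA χ (Finset.mem_filter.mp hχ).2 h)), sub_zero]

theorem IsBlockUnion.of_integral (hM : IsPModular p M) {A : Set (IrrCharacter G)}
    (hA : ∀ g, MemLocalRing M (blockCoeff A g)) : IsBlockUnion M A :=
  fun _ hχ => blockOf_subset_of_integral hM hA hχ

theorem omega_congr [M.IsPrime] (χ : IrrCharacter G) {a b : G → ℂ} (ha : IsClassFunction G a)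
    (hb : IsClassFunction G b) (h : ∀ g, MemLocalIdeal M (a g - b g)) :
    MemLocalIdeal M (omega (χ : G → ℂ) a - omega (χ : G → ℂ) b) := by
  have e : omega (χ : G → ℂ) a - omega (χ : G → ℂ) b = omega (χ : G → ℂ) (a - b) := by
    rw [sub_eq_add_neg a b, omega_add, omega_neg, sub_eq_add_neg]
  rw [e]
  exact omega_memLocalIdeal χ (fun g h => by simp [ha g h, hb g h]) h

theorem eq_zero_or_one_of_idem [M.IsPrime] {x : ℂ} (hx : MemLocalRing M x)
    (h : MemLocalIdeal M (x * x - x)) : MemLocalIdeal M x ∨ MemLocalIdeal M (x - 1) := by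
  rw [show x * x - x = x * (x - 1) by ring] at h
  exact memLocalIdeal_mem_or_mem hx ((localRing M).sub_mem hx (localRing M).one_mem) h

theorem not_memLocalIdeal_of_sub_one [M.IsPrime] {x : ℂ} (h : MemLocalIdeal M (x - 1)) :
    ¬ MemLocalIdeal M x := fun h' => not_memLocalIdeal_one (M := M) (by
      simpa using memLocalIdeal_sub h' h)

theorem sub_indicator_memLocalIdeal [M.IsPrime] {a : G → ℂ} {A : Set (IrrCharacter G)}
    {χ : IrrCharacter G} (h1 : χ ∈ A → MemLocalIdeal M (omega (χ : G → ℂ) a - 1))
    (h0 : χ ∉ A → MemLocalIdeal M (omega (χ : G → ℂ) a)) :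
    MemLocalIdeal M (omega (χ : G → ℂ) a - A.indicator (1 : IrrCharacter G → ℂ) χ) := by
  by_cases hχ : χ ∈ A
  · rw [Set.indicator_of_mem hχ]; exact h1 hχ
  · rw [Set.indicator_of_notMem hχ, sub_zero]; exact h0 hχ

/-- An integral class function, idempotent modulo the ideal, whose central character vanishes
modulo the ideal at every character, vanishes modulo the ideal. -/
theorem memLocalIdeal_of_idem (hM : IsPModular p M) {a : G → ℂ} (ha : IsIntClassFun M a)
    (hid : ∀ g, MemLocalIdeal M (conv a a g - a g))
    (hω : ∀ χ : IrrCharacter G, MemLocalIdeal M (omega (χ : G → ℂ) a)) (g : G) :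
    MemLocalIdeal M (a g) := by
  classical
  have := isPrime hM
  have hδ : IsIntClassFun M (classInd (1 : G)) := isIntClassFun_classInd 1
  set d : G → ℂ := classInd (1 : G) + -a with hd
  have hdI : IsIntClassFun M d := isIntClassFun_add hδ (isIntClassFun_neg ha)
  have hdω : ∀ χ : IrrCharacter G, omega (χ : G → ℂ) d = 1 - omega (χ : G → ℂ) a := fun χ => by
    rw [hd, omega_add, omega_classInd_one, omega_neg, sub_eq_add_neg]
  obtain ⟨y, hy, hxy⟩ := exists_mul_eq_indicator (omega_mem_omegaRing hdI) Set.univ
    (fun χ h => absurd (Set.mem_univ χ) h) (fun χ _ hm => by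
      rw [hdω] at hm
      exact not_memLocalIdeal_one (M := M) (by simpa using memLocalIdeal_add hm (hω χ)))
  obtain ⟨c, hc, hcv⟩ := hy
  have key : a = conv c (a + -conv a a) := by
    refine eq_of_omega_eq ha.1 (isClassFunction_conv hc.1
      (isIntClassFun_add ha (isIntClassFun_neg (isIntClassFun_conv ha ha))).1) fun χ => ?_
    rw [omega_conv χ hc.1 (isIntClassFun_add ha (isIntClassFun_neg (isIntClassFun_conv ha ha))).1,
      omega_add, omega_neg, omega_conv χ ha.1 ha.1, hcv]
    have e := congrFun hxy χ
    simp only [Pi.mul_apply, Set.indicator_univ, Pi.one_apply, hdω] at e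
    linear_combination (-(omega (χ : G → ℂ) a)) * e
  rw [key, conv_apply]
  refine memLocalIdeal_sum fun u _ => memLocalIdeal_mul_left (hc.2 u) ?_
  rw [Pi.add_apply, Pi.neg_apply, ← sub_eq_add_neg, ← neg_sub]
  exact memLocalIdeal_neg (hid _)

/-- The set of characters with unit central character at `a`. -/
def unitSet (M : Ideal AlgInt) (a : G → ℂ) : Set (IrrCharacter G) :=
  {χ | ¬ MemLocalIdeal M (omega (χ : G → ℂ) a)}

theorem omega_sub_indicator_unitSet (hM : IsPModular p M) {a : G → ℂ} (ha : IsIntClassFun M a)
    (hid : ∀ g, MemLocalIdeal M (conv a a g - a g)) (χ : IrrCharacter G) :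
    MemLocalIdeal M
      (omega (χ : G → ℂ) a - (unitSet M a).indicator (1 : IrrCharacter G → ℂ) χ) := by
  have := isPrime hM
  refine sub_indicator_memLocalIdeal (fun h => ?_) fun h => not_not.mp h
  refine (eq_zero_or_one_of_idem (omega_memLocalRing χ ha) ?_).resolve_left h
  rw [← omega_conv χ ha.1 ha.1]
  exact omega_congr χ (isIntClassFun_conv ha ha).1 ha.1 hid

theorem isBlockUnion_unitSet (hM : IsPModular p M) {a : G → ℂ} (ha : IsIntClassFun M a) :
    IsBlockUnion M (unitSet M a) := by
  have := isPrime hM
  intro χ hχ ψ hψ hm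
  exact hχ (by simpa using memLocalIdeal_add (omega_sub_memLocalIdeal hψ ha) hm)

/-- The key lemma: an idempotent modulo the ideal is congruent to a block idempotent. -/
theorem sub_blockCoeff_unitSet (hM : IsPModular p M) {a : G → ℂ} (ha : IsIntClassFun M a)
    (hid : ∀ g, MemLocalIdeal M (conv a a g - a g)) (g : G) :
    MemLocalIdeal M (a g - blockCoeff (unitSet M a) g) := by
  classical
  have := isPrime hM
  set e := blockCoeff (unitSet M a) with he
  have heI : IsIntClassFun M e := isIntClassFun_blockCoeff_union hM (isBlockUnion_unitSet hM ha)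
  have hee : conv e e = e := conv_blockCoeff_self _
  have hωe : ∀ χ : IrrCharacter G,
      MemLocalIdeal M (omega (χ : G → ℂ) a - omega (χ : G → ℂ) e) := fun χ => by
    rw [he, omega_blockCoeff]
    exact omega_sub_indicator_unitSet hM ha hid χ
  have hae := isIntClassFun_conv ha heI
  have haa := isIntClassFun_conv ha ha
  have h1I : IsIntClassFun M (a + -conv a e) := isIntClassFun_add ha (isIntClassFun_neg hae)
  have h1id : conv (a + -conv a e) (a + -conv a e) = conv a a + -conv (conv a a) e := by
    refine eq_of_omega_eq (isClassFunction_conv h1I.1 h1I.1)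
      (isIntClassFun_add haa (isIntClassFun_neg (isIntClassFun_conv haa heI))).1 fun χ => ?_
    rw [omega_conv χ h1I.1 h1I.1, omega_add, omega_neg, omega_add, omega_neg,
      omega_conv χ haa.1 heI.1, omega_conv χ ha.1 ha.1, omega_conv χ ha.1 heI.1]
    have e1 := omega_conv χ heI.1 heI.1
    rw [hee] at e1
    linear_combination (-(omega (χ : G → ℂ) a * omega (χ : G → ℂ) a)) * e1
  have h1 : ∀ g, MemLocalIdeal M (a g - conv a e g) := by
    intro g
    rw [show a g - conv a e g = (a + -conv a e) g by simp [sub_eq_add_neg]]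
    refine memLocalIdeal_of_idem hM h1I (fun g => ?_) (fun χ => ?_) g
    · rw [h1id]
      simp only [Pi.add_apply, Pi.neg_apply]
      rw [show conv a a g + -conv (conv a a) e g - (a g + -conv a e g) =
        (conv a a g - a g) - (conv (conv a a) e g - conv a e g) by ring]
      refine memLocalIdeal_sub (hid g) ?_
      rw [conv_apply, conv_apply, ← Finset.sum_sub_distrib]
      exact memLocalIdeal_sum fun u _ => by
        rw [← sub_mul]; exact memLocalIdeal_mul_right (hid u) (heI.2 _)
    · rw [omega_add, omega_neg, omega_conv χ ha.1 heI.1]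
      by_cases hχ : χ ∈ unitSet M a
      · rw [he, omega_blockCoeff, Set.indicator_of_mem hχ, Pi.one_apply, mul_one, add_neg_cancel]
        exact memLocalIdeal_zero
      · rw [he, omega_blockCoeff, Set.indicator_of_notMem hχ, mul_zero, neg_zero, add_zero]
        exact not_not.mp hχ
  have h2I : IsIntClassFun M (e + -conv a e) := isIntClassFun_add heI (isIntClassFun_neg hae)
  have h2id : conv (e + -conv a e) (e + -conv a e) =
      e + -conv a e + -conv a e + conv (conv a a) e := by
    refine eq_of_omega_eq (isClassFunction_conv h2I.1 h2I.1)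
      (isIntClassFun_add (isIntClassFun_add h2I (isIntClassFun_neg hae))
        (isIntClassFun_conv haa heI)).1 fun χ => ?_
    rw [omega_conv χ h2I.1 h2I.1]
    simp only [omega_add, omega_neg]
    rw [omega_conv χ haa.1 heI.1, omega_conv χ ha.1 ha.1, omega_conv χ ha.1 heI.1]
    have e1 := omega_conv χ heI.1 heI.1
    rw [hee] at e1
    linear_combination -((1 - omega (χ : G → ℂ) a) ^ 2) * e1
  have h2 : ∀ g, MemLocalIdeal M (e g - conv a e g) := by
    intro g
    rw [show e g - conv a e g = (e + -conv a e) g by simp [sub_eq_add_neg]]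
    refine memLocalIdeal_of_idem hM h2I (fun g => ?_) (fun χ => ?_) g
    · rw [h2id]
      simp only [Pi.add_apply, Pi.neg_apply]
      rw [show e g + -conv a e g + -conv a e g + conv (conv a a) e g - (e g + -conv a e g) =
        conv (conv a a) e g - conv a e g by ring, conv_apply, conv_apply,
        ← Finset.sum_sub_distrib]
      exact memLocalIdeal_sum fun u _ => by
        rw [← sub_mul]; exact memLocalIdeal_mul_right (hid u) (heI.2 _)
    · rw [omega_add, omega_neg, omega_conv χ ha.1 heI.1]
      have := memLocalIdeal_mul_right (hωe χ) (omega_memLocalRing χ heI)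
      have e1 := omega_conv χ heI.1 heI.1
      rw [hee] at e1
      rw [sub_mul, ← e1] at this
      simpa [sub_eq_add_neg, add_comm] using memLocalIdeal_neg this
  rw [show a g - e g = (a g - conv a e g) - (e g - conv a e g) by ring]
  exact memLocalIdeal_sub (h1 g) (h2 g)

theorem unitSet_congr (hM : IsPModular p M) {a b : G → ℂ} (ha : IsClassFunction G a)
    (hb : IsClassFunction G b) (h : ∀ g, MemLocalIdeal M (a g - b g)) :
    unitSet M a = unitSet M b := by
  have := isPrime hM
  ext χ
  have h' := omega_congr χ ha hb h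
  exact ⟨fun h1 h2 => h1 (by simpa using memLocalIdeal_add h' h2),
    fun h1 h2 => h1 (by simpa using memLocalIdeal_sub h2 h')⟩

theorem unitSet_blockCoeff (hM : IsPModular p M) (A : Set (IrrCharacter G)) :
    unitSet M (blockCoeff A) = A := by
  have := isPrime hM
  ext χ
  by_cases hχ : χ ∈ A <;>
    simp [unitSet, omega_blockCoeff, hχ, not_memLocalIdeal_one, memLocalIdeal_zero]

theorem unitSet_nonempty (hM : IsPModular p M) {a : G → ℂ} (ha : IsIntClassFun M a)
    (hid : ∀ g, MemLocalIdeal M (conv a a g - a g)) {g : G} (hg : ¬ MemLocalIdeal M (a g)) :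
    (unitSet M a).Nonempty := by
  rw [Set.nonempty_iff_ne_empty]
  intro h
  have := sub_blockCoeff_unitSet hM ha hid g
  rw [h, blockCoeff_empty, Pi.zero_apply, sub_zero] at this
  exact hg this

end Cfsg.Agent.BC85
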