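import Cfsg.Agent.BC85.Pairs.Pull

/-!
# The two centralizer embeddings used for Brauer pairs
-/

namespace Cfsg.Agent.BC85

open BlocksCore

universe u

variable {G : Type u} [Group G]

theorem isCentHom_subtype (P : Subgroup G) :
    IsCentHom P (Subgroup.centralizer (P : Set G)).subtype :=
  ⟨Subtype.val_injective, fun x => ⟨fun h => ⟨⟨x, h⟩, rfl⟩, fun ⟨c, hc⟩ => hc ▸ c.2⟩⟩

theorem mem_centralizer_subgroupOf {P H : Subgroup G} (hPH : P ≤ H) (h : H) :
    h ∈ Subgroup.centralizer ((P.subgroupOf H : Subgroup H) : Set H) ↔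
      (h : G) ∈ Subgroup.centralizer (P : Set G) := by
  simp only [Subgroup.mem_centralizer_iff, SetLike.mem_coe, Subgroup.mem_subgroupOf]
  exact ⟨fun hh u hu => congrArg Subtype.val (hh ⟨u, hPH hu⟩ hu),
    fun hh u hu => Subtype.ext (hh (u : G) hu)⟩

theorem isCentHom_inclusion {P H : Subgroup G} (hPH : P ≤ H)
    (hCH : Subgroup.centralizer (P : Set G) ≤ H) :
    IsCentHom (P.subgroupOf H) (Subgroup.inclusion hCH) :=
  ⟨Subgroup.inclusion_injective hCH, fun h => by
    rw [mem_centralizer_subgroupOf hPH]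
    exact ⟨fun hh => ⟨⟨h, hh⟩, Subtype.ext rfl⟩, fun ⟨c, hc⟩ => hc ▸ c.2⟩⟩

theorem isPGroup_subgroupOf {p : ℕ} {P : Subgroup G} (hP : IsPGroup p P) (H : Subgroup G) :
    IsPGroup p (P.subgroupOf H) :=
  hP.of_injective
    { toFun := fun x => (⟨((x : H) : G), x.2⟩ : P)
      map_one' := rfl
      map_mul' := fun _ _ => rfl }
    fun _ _ h => Subtype.ext (Subtype.ext (congrArg (fun z : P => (z : G)) h))

theorem blockCoeff_eq_zero_of_notMem_centralizer {G : Type u} [Group G] [Fintype G] {p : ℕ}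
    [Fact p.Prime] {M : Ideal AlgInt} (hM : IsPModular p M) (P : Subgroup G) [P.Normal]
    (hP : IsPGroup p P) {B : Set (IrrCharacter G)} (hB : IsPBlock M B) {g : G}
    (hg : g ∉ Subgroup.centralizer (P : Set G)) : blockCoeff B g = 0 := by
  classical
  exact blockCoeff_eq_zero_of_notMem hM hP (isCentHom_subtype P) hB hg

end Cfsg.Agent.BC85
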