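import Cfsg.Agent.BC85.Pairs.NilpotentFusion

/-!
# Pairs at a normal subgroup; the block of `Q C(Q)` below a centric pair
-/

set_option linter.unusedSectionVars false

namespace Cfsg.Agent.BC85

open BlocksCore BlocksDefect
open scoped Classical

universe u

variable {G : Type u} [Group G] [Fintype G] {p : ℕ} [Fact p.Prime] {M : Ideal AlgInt}

local notation "C[" Q "]" => Subgroup.centralizer (Q : Set G)

/-- If everything stabilizes the pair, its idempotent is that of its block. -/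
theorem blockCoeff_eq_bp_of_stab_top (hM : IsPModular p M) {B : Set (IrrCharacter G)}
    {Q : Subgroup G} {f : Set (IrrCharacter C[Q])} (hQf : IsBrauerPairOf p M B Q f)
    (htop : stabT Q f = ⊤) : blockCoeff B = bp ⟨Q, f⟩ := by
  have := isPrime hM
  obtain ⟨hf, hB, hsub⟩ := (isBrauerPairOf_iff hM).mp hQf
  have hall : ∀ x : G, x ∈ stabT Q f := fun x => htop ▸ Subgroup.mem_top x
  haveI : Q.Normal := Subgroup.normalizer_eq_top_iff.mp (eq_top_iff.mpr fun x _ => (hall x).1)
  have hι := isCentHom_subtype Q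
  have heq : f = brSet M (C[Q]).subtype (blockCoeff B) := by
    refine eq_brSet_of_invariant hM hf.1 hι hB (isBlockUnion_isPBlock hf.2) hsub
      (isPBlock_nonempty hf.2) fun x σ hσ c => ?_
    rw [← bp_apply_coe Q f, ← bp_apply_coe Q f]
    have hd : ((σ c : C[Q]) : G) = x⁻¹ * (c : G) * x := hσ c
    rw [hd]
    simpa using (Subgroup.inv_mem _ (hall x)).2 (c : G)
  funext g
  rw [blockCoeff_eq_extend hM hf.1 hι hB, ← heq]
  by_cases hg : g ∈ C[Q]
  · rw [show g = (C[Q]).subtype ⟨g, hg⟩ from rfl, hι.inj.extend_apply]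
    exact (bp_apply_coe Q f ⟨g, hg⟩).symm
  · rw [extend_of_notMem hι _ hg, bp_of_notMem Q f hg]

/-- The block of `N C(Q)` above a pair has defect at most `|N|` when `N` contains a defect group of
the block of `C(Q)`. -/
theorem card_defect_over_le (hM : IsPModular p M) {Q N K : Subgroup G}
    {f : Set (IrrCharacter C[Q])} (hf : IsPBlock M f) (hK : K = N ⊔ C[Q])
    (hNQ : N ≤ Subgroup.normalizer (Q : Set G)) {D₀ : Subgroup C[Q]}
    (hD₀ : IsDefectGroup p M f D₀) (hcard : Nat.card D₀ ≤ Nat.card (N ⊓ C[Q] : Subgroup G))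
    {E : Set (IrrCharacter K)}
    (hval : subgroupBlockCoeff K E = bp ⟨Q, f⟩) {D : Subgroup K} (hD : IsDefectGroup p M E D) :
    Nat.card D ≤ Nat.card N := by
  have := isPrime hM
  have hKN : K ≤ Subgroup.normalizer (Q : Set G) :=
    hK ▸ sup_le hNQ (BlocksCore.centralizer_le_normalizer' Q)
  have hNK : N ≤ K := hK ▸ le_sup_left
  have hCK : C[Q] ≤ K := hK ▸ le_sup_right
  have hEK : ∀ x : K, bp ⟨Q, f⟩ (x : G) = blockCoeff E x := fun x => by
    rw [← hval, subgroupBlockCoeff_coe]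
  set ε : K →* MulAut Q := (Fusion.conjAutHom ⊤ Q).comp
    (Subgroup.inclusion (le_inf le_top hKN)) with hε
  have hεker : ∀ x : K, x ∈ ε.ker ↔ (x : G) ∈ C[Q] := fun x => by
    rw [MonoidHom.mem_ker, Subgroup.mem_centralizer_iff]
    constructor
    · intro h q hq
      have := congrArg Subtype.val (DFunLike.congr_fun h ⟨q, hq⟩)
      exact (mul_inv_eq_iff_eq_mul.mp this).symm
    · intro h
      refine MulEquiv.ext fun q => Subtype.ext ?_
      exact mul_inv_eq_iff_eq_mul.mpr (h q q.2).symm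
  rw [← card_subgroupOf hNK, natCard_eq_map_mul_inf_ker ε D,
    natCard_eq_map_mul_inf_ker ε (N.subgroupOf K)]
  refine Nat.mul_le_mul ?_ ?_
  · have htop : N.subgroupOf K ⊔ C[Q].subgroupOf K = ⊤ := by
      rw [← Subgroup.subgroupOf_sup hNK hCK, ← hK, Subgroup.subgroupOf_self]
    have hbot : (C[Q].subgroupOf K).map ε = ⊥ :=
      (Subgroup.map_eq_bot_iff _).mpr fun x hx => (hεker x).mpr hx
    refine Subgroup.card_le_of_le (le_trans (Subgroup.map_mono le_top) ?_)
    rw [← htop, Subgroup.map_sup, hbot, sup_bot_eq]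
  · obtain ⟨g₀, hg₀, hS⟩ := isDefectGroup_iff.mp hD
    have hgC : (g₀ : G) ∈ C[Q] := by
      by_contra h
      refine hg₀.2.1 ?_
      rw [← hEK, bp_of_notMem Q f h]
      exact memLocalIdeal_zero
    set S := ((D ⊓ ε.ker).map K.subtype).subgroupOf C[Q] with hSdef
    have hScard : Nat.card S = Nat.card (D ⊓ ε.ker : Subgroup K) := by
      rw [hSdef, card_subgroupOf]
      · exact (Nat.card_congr
          ((D ⊓ ε.ker).equivMapOfInjective _ K.subtype_injective).toEquiv).symm
      · rintro _ ⟨x, hx, rfl⟩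
        exact (hεker x).mp hx.2
    have hSp : IsPGroup p S :=
      isPGroup_subgroupOf (((isPGroup_of_isDefectGroup hD).to_le inf_le_left).map _) _
    have hcen : (⟨g₀, hgC⟩ : C[Q]) ∈ Subgroup.centralizer (S : Set C[Q]) := by
      refine Subgroup.mem_centralizer_iff.mpr ?_
      rintro s ⟨x, hx, hxs⟩
      refine Subtype.ext ?_
      show (s : G) * (g₀ : G) = (g₀ : G) * (s : G)
      rw [show (s : G) = (x : G) from hxs.symm]
      exact congrArg Subtype.val (Subgroup.mem_centralizer_iff.mp hS.mem_centralizer x hx.1)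
    have hdvd := (subConj_defectGroup_of_coeff hM hf hD₀ hSp hcen (by
      rw [← bp_apply_coe Q f, hEK]; exact hg₀.2.1)).card_dvd
    rw [hScard] at hdvd
    refine ((Nat.le_of_dvd Nat.card_pos hdvd).trans hcard).trans ?_
    rw [← card_subgroupOf (show N ⊓ C[Q] ≤ K from inf_le_left.trans hNK)]
    exact Subgroup.card_le_of_le fun x hx => ⟨hx.1, (hεker x).mpr hx.2⟩

/-- Below a centric pair, the block of `Q C(Q)` is nilpotent. -/
theorem exists_nilpotent_over_centric (hM : IsPModular p M) {Q : Subgroup G}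
    {f : Set (IrrCharacter C[Q])} (hf : IsBrauerPair p M Q f)
    (hdef : IsDefectGroup p M f ((Q ⊓ C[Q]).subgroupOf C[Q])) :
    ∃ F' : Set (IrrCharacter (Q ⊔ C[Q] : Subgroup G)), IsPBlock M F' ∧
      subgroupBlockCoeff (Q ⊔ C[Q]) F' = bp ⟨Q, f⟩ ∧ IsNilpotentBlock p M F' := by
  have := isPrime hM
  have hN : Q ⊔ C[Q] ≤ Subgroup.normalizer (Q : Set G) :=
    sup_le Subgroup.le_normalizer (BlocksCore.centralizer_le_normalizer' Q)
  obtain ⟨E, hE, hval⟩ := exists_block_stable hM hf.1 le_sup_left le_sup_right hN hf.2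
    fun u hu => le_invSubgroup_self Q f hu
  refine ⟨E, hE, hval, hE, fun R' f' hR' x hxN _ hreg => ?_⟩
  obtain ⟨D, hD⟩ := exists_isDefectGroup hM hE
  haveI hQn : (Q.subgroupOf (Q ⊔ C[Q])).Normal := Subgroup.normal_subgroupOf_of_le_normalizer hN
  have hQD : Q.subgroupOf (Q ⊔ C[Q]) ≤ D :=
    BlocksDefect.le_defectGroup _ hM (isPGroup_subgroupOf hf.1 _) hE hD
  have hDQ : Q.subgroupOf (Q ⊔ C[Q]) = D := by
    refine Subgroup.eq_of_le_of_card_ge hQD ?_
    rw [card_subgroupOf le_sup_left]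
    exact card_defect_over_le hM hf.2 rfl Subgroup.le_normalizer hdef
      (card_subgroupOf inf_le_right).le hval hD
  obtain ⟨t, ht⟩ := pairOf_subConj_defect hM (hDQ ▸ hD) hR'
  have hRQ : R' ≤ Q.subgroupOf (Q ⊔ C[Q]) := fun r hr => by
    have h1 := hQn.conj_mem _ (ht ⟨r, hr, rfl⟩) t⁻¹
    simpa [mul_assoc] using h1
  have hx2 : (x : G) ∈ ((Q ⊔ C[Q] : Subgroup G) : Set G) := x.2
  rw [Subgroup.coe_mul_of_left_le_normalizer_right Q C[Q]
    ((Subgroup.le_normalizer : Q ≤ _).trans (normalizer_le_normalizer_centralizer Q))] at hx2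
  obtain ⟨u, hu, c, hc, huc⟩ := hx2
  have huc' : u * c = (x : G) := huc
  refine mem_centralizer_of_induced (P := Q.subgroupOf (Q ⊔ C[Q])) (isPGroup_subgroupOf hf.1 _)
    hxN hreg (u := ⟨u, (le_sup_left : Q ≤ Q ⊔ C[Q]) hu⟩) hu fun q hq => Subtype.ext ?_
  show (x : G) * (q : G) * (x : G)⁻¹ = u * (q : G) * u⁻¹
  have hcq : c * (q : G) * c⁻¹ = q :=
    mul_inv_eq_iff_eq_mul.mpr (Subgroup.mem_centralizer_iff.mp hc q (hRQ hq)).symm
  rw [← huc']
  calc u * c * (q : G) * (u * c)⁻¹ = u * (c * q * c⁻¹) * u⁻¹ := by group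
    _ = u * q * u⁻¹ := by rw [hcq]

end Cfsg.Agent.BC85
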