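import Cfsg.Agent.BC85.Pairs.Stabilizer
import Cfsg.Agent.BC85.Basic

/-!
# The orbit formula for a normal `p`-subgroup, and the Brauer correspondence
-/

set_option linter.unusedSectionVars false

namespace Cfsg.Agent.BC85

open BlocksCore BlocksDefect
open scoped Classical

universe u

variable {G : Type u} [Group G] [Fintype G] {p : ℕ} [Fact p.Prime] {M : Ideal AlgInt}

local notation "C[" Q "]" => Subgroup.centralizer (Q : Set G)

theorem orbit_formula (hM : IsPModular p M) {P : Subgroup G} [P.Normal] (hP : IsPGroup p P)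
    {B : Set (IrrCharacter G)} {e : Set (IrrCharacter C[P])}
    (hBe : IsBrauerPairOf p M B P e) {T : Subgroup G}
    (hT : ∀ x : G, x ∈ T ↔ StabilizesBlock C[P] e x) :
    (∃ E : Set (IrrCharacter T), IsPBlock M E ∧
      ∀ t : T, blockCoeff E t = subgroupBlockCoeff C[P] e (t : G)) ∧
    ∀ g : G, blockCoeff B g =
      (Nat.card T : ℂ)⁻¹ * ∑ x : G, subgroupBlockCoeff C[P] e (x⁻¹ * g * x) := by
  have := isPrime hM
  obtain ⟨he, hB, hsub⟩ := (isBrauerPairOf_iff hM).mp hBe
  have htop : ∀ x : G, x ∈ Subgroup.normalizer (P : Set G) := fun x =>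
    (Subgroup.normalizer_eq_top (H := P)) ▸ Subgroup.mem_top x
  have hmem : ∀ x : G, ∀ z, z ∈ C[P] ↔ x⁻¹ * z * x ∈ C[P] := fun x =>
    mem_normalizer_conj_iff (normalizer_le_normalizer_centralizer P (htop x))
  have hTinv : ∀ x, x ∈ T ↔ x ∈ invSubgroup (bp ⟨P, e⟩) := fun x => by
    rw [hT, stabilizesBlock_iff,
      and_iff_right (normalizer_le_normalizer_centralizer P (htop x))]
    refine ⟨fun h => ?_, fun h g => ?_⟩
    · rw [← inv_inv x]
      exact Subgroup.inv_mem _ fun g => by rw [inv_inv]; exact h g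
    · have := Subgroup.inv_mem _ h g
      rwa [inv_inv] at this
  have hPT : P ≤ T := fun u hu => (hTinv u).mpr (bp_inv_self P e u hu)
  have hCT : C[P] ≤ T := fun u hu =>
    (hTinv u).mpr fun g => subgroupBlockCoeff_conj_of_mem e hu g
  refine ⟨?_, ?_⟩
  · obtain ⟨E, hE, hEeq⟩ := exists_block_stable hM hP hPT hCT (fun x _ => htop x) he.2
      fun u hu => (hTinv u).mp hu
    exact ⟨E, hE, fun t => by rw [← subgroupBlockCoeff_coe T E, hEeq]; rfl⟩
  have hι := isCentHom_subtype P
  set A := brSet M (C[P]).subtype (blockCoeff B) with hA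
  have hAinv : ∀ x : G, conjSet (hmem x) A = A := fun x =>
    subgroupBlockCoeff_injective (funext fun g => by
      rw [subgroupBlockCoeff_conjSet]
      by_cases hg : g ∈ C[P]
      · have key := brSet_conj_invariant (M := M) hι (isIntClassFun_blockCoeff hM hB).1 (x := x)
          (σ := conjIso C[P] C[P] x (hmem x)) (fun c => rfl) ⟨g, hg⟩
        rw [subgroupBlockCoeff_of_mem _ _ hg, subgroupBlockCoeff_of_mem _ _ ((hmem x g).mp hg)]
        exact key
      · rw [subgroupBlockCoeff_of_notMem _ _ hg,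
          subgroupBlockCoeff_of_notMem _ _ fun h => hg ((hmem x g).mpr h)])
  set S : Set (IrrCharacter C[P]) := {η | ∃ x : G, η ∈ conjSet (hmem x) e} with hS
  have hSA : S = A := by
    refine eq_brSet_of_invariant hM hP hι hB ?_ ?_ ?_ fun x σ hσ c => ?_
    · rintro η ⟨y, hy⟩ θ hθ
      refine ⟨y, ?_⟩
      rw [← isPBlock_eq_blockOf (isPBlock_conjSet (hmem y) he.2) hy] at hθ
      exact hθ
    · rintro η ⟨y, ψ, hψ, rfl⟩
      have h : pullIrr (conjIso C[P] C[P] y (hmem y)) ψ ∈ conjSet (hmem y) A :=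
        ⟨ψ, hsub hψ, rfl⟩
      rw [hAinv] at h
      exact h
    · obtain ⟨ξ, hξ⟩ := isPBlock_nonempty he.2
      exact ⟨_, 1, ξ, hξ, rfl⟩
    · have himg : pullIrr σ '' S = S := by
        refine Set.eq_of_subset_of_ncard_le ?_ ?_ (Set.toFinite _)
        · rintro _ ⟨η, ⟨y, ψ, hψ, rfl⟩, rfl⟩
          refine ⟨x * y, ψ, hψ, Subtype.ext (funext fun d => ?_)⟩
          simp only [pullIrr_apply]
          refine congrArg (ψ : C[P] → ℂ) (Subtype.ext ?_)
          have hd : ((σ d : C[P]) : G) = x⁻¹ * (d : G) * x := hσ d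
          show (x * y)⁻¹ * (d : G) * (x * y) = y⁻¹ * ((σ d : C[P]) : G) * y
          rw [hd]; group
        · rw [Set.ncard_image_of_injective _ fun a b hab => ?_]
          refine Subtype.ext (funext fun k => ?_)
          obtain ⟨k', rfl⟩ := σ.surjective k
          exact congrFun (congrArg Subtype.val hab) k'
      have := congrFun (blockCoeff_image_pullIrr σ S) c
      rw [himg] at this
      exact this.symm
  have hTne : (Nat.card T : ℂ) ≠ 0 := Nat.cast_ne_zero.mpr Nat.card_pos.ne'
  intro g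
  by_cases hg : g ∈ C[P]
  swap
  · rw [blockCoeff_eq_zero_of_notMem hM hP hι hB hg, Finset.sum_eq_zero fun x _ => ?_, mul_zero]
    exact subgroupBlockCoeff_of_notMem _ _ fun h => hg ((hmem x g).mpr h)
  have hsum : (∑ x : G, blockCoeff (conjSet (hmem x) e)) =
      (Nat.card T : ℂ) • blockCoeff S := by
    refine eq_of_omega_eq (fun a b => ?_) (fun a b => ?_) fun η => ?_
    · simp only [Finset.sum_apply]
      exact Finset.sum_congr rfl fun x _ => isClassFunction_blockCoeff _ a b
    · simp only [Pi.smul_apply, isClassFunction_blockCoeff S a b]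
    rw [omega_sum, omega_smul, omega_blockCoeff]
    simp only [omega_blockCoeff]
    by_cases hη : η ∈ S
    · obtain ⟨x₀, hx₀⟩ := id hη
      rw [Set.indicator_of_mem hη, Pi.one_apply, mul_one]
      have hiff : ∀ x : G, η ∈ conjSet (hmem x) e ↔ x₀⁻¹ * x ∈ T := by
        intro x
        rw [hTinv]
        constructor
        · intro hx
          have heq := isPBlock_eq_of_mem (isPBlock_conjSet (hmem x) he.2)
            (isPBlock_conjSet (hmem x₀) he.2) hx hx₀
          intro z
          have h1 := congrArg (fun s => subgroupBlockCoeff C[P] s (x * z * x⁻¹)) heq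
          simp only [subgroupBlockCoeff_conjSet] at h1
          rw [show x⁻¹ * (x * z * x⁻¹) * x = z by group] at h1
          rw [show x₀⁻¹ * x * z * (x₀⁻¹ * x)⁻¹ = x₀⁻¹ * (x * z * x⁻¹) * x₀ by group]
          exact h1.symm
        · intro hx
          have heq : conjSet (hmem x) e = conjSet (hmem x₀) e :=
            subgroupBlockCoeff_injective (funext fun z => by
              rw [subgroupBlockCoeff_conjSet, subgroupBlockCoeff_conjSet]
              have := hx (x⁻¹ * z * x)
              rw [show x₀⁻¹ * x * (x⁻¹ * z * x) * (x₀⁻¹ * x)⁻¹ = x₀⁻¹ * z * x₀ by group] at this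
              exact this.symm)
          rw [heq]; exact hx₀
      have hcard : (Nat.card T : ℂ) = ∑ x : G, if x₀⁻¹ * x ∈ T then (1 : ℂ) else 0 := by
        rw [← Equiv.sum_comp (Equiv.mulLeft x₀) (fun x => if x₀⁻¹ * x ∈ T then (1 : ℂ) else 0)]
        simp only [Equiv.coe_mulLeft, inv_mul_cancel_left]
        rw [Finset.sum_boole, Nat.card_eq_fintype_card, Fintype.card_subtype]
      rw [hcard]
      refine Finset.sum_congr rfl fun x _ => ?_
      by_cases hx : η ∈ conjSet (hmem x) e
      · rw [Set.indicator_of_mem hx, if_pos ((hiff x).mp hx)]; rfl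
      · rw [Set.indicator_of_notMem hx, if_neg fun h => hx ((hiff x).mpr h)]
    · rw [Set.indicator_of_notMem hη, mul_zero, Finset.sum_eq_zero fun x _ => ?_]
      exact Set.indicator_of_notMem (fun h => hη ⟨x, h⟩) _
  have h1 := congrFun (pull_blockCoeff_eq hM hP hι hB) ⟨g, hg⟩
  rw [← hA, ← hSA] at h1
  have h2 := congrFun hsum ⟨g, hg⟩
  rw [Finset.sum_apply, Pi.smul_apply, smul_eq_mul, ← h1] at h2
  rw [show pullFun (C[P]).subtype (blockCoeff B) ⟨g, hg⟩ = blockCoeff B g from rfl] at h2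
  rw [eq_inv_mul_iff_mul_eq₀ hTne, ← h2]
  refine Finset.sum_congr rfl fun x _ => ?_
  rw [← subgroupBlockCoeff_conjSet (hmem x) e g, subgroupBlockCoeff_of_mem _ _ hg]

/-- Blocks of `G` and of `H` with congruent idempotents on `C(P)` have the same Brauer image. -/
theorem cset_congr (hM : IsPModular p M) {P : Subgroup G} {a b : G → ℂ} (ha : IsBrFun M P a)
    (hb : IsBrFun M P b) (h : ∀ x ∈ C[P], MemLocalIdeal M (a x - b x)) :
    cset M P a = cset M P b :=
  unitSet_congr hM (isIntClassFun_pullFun (isCentHom_subtype P) ha).1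
    (isIntClassFun_pullFun (isCentHom_subtype P) hb).1 fun c => h _ c.2

theorem congr_of_cset_eq (hM : IsPModular p M) {P : Subgroup G} (hP : IsPGroup p P) {a b : G → ℂ}
    (ha : IsBrFun M P a) (hb : IsBrFun M P b)
    (hida : ∀ g, MemLocalIdeal M (conv a a g - a g))
    (hidb : ∀ g, MemLocalIdeal M (conv b b g - b g))
    (h : cset M P a = cset M P b) (x : G) (hx : x ∈ C[P]) : MemLocalIdeal M (a x - b x) := by
  have := isPrime hM
  have h1 := pull_sub_blockCoeff_brSet hM hP (isCentHom_subtype P) ha hida ⟨x, hx⟩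
  have h2 := pull_sub_blockCoeff_brSet hM hP (isCentHom_subtype P) hb hidb ⟨x, hx⟩
  rw [show brSet M (C[P]).subtype a = brSet M (C[P]).subtype b from h] at h1
  have h3 := memLocalIdeal_sub h1 h2
  rwa [sub_sub_sub_cancel_right] at h3

section Correspondence

variable {P H : Subgroup G}

theorem cset_over_subset (hM : IsPModular p M) (hP : IsPGroup p P) (hPH : P ≤ H)
    (hCH : C[P] ≤ H) {B : Set (IrrCharacter G)} {e : Set (IrrCharacter C[P])}
    (h : IsBrauerPairOf p M B P e) {c : Set (IrrCharacter H)} (hc : IsPBlock M c)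
    (hsub : e ⊆ cset M P (subgroupBlockCoeff H c)) :
    cset M P (subgroupBlockCoeff H c) ⊆ cset M P (blockCoeff B) := by
  have := isPrime hM
  intro η hη
  obtain ⟨B', hB', hmem⟩ := exists_block_mem_brSet hM hP (isCentHom_subtype P) η
  suffices B' = B by rw [← this]; exact hmem
  have hη' : blockOf M (η : C[P] → ℂ) ⊆ cset M P (subgroupBlockCoeff H c) :=
    isBlockUnion_cset hM (isBrFun_subgroupBlockCoeff hM (isBlockUnion_isPBlock hc) hPH hCH) η hη
  have hpair : IsBrauerPairOf p M B' P (blockOf M (η : C[P] → ℂ)) := (isBrauerPairOf_iff hM).mpr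
    ⟨⟨hP, isPBlock_blockOf η⟩, hB', isBlockUnion_cset hM (isBrFun_blockCoeff hM P hB') η hmem⟩
  obtain ⟨χ, hχ⟩ := isPBlock_nonempty hB'
  obtain ⟨ψ, hψ⟩ := isPBlock_nonempty h.2.1
  obtain ⟨θ, hθ⟩ := isPBlock_nonempty hc
  have i1 := isInducedBlock_of_over hM hPH hCH h hc hsub
  have i2 := isInducedBlock_of_over hM hPH hCH hpair hc hη'
  refine isPBlock_eq_of_mem hB' h.2.1 hχ ?_
  rw [isPBlock_eq_blockOf h.2.1 hψ]
  intro g
  have h3 := memLocalIdeal_sub (i2.2.2 θ hθ χ hχ g) (i1.2.2 θ hθ ψ hψ g)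
  rwa [sub_sub_sub_cancel_left] at h3

theorem exists_correspondent (hM : IsPModular p M) (hP : IsPGroup p P)
    (hH : Subgroup.normalizer (P : Set G) ≤ H) {B : Set (IrrCharacter G)} (hB : IsPBlock M B)
    (hD : IsDefectGroup p M B P) :
    ∃ c : Set (IrrCharacter H), IsPBlock M c ∧ IsDefectGroup p M c (P.subgroupOf H) ∧
      cset M P (subgroupBlockCoeff H c) = cset M P (blockCoeff B) := by
  have := isPrime hM
  have hPH : P ≤ H := Subgroup.le_normalizer.trans hH
  have hCH : C[P] ≤ H := (BlocksCore.centralizer_le_normalizer' P).trans hH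
  obtain ⟨e, he⟩ := exists_pairOf_of_subConj hM hB hD hP (subConj_refl P)
  obtain ⟨c, hc, hsub⟩ := exists_block_over hM hP hPH hCH he.1.2
  have hbr := isBrFun_subgroupBlockCoeff hM (isBlockUnion_isPBlock hc) hPH hCH
  have hAc := cset_over_subset hM hP hPH hCH he hc hsub
  refine ⟨c, hc, ?_, hAc.antisymm fun η hη => ?_⟩
  · obtain ⟨R, hR⟩ := exists_isDefectGroup hM hc
    obtain ⟨y, hy, hu⟩ := exists_unit_of_subset_cset hM hbr (isPBlock_nonempty he.1.2) hsub
    rw [subgroupBlockCoeff_of_mem H c (hCH hy)] at hu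
    obtain ⟨R', hR', hPR⟩ := exists_defectGroup_ge_of_unit hM hc (isPGroup_subgroupOf hP H)
      (c := ⟨y, hCH hy⟩) ((mem_centralizer_subgroupOf hPH _).mpr hy) hu
    by_contra hne
    have hlt : P < R'.map H.subtype := by
      refine lt_of_le_of_ne (fun u hu => ⟨⟨u, hPH hu⟩, hPR (show u ∈ P from hu), rfl⟩) fun h => hne ?_
      have : R' = P.subgroupOf H := le_antisymm (fun r hr => by
        show (r : G) ∈ P
        exact h.ge ⟨r, hr, rfl⟩) hPR
      exact this ▸ hR'
    have hR'p : IsPGroup p (R'.map H.subtype) := (isPGroup_of_isDefectGroup hR').map _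
    set R₁ := R'.map H.subtype ⊓ Subgroup.normalizer (P : Set G) with hR₁
    have hlt₁ : P < R₁ := exists_lt_normalizer hR'p hlt
    obtain ⟨g₀, hg₀, hS⟩ := isDefectGroup_iff.mp hR'
    have hcR : (g₀ : G) ∈ C[R₁] := centralizer_anti inf_le_left (Subgroup.mem_centralizer_iff.mpr (by
      rintro _ ⟨r, hr, rfl⟩
      exact congrArg Subtype.val (Subgroup.mem_centralizer_iff.mp hS.mem_centralizer r hr)))
    have hR₁H : R₁ ≤ H := inf_le_right.trans hH
    have hR₁p : IsPGroup p R₁ := hR'p.to_le inf_le_left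
    have hbrR := isBrFun_subgroupBlockCoeff hM (isBlockUnion_isPBlock hc) hR₁H
      ((centralizer_anti hlt₁.le).trans hCH)
    obtain ⟨k, hk, hksub⟩ := exists_block_subset_cset hM hR₁p hbrR (conv_sub_idem_mod c) hcR
      (by rw [subgroupBlockCoeff_coe]; exact hg₀.2.1)
    obtain ⟨f, hf⟩ := exists_normalSubpair hM (e := k) ⟨hR₁p, hk⟩ hlt₁.le inf_le_right
    have hfsub := (subset_cset_iff_of_normalSubpair hM hf hbr hbrR (conv_sub_idem_mod c)).mp hksub
    have hfpair : IsBrauerPairOf p M B P f :=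
      (isBrauerPairOf_iff hM).mpr ⟨hf.1, hB, hfsub.trans hAc⟩
    have hRpair := (normalSubpair_pairOf_iff hM hf B).mpr hfpair
    exact hlt₁.ne ((isMaximal_of_defect hM hD hfpair).2 _ _ hRpair
      (Relation.ReflTransGen.single hf)).symm
  · have hηu : blockOf M (η : C[P] → ℂ) ⊆ cset M P (blockCoeff B) :=
      isBlockUnion_cset hM (isBrFun_blockCoeff hM P hB) η hη
    have hη' : IsBrauerPairOf p M B P (blockOf M (η : C[P] → ℂ)) :=
      (isBrauerPairOf_iff hM).mpr ⟨⟨hP, isPBlock_blockOf η⟩, hB, hηu⟩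
    obtain ⟨x, hxN, hx⟩ := exists_conj_of_maximal hM (isMaximal_of_defect hM hD he)
      (isMaximal_of_defect hM hD hη')
    have hxH := hH hxN
    have hmem := mem_normalizer_conj_iff (normalizer_le_normalizer_centralizer P hxN)
    have heq : conjSet hmem e = blockOf M (η : C[P] → ℂ) :=
      subgroupBlockCoeff_injective (funext fun g => by
        rw [subgroupBlockCoeff_conjSet]
        have := congrArg (fun a => bp a g) hx
        simp only [bp_conjPair] at this
        exact this)
    have hηmem : η ∈ conjSet hmem e := heq ▸ mem_blockOf_self η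
    obtain ⟨ψ, hψ, rfl⟩ := hηmem
    have hψ' := hsub hψ
    show ¬ MemLocalIdeal M _
    rw [show pullFun (C[P]).subtype (subgroupBlockCoeff H c) =
      fun d => pullFun (C[P]).subtype (subgroupBlockCoeff H c) (conjIso C[P] C[P] x hmem d) from
        funext fun d => by
          show subgroupBlockCoeff H c (d : G) = subgroupBlockCoeff H c (x⁻¹ * (d : G) * x)
          have h' := subgroupBlockCoeff_conj_of_mem c hxH (x⁻¹ * (d : G) * x)
          rwa [show x * (x⁻¹ * (d : G) * x) * x⁻¹ = d by group] at h',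
      omega_pullIrr]
    exact hψ'

theorem exists_block_of_correspondent (hM : IsPModular p M) (hP : IsPGroup p P)
    (hH : Subgroup.normalizer (P : Set G) ≤ H) {c : Set (IrrCharacter H)} (hc : IsPBlock M c)
    (hD : IsDefectGroup p M c (P.subgroupOf H)) :
    ∃ B : Set (IrrCharacter G), IsPBlock M B ∧ IsDefectGroup p M B P ∧
      cset M P (subgroupBlockCoeff H c) = cset M P (blockCoeff B) := by
  have := isPrime hM
  have hPH : P ≤ H := Subgroup.le_normalizer.trans hH
  have hCH : C[P] ≤ H := (BlocksCore.centralizer_le_normalizer' P).trans hH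
  have hbr := isBrFun_subgroupBlockCoeff hM (isBlockUnion_isPBlock hc) hPH hCH
  obtain ⟨g₀, hg₀, hS⟩ := isDefectGroup_iff.mp hD
  have hgC : (g₀ : G) ∈ C[P] :=
    (mem_centralizer_subgroupOf hPH _).mp hS.mem_centralizer
  obtain ⟨e, he, hsub⟩ := exists_block_subset_cset hM hP hbr (conv_sub_idem_mod c) hgC
    (by rw [subgroupBlockCoeff_coe]; exact hg₀.2.1)
  obtain ⟨B, hBe, -⟩ := existsUnique_block_of_pair hM (P := P) (e := e) ⟨hP, he⟩
  have hD' : IsDefectGroup p M B P := by
    refine isDefectGroup_of_maximal hM (e := e) ⟨hBe, fun R g hg hle => ?_⟩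
    by_contra hne
    have hlt : P < R ⊓ Subgroup.normalizer (P : Set G) :=
      exists_lt_normalizer hg.1.1 (lt_of_le_of_ne (subpairLE_le hle) (Ne.symm hne))
    obtain ⟨hinv, -⟩ := exists_unit_below hM hg.1 hle hlt.le inf_le_left inf_le_right
    obtain ⟨g', hg'⟩ := exists_below hM hg.1
      (inf_le_left : R ⊓ Subgroup.normalizer (P : Set G) ≤ R)
    obtain ⟨f, hf⟩ := exists_normalSubpair hM (subpairLE_isBrauerPair hg' hg.1) hlt.le inf_le_right
    obtain rfl : f = e := below_unique hM hg.1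
      (Relation.ReflTransGen.head (show NormalSubpairRel p M ⟨P, f⟩ ⟨_, g'⟩ from hf) hg') hle
    have hR₁H : R ⊓ Subgroup.normalizer (P : Set G) ≤ H := inf_le_right.trans hH
    have hbrR := isBrFun_subgroupBlockCoeff hM (isBlockUnion_isPBlock hc) hR₁H
      ((centralizer_anti hlt.le).trans hCH)
    have hksub := (subset_cset_iff_of_normalSubpair hM hf hbr hbrR (conv_sub_idem_mod c)).mpr hsub
    obtain ⟨y, hy, hu⟩ := exists_unit_of_subset_cset hM hbrR
      (isPBlock_nonempty hf.2.1.2) hksub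
    have hyH : y ∈ H := hCH (centralizer_anti hlt.le hy)
    rw [subgroupBlockCoeff_of_mem H c hyH] at hu
    have hsc := subConj_defectGroup_of_coeff hM hc hD
      (isPGroup_subgroupOf (hg.1.1.to_le inf_le_left) H)
      (h := ⟨y, hyH⟩) ((mem_centralizer_subgroupOf hR₁H _).mpr hy) hu
    have hdvd := hsc.card_dvd
    rw [card_subgroupOf hR₁H, card_subgroupOf hPH] at hdvd
    exact hlt.ne (Subgroup.eq_of_le_of_card_ge hlt.le (Nat.le_of_dvd Nat.card_pos hdvd))
  obtain ⟨c', hc', -, hEq⟩ := exists_correspondent hM hP hH hBe.2.1 hD'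
  obtain rfl : c = c' := by
    obtain ⟨ξ, hξ⟩ := isPBlock_nonempty he
    have h1 : ξ ∈ cset M P (subgroupBlockCoeff H c) := hsub hξ
    have h2 : ξ ∈ cset M P (subgroupBlockCoeff H c') :=
      hEq.symm ▸ ((isBrauerPairOf_iff hM).mp hBe).2.2 hξ
    rw [cset_subgroupBlockCoeff hCH] at h1 h2
    exact brSet_disjoint hM (isPGroup_subgroupOf hP H) (isCentHom_inclusion hPH hCH) hc hc' h1 h2
  exact ⟨B, hBe.2.1, hD', hEq⟩

/-- The Brauer correspondence over a subgroup containing the normalizer. -/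
theorem brauerCorrespondence (hM : IsPModular p M) (hP : IsPGroup p P)
    (hH : Subgroup.normalizer (P : Set G) ≤ H) :
    (∀ B : Set (IrrCharacter G), IsPBlock M B → IsDefectGroup p M B P →
      ∃! c : Set (IrrCharacter H), IsPBlock M c ∧ IsDefectGroup p M c (P.subgroupOf H) ∧
        ∀ x : G, x ∈ C[P] → MemLocalIdeal M (blockCoeff B x - subgroupBlockCoeff H c x)) ∧
    (∀ c : Set (IrrCharacter H), IsPBlock M c → IsDefectGroup p M c (P.subgroupOf H) →
      ∃! B : Set (IrrCharacter G), IsPBlock M B ∧ IsDefectGroup p M B P ∧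
        ∀ x : G, x ∈ C[P] → MemLocalIdeal M (blockCoeff B x - subgroupBlockCoeff H c x)) := by
  have := isPrime hM
  have hPH : P ≤ H := Subgroup.le_normalizer.trans hH
  have hCH : C[P] ≤ H := (BlocksCore.centralizer_le_normalizer' P).trans hH
  have hiff : ∀ {B : Set (IrrCharacter G)} {c : Set (IrrCharacter H)}, IsPBlock M B → IsPBlock M c →
      ((∀ x : G, x ∈ C[P] → MemLocalIdeal M (blockCoeff B x - subgroupBlockCoeff H c x)) ↔
        cset M P (blockCoeff B) = cset M P (subgroupBlockCoeff H c)) := fun hB hc =>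
    ⟨cset_congr hM (isBrFun_blockCoeff hM P hB)
      (isBrFun_subgroupBlockCoeff hM (isBlockUnion_isPBlock hc) hPH hCH),
      congr_of_cset_eq hM hP (isBrFun_blockCoeff hM P hB)
        (isBrFun_subgroupBlockCoeff hM (isBlockUnion_isPBlock hc) hPH hCH)
        (blockCoeff_idem_mod _) (conv_sub_idem_mod _)⟩
  refine ⟨fun B hB hD => ?_, fun c hc hD => ?_⟩
  · obtain ⟨c, hc, hcD, hEq⟩ := exists_correspondent hM hP hH hB hD
    refine ⟨c, ⟨hc, hcD, (hiff hB hc).mpr hEq.symm⟩, fun c' ⟨hc', hc'D, h⟩ => ?_⟩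
    obtain ⟨e, he⟩ := exists_pairOf_of_subConj hM hB hD hP (subConj_refl P)
    obtain ⟨ξ, hξ⟩ := isPBlock_nonempty he.1.2
    have h1 : ξ ∈ cset M P (blockCoeff B) := ((isBrauerPairOf_iff hM).mp he).2.2 hξ
    have h2 : ξ ∈ cset M P (subgroupBlockCoeff H c') := (hiff hB hc').mp h ▸ h1
    have h3 : ξ ∈ cset M P (subgroupBlockCoeff H c) := hEq.symm ▸ h1
    rw [cset_subgroupBlockCoeff hCH] at h2 h3
    exact brSet_disjoint hM (isPGroup_subgroupOf hP H) (isCentHom_inclusion hPH hCH) hc' hc h2 h3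
  · obtain ⟨B, hB, hBD, hEq⟩ := exists_block_of_correspondent hM hP hH hc hD
    refine ⟨B, ⟨hB, hBD, (hiff hB hc).mpr hEq.symm⟩, fun B' ⟨hB', hB'D, h⟩ => ?_⟩
    obtain ⟨e, he⟩ := exists_pairOf_of_subConj hM hB hBD hP (subConj_refl P)
    obtain ⟨ξ, hξ⟩ := isPBlock_nonempty he.1.2
    have h1 : ξ ∈ cset M P (blockCoeff B) := ((isBrauerPairOf_iff hM).mp he).2.2 hξ
    have h2 : ξ ∈ cset M P (blockCoeff B') := ((hiff hB' hc).mp h).trans hEq ▸ h1
    exact brSet_disjoint hM hP (isCentHom_subtype P) hB' hB h2 h1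

end Correspondence

end Cfsg.Agent.BC85
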