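import Cfsg.Agent.BC85.Pairs.Transport
import Cfsg.Agent.Lib.BlocksCore.Brauer
import Cfsg.Agent.Lib.BlocksDefect.Congruence
import Cfsg.Agent.Lib.BlocksDefect.Kernel

/-!
# The Brauer map along a homomorphism onto the centralizer of a `p`-subgroup

`K` is a finite group, `P` a `p`-subgroup and `ι : C →* K` an injective homomorphism with range
the centralizer of `P`.
-/

set_option linter.unusedSectionVars false

namespace Cfsg.Agent.BC85

open BlocksCore BlocksDefect
open scoped Classical

universe u v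

variable {K : Type u} [Group K] [Fintype K] {C : Type v} [Group C] [Fintype C] {p : ℕ}
  [Fact p.Prime] {M : Ideal AlgInt}

/-- `ι` is an embedding with image the centralizer of `P`. -/
structure IsCentHom (P : Subgroup K) (ι : C →* K) : Prop where
  inj : Function.Injective ι
  range : ∀ x : K, x ∈ Subgroup.centralizer (P : Set K) ↔ ∃ c, ι c = x

theorem IsCentHom.mem {P : Subgroup K} {ι : C →* K} (h : IsCentHom P ι) (c : C) :
    ι c ∈ Subgroup.centralizer (P : Set K) := (h.range _).mpr ⟨c, rfl⟩

/-- Pullback along `ι`. -/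
def pullFun (ι : C →* K) (a : K → ℂ) : C → ℂ := fun c => a (ι c)

theorem pullFun_apply (ι : C →* K) (a : K → ℂ) (c : C) : pullFun ι a c = a (ι c) := rfl

/-- Functions on which the Brauer map at `P` is multiplicative. -/
structure IsBrFun (M : Ideal AlgInt) (P : Subgroup K) (a : K → ℂ) : Prop where
  ring : ∀ y, MemLocalRing M (a y)
  invP : ∀ u ∈ P, ∀ y, a (u * y * u⁻¹) = a y
  invC : ∀ u ∈ Subgroup.centralizer (P : Set K), ∀ y, a (u * y * u⁻¹) = a y

theorem isBrFun_of_intClassFun {P : Subgroup K} {a : K → ℂ} (ha : IsIntClassFun M a) :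
    IsBrFun M P a :=
  ⟨ha.2, fun u _ y => ha.1 y u, fun u _ y => ha.1 y u⟩

theorem conv_conj_invariant {a b : K → ℂ} {u : K} (ha : ∀ y, a (u * y * u⁻¹) = a y)
    (hb : ∀ y, b (u * y * u⁻¹) = b y) (x : K) : conv a b (u * x * u⁻¹) = conv a b x := by
  rw [conv_apply, conv_apply]
  refine (Fintype.sum_equiv ((Equiv.mulLeft u).trans (Equiv.mulRight u⁻¹)) _ _ fun y => ?_).symm
  simp only [Equiv.trans_apply, Equiv.coe_mulLeft, Equiv.coe_mulRight]
  rw [ha, show (u * y * u⁻¹)⁻¹ * (u * x * u⁻¹) = u * (y⁻¹ * x) * u⁻¹ by group, hb]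

variable {P : Subgroup K} {ι : C →* K}

theorem IsBrFun.conv [M.IsPrime] {a b : K → ℂ} (ha : IsBrFun M P a) (hb : IsBrFun M P b) :
    IsBrFun M P (conv a b) :=
  ⟨fun y => by
    rw [conv_apply]
    exact memLocalRing_sum fun z _ => (localRing M).mul_mem (ha.ring z) (hb.ring _),
    fun u hu => conv_conj_invariant (ha.invP u hu) (hb.invP u hu),
    fun u hu => conv_conj_invariant (ha.invC u hu) (hb.invC u hu)⟩

theorem isIntClassFun_pullFun (hι : IsCentHom P ι) {a : K → ℂ} (ha : IsBrFun M P a) :
    IsIntClassFun M (pullFun ι a) :=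
  ⟨fun c d => by
    simp only [pullFun, map_mul, map_inv]
    exact ha.invC _ (hι.mem d) _, fun c => ha.ring _⟩

theorem sum_filter_centralizer (hι : IsCentHom P ι) (F : K → ℂ) :
    ∑ y ∈ Finset.univ.filter (· ∈ Subgroup.centralizer (P : Set K)), F y = ∑ c : C, F (ι c) :=
  (Finset.sum_bij (fun c _ => ι c) (fun c _ => Finset.mem_filter.mpr ⟨Finset.mem_univ _, hι.mem c⟩)
    (fun a _ b _ h => hι.inj h)
    (fun y hy => by
      obtain ⟨c, hc⟩ := (hι.range y).mp (Finset.mem_filter.mp hy).2
      exact ⟨c, Finset.mem_univ _, hc⟩)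
    (fun c _ => rfl)).symm

theorem conv_pull_sub (hM : IsPModular p M) (hP : IsPGroup p P) (hι : IsCentHom P ι)
    {a b : K → ℂ} (ha : IsBrFun M P a) (hb : IsBrFun M P b) (c : C) :
    MemLocalIdeal M (conv a b (ι c) - conv (pullFun ι a) (pullFun ι b) c) := by
  have h := memLocalIdeal_convSum_sub hM hP a b ha.invP hb.invP ha.ring hb.ring (hι.mem c)
  rw [sum_filter_centralizer hι] at h
  rw [conv_apply, conv_apply]
  simpa [pullFun] using h

/-- Exact multiplicativity when the first function is supported on the image. -/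
theorem conv_pull_eq (hι : IsCentHom P ι) {a b : K → ℂ}
    (ha : ∀ y ∉ Subgroup.centralizer (P : Set K), a y = 0) (c : C) :
    conv a b (ι c) = conv (pullFun ι a) (pullFun ι b) c := by
  rw [conv_apply, conv_apply, ← Finset.sum_filter_add_sum_filter_not Finset.univ
    (· ∈ Subgroup.centralizer (P : Set K)), sum_filter_centralizer hι,
    Finset.sum_eq_zero (s := Finset.univ.filter (fun y => ¬ y ∈ Subgroup.centralizer (P : Set K)))
      (fun y hy => by rw [ha y (Finset.mem_filter.mp hy).2, zero_mul]), add_zero]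
  simp [pullFun]

theorem pull_idem (hM : IsPModular p M) (hP : IsPGroup p P) (hι : IsCentHom P ι) {a : K → ℂ}
    (ha : IsBrFun M P a) (hid : ∀ g, MemLocalIdeal M (conv a a g - a g)) (c : C) :
    MemLocalIdeal M (conv (pullFun ι a) (pullFun ι a) c - pullFun ι a c) := by
  have := isPrime hM
  rw [show conv (pullFun ι a) (pullFun ι a) c - pullFun ι a c =
    (conv a a (ι c) - a (ι c)) - (conv a a (ι c) - conv (pullFun ι a) (pullFun ι a) c) by
      rw [pullFun_apply]; ring]
  exact memLocalIdeal_sub (hid _) (conv_pull_sub hM hP hι ha ha c)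

theorem pullFun_classInd_one (hι : Function.Injective ι) :
    pullFun ι (classInd (1 : K)) = classInd (1 : C) := by
  funext c
  by_cases hc : c = 1
  · subst hc
    rw [pullFun_apply, map_one, classInd_apply_of_isConj (IsConj.refl 1),
      classInd_apply_of_isConj (IsConj.refl 1)]
  · rw [pullFun_apply, classInd_apply_of_not_isConj, classInd_apply_of_not_isConj]
    · exact fun h => hc (isConj_one_right.mp h)
    · exact fun h => hc (hι ((isConj_one_right.mp h).trans (map_one ι).symm))

/-- The characters of `C` with unit central character at the Brauer image of `a`. -/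
def brSet (M : Ideal AlgInt) (ι : C →* K) (a : K → ℂ) : Set (IrrCharacter C) :=
  unitSet M (pullFun ι a)

theorem exists_block_pull (hM : IsPModular p M) (hP : IsPGroup p P) (hι : IsCentHom P ι)
    (ξ : IrrCharacter C) : ∃ B : Set (IrrCharacter K), IsPBlock M B ∧
      ∀ χ ∈ B, ∀ a, IsIntClassFun M a →
        MemLocalIdeal M (omega (ξ : C → ℂ) (pullFun ι a) - omega (χ : K → ℂ) a) := by
  have := isPrime hM
  have hcl : ∀ a, IsIntClassFun M a → IsIntClassFun M (pullFun ι a) := fun a ha =>
    isIntClassFun_pullFun hι (isBrFun_of_intClassFun ha)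
  refine exists_block_of_functional hM (fun a => omega (ξ : C → ℂ) (pullFun ι a))
    (fun a ha => omega_memLocalRing ξ (hcl a ha)) (fun a b _ _ => ?_) (fun c a _ _ => ?_)
    (fun a b ha hb => ?_) ?_
  · rw [show pullFun ι (a + b) = pullFun ι a + pullFun ι b from rfl, omega_add, sub_self]
    exact memLocalIdeal_zero
  · rw [show pullFun ι (c • a) = c • pullFun ι a from rfl, omega_smul, sub_self]
    exact memLocalIdeal_zero
  · rw [← omega_conv ξ (hcl a ha).1 (hcl b hb).1]
    exact omega_congr ξ (hcl _ (isIntClassFun_conv ha hb)).1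
      (isClassFunction_conv (hcl a ha).1 (hcl b hb).1)
      (conv_pull_sub hM hP hι (isBrFun_of_intClassFun ha) (isBrFun_of_intClassFun hb))
  · rw [pullFun_classInd_one hι.inj, omega_classInd_one, sub_self]
    exact memLocalIdeal_zero

/-- The block above `ξ` is the one whose Brauer image contains it. -/
theorem mem_brSet_iff (hM : IsPModular p M) {ξ : IrrCharacter C} {B B' : Set (IrrCharacter K)}
    (hB : IsPBlock M B) (hrel : ∀ χ ∈ B, ∀ a, IsIntClassFun M a →
      MemLocalIdeal M (omega (ξ : C → ℂ) (pullFun ι a) - omega (χ : K → ℂ) a))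
    (hB' : IsPBlock M B') :
    ξ ∈ brSet M ι (blockCoeff B') ↔ B' = B := by
  have := isPrime hM
  obtain ⟨χ, hχ⟩ := isPBlock_nonempty hB
  have h := hrel χ hχ (blockCoeff B') (isIntClassFun_blockCoeff hM hB')
  rw [omega_blockCoeff] at h
  show ¬ MemLocalIdeal M _ ↔ _
  constructor
  · intro hu
    by_contra hne
    rw [Set.indicator_of_notMem (fun h' => hne (isPBlock_eq_of_mem hB' hB h' hχ)), sub_zero] at h
    exact hu h
  · rintro rfl
    rw [Set.indicator_of_mem hχ] at h
    exact not_memLocalIdeal_of_sub_one h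

theorem brSet_rel (hM : IsPModular p M) (hP : IsPGroup p P) (hι : IsCentHom P ι)
    {B : Set (IrrCharacter K)} (hB : IsPBlock M B) {ξ : IrrCharacter C}
    (hξ : ξ ∈ brSet M ι (blockCoeff B)) {χ : IrrCharacter K} (hχ : χ ∈ B) {a : K → ℂ}
    (ha : IsIntClassFun M a) :
    MemLocalIdeal M (omega (ξ : C → ℂ) (pullFun ι a) - omega (χ : K → ℂ) a) := by
  obtain ⟨B₁, hB₁, hrel⟩ := exists_block_pull hM hP hι ξ
  obtain rfl := (mem_brSet_iff hM hB₁ hrel hB).mp hξ
  exact hrel χ hχ a ha

theorem brSet_disjoint (hM : IsPModular p M) (hP : IsPGroup p P) (hι : IsCentHom P ι)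
    {B B' : Set (IrrCharacter K)} (hB : IsPBlock M B) (hB' : IsPBlock M B') {ξ : IrrCharacter C}
    (hξ : ξ ∈ brSet M ι (blockCoeff B)) (hξ' : ξ ∈ brSet M ι (blockCoeff B')) : B = B' := by
  obtain ⟨B₁, hB₁, hrel⟩ := exists_block_pull hM hP hι ξ
  rw [(mem_brSet_iff hM hB₁ hrel hB).mp hξ, (mem_brSet_iff hM hB₁ hrel hB').mp hξ']

theorem exists_block_mem_brSet (hM : IsPModular p M) (hP : IsPGroup p P) (hι : IsCentHom P ι)
    (ξ : IrrCharacter C) :
    ∃ B : Set (IrrCharacter K), IsPBlock M B ∧ ξ ∈ brSet M ι (blockCoeff B) := by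
  obtain ⟨B₁, hB₁, hrel⟩ := exists_block_pull hM hP hι ξ
  exact ⟨B₁, hB₁, (mem_brSet_iff hM hB₁ hrel hB₁).mpr rfl⟩

theorem isBlockUnion_brSet (hM : IsPModular p M) (hι : IsCentHom P ι) {a : K → ℂ}
    (ha : IsBrFun M P a) : IsBlockUnion M (brSet M ι a) :=
  isBlockUnion_unitSet hM (isIntClassFun_pullFun hι ha)

theorem pull_sub_blockCoeff_brSet (hM : IsPModular p M) (hP : IsPGroup p P) (hι : IsCentHom P ι)
    {a : K → ℂ} (ha : IsBrFun M P a) (hid : ∀ g, MemLocalIdeal M (conv a a g - a g)) (c : C) :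
    MemLocalIdeal M (a (ι c) - blockCoeff (brSet M ι a) c) :=
  sub_blockCoeff_unitSet hM (isIntClassFun_pullFun hι ha) (pull_idem hM hP hι ha hid) c

theorem blockCoeff_idem_mod [M.IsPrime] (A : Set (IrrCharacter K)) (g : K) :
    MemLocalIdeal M (conv (blockCoeff A) (blockCoeff A) g - blockCoeff A g) := by
  rw [conv_blockCoeff_self, sub_self]
  exact memLocalIdeal_zero

section Normal

variable [P.Normal]

/-- Conjugation on the image, transported to `C`. -/
theorem exists_conj_equiv (hι : IsCentHom P ι) (x : K) :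
    ∃ σ : C ≃* C, ∀ c, ι (σ c) = x⁻¹ * ι c * x := by
  have hmem : ∀ y : K, y ∈ ι.range ↔ x⁻¹ * y * x ∈ ι.range := by
    intro y
    have hr : ∀ z : K, z ∈ ι.range ↔ z ∈ Subgroup.centralizer (P : Set K) := fun z =>
      (MonoidHom.mem_range.trans (hι.range z).symm)
    rw [hr, hr]
    have := (Subgroup.normalizer_eq_top (H := P)) ▸ Subgroup.mem_top x⁻¹
    rw [← BlocksCore.conj_mem_centralizer_iff this, inv_inv]
  refine ⟨((MonoidHom.ofInjective hι.inj).trans (conjIso ι.range ι.range x hmem)).trans
    (MonoidHom.ofInjective hι.inj).symm, fun c => ?_⟩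
  simp only [MulEquiv.trans_apply, MonoidHom.apply_ofInjective_symm]
  rfl

theorem brSet_conj_invariant (hι : IsCentHom P ι) {a : K → ℂ} (ha : IsClassFunction K a) {x : K}
    {σ : C ≃* C} (hσ : ∀ c, ι (σ c) = x⁻¹ * ι c * x) (c : C) :
    blockCoeff (brSet M ι a) (σ c) = blockCoeff (brSet M ι a) c := by
  have hpull : (fun d => pullFun ι a (σ d)) = pullFun ι a := funext fun d => by
    rw [pullFun_apply, pullFun_apply, hσ]
    simpa using ha (ι d) x⁻¹
  have e : pullIrr σ '' brSet M ι a = brSet M ι a := by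
    ext ψ
    constructor
    · rintro ⟨θ, hθ, rfl⟩
      show ¬ MemLocalIdeal M (omega _ _)
      rw [← hpull, omega_pullIrr]
      exact hθ
    · intro hψ
      refine ⟨pullIrr σ.symm ψ, ?_, pullIrr_symm σ ψ⟩
      show ¬ MemLocalIdeal M (omega _ _)
      rw [← omega_pullIrr σ, pullIrr_symm, hpull]
      exact hψ
  have := congrFun (blockCoeff_image_pullIrr σ (brSet M ι a)) c
  rw [e] at this
  exact this.symm

theorem extend_conj_invariant (hι : IsCentHom P ι) {f : C → ℂ}
    (hinv : ∀ (x : K) (σ : C ≃* C), (∀ c, ι (σ c) = x⁻¹ * ι c * x) → ∀ c, f (σ c) = f c) :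
    IsClassFunction K (Function.extend ι f 0) := by
  intro y x
  by_cases hy : ∃ c, ι c = y
  · obtain ⟨c, rfl⟩ := hy
    obtain ⟨σ, hσ⟩ := exists_conj_equiv hι x⁻¹
    rw [show x * ι c * x⁻¹ = ι (σ c) by rw [hσ, inv_inv], hι.inj.extend_apply,
      hι.inj.extend_apply, hinv x⁻¹ σ hσ]
  · have hy' : ¬ ∃ c, ι c = x * y * x⁻¹ := fun h => hy <| (hι.range y).mp <|
      (BlocksCore.conj_mem_centralizer_iff
        ((Subgroup.normalizer_eq_top (H := P)) ▸ Subgroup.mem_top x)).mp ((hι.range _).mpr h)
    rw [Function.extend_apply' _ _ _ hy, Function.extend_apply' _ _ _ hy']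
    rfl

theorem pullFun_extend (hι : IsCentHom P ι) (f : C → ℂ) :
    pullFun ι (Function.extend ι f 0) = f :=
  funext fun c => hι.inj.extend_apply _ _ _

theorem extend_of_notMem (hι : IsCentHom P ι) (f : C → ℂ) {y : K}
    (hy : y ∉ Subgroup.centralizer (P : Set K)) : Function.extend ι f 0 y = 0 :=
  Function.extend_apply' _ _ _ fun h => hy ((hι.range y).mpr h)

theorem isIntClassFun_extend (hM : IsPModular p M) (hι : IsCentHom P ι) {f : C → ℂ}
    (hint : ∀ c, MemLocalRing M (f c))
    (hinv : ∀ (x : K) (σ : C ≃* C), (∀ c, ι (σ c) = x⁻¹ * ι c * x) → ∀ c, f (σ c) = f c) :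
    IsIntClassFun M (Function.extend ι f 0) := by
  have := isPrime hM
  refine ⟨extend_conj_invariant hι hinv, fun y => ?_⟩
  by_cases hy : y ∈ Subgroup.centralizer (P : Set K)
  · obtain ⟨c, rfl⟩ := (hι.range y).mp hy
    rw [hι.inj.extend_apply]
    exact hint c
  · rw [extend_of_notMem hι f hy]
    exact (localRing M).zero_mem

theorem conv_extend_self (hι : IsCentHom P ι) {f : C → ℂ} (hf : conv f f = f) :
    conv (Function.extend ι f 0) (Function.extend ι f 0) = Function.extend ι f 0 := by
  funext y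
  by_cases hy : y ∈ Subgroup.centralizer (P : Set K)
  · obtain ⟨c, rfl⟩ := (hι.range y).mp hy
    rw [conv_pull_eq hι (fun z hz => extend_of_notMem hι f hz), pullFun_extend hι, hf,
      hι.inj.extend_apply]
  · rw [extend_of_notMem hι f hy, conv_apply]
    refine Finset.sum_eq_zero fun z _ => ?_
    by_cases hz : z ∈ Subgroup.centralizer (P : Set K)
    · rw [extend_of_notMem hι f (y := z⁻¹ * y) fun h => hy (by
        simpa using Subgroup.mul_mem _ hz h), mul_zero]
    · rw [extend_of_notMem hι f hz, zero_mul]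

/-- Block idempotents live on the centralizer of a normal `p`-subgroup. -/
theorem blockCoeff_eq_extend (hM : IsPModular p M) (hP : IsPGroup p P) (hι : IsCentHom P ι)
    {B : Set (IrrCharacter K)} (hB : IsPBlock M B) :
    blockCoeff B = Function.extend ι (blockCoeff (brSet M ι (blockCoeff B))) 0 := by
  have := isPrime hM
  have : Finite (ConjClasses K) := Finite.of_surjective _ ConjClasses.mk_surjective
  have := Fintype.ofFinite (ConjClasses K)
  set e := blockCoeff B with he
  have heI : IsIntClassFun M e := isIntClassFun_blockCoeff hM hB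
  set β := Function.extend ι (blockCoeff (brSet M ι e)) 0 with hβ
  have hβI : IsIntClassFun M β := isIntClassFun_extend hM hι
    (isIntClassFun_blockCoeff_union hM (isBlockUnion_brSet hM hι (isBrFun_of_intClassFun heI))).2
    (fun x σ hσ => brSet_conj_invariant hι heI.1 hσ)
  have hidem : conv β β = β := conv_extend_self hι (conv_blockCoeff_self _)
  set d : K → ℂ := fun y => if y ∈ Subgroup.centralizer (P : Set K) then e y else 0 with hd
  have hdI : IsIntClassFun M d := by
    refine ⟨fun y x => ?_, fun y => ?_⟩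
    · have := BlocksCore.conj_mem_centralizer_iff (P := P) (x := y) (k := x)
        ((Subgroup.normalizer_eq_top (H := P)) ▸ Subgroup.mem_top x)
      simp only [hd]
      rw [heI.1 y x]
      exact if_congr this rfl rfl
    · simp only [hd]
      split_ifs
      · exact heI.2 y
      · exact (localRing M).zero_mem
  have hω : ∀ χ : IrrCharacter K, omega (χ : K → ℂ) β = B.indicator 1 χ := by
    intro χ
    have h1 : MemLocalIdeal M (omega (χ : K → ℂ) β - omega (χ : K → ℂ) d) := by
      refine omega_congr χ hβI.1 hdI.1 fun y => ?_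
      simp only [hd]
      split_ifs with hy
      · obtain ⟨c, rfl⟩ := (hι.range y).mp hy
        rw [hβ, hι.inj.extend_apply, ← neg_sub]
        exact memLocalIdeal_neg (pull_sub_blockCoeff_brSet hM hP hι (isBrFun_of_intClassFun heI)
          (blockCoeff_idem_mod B) c)
      · rw [hβ, extend_of_notMem hι _ hy, sub_self]
        exact memLocalIdeal_zero
    have h2 : MemLocalIdeal M (omega (χ : K → ℂ) d - omega (χ : K → ℂ) e) := by
      rw [BlocksCore.omega_eq_sum_classes _ hdI.1, BlocksCore.omega_eq_sum_classes _ heI.1,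
        ← Finset.sum_sub_distrib]
      refine memLocalIdeal_sum fun Cl _ => ?_
      rw [← sub_mul]
      by_cases hy : Quotient.out Cl ∈ Subgroup.centralizer (P : Set K)
      · simp only [hd, if_pos hy, sub_self, zero_mul]
        exact memLocalIdeal_zero
      · simp only [hd, if_neg hy]
        refine memLocalIdeal_mul_left ((localRing M).sub_mem (localRing M).zero_mem (heI.2 _)) ?_
        rw [omega_classInd (irr_class χ)]
        refine centralChar_memLocalIdeal_of_notMem P hM hP (fun x hx hxC => hy ?_) χ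
        obtain ⟨t, rfl⟩ := isConj_iff.mp hx
        exact (BlocksCore.conj_mem_centralizer_iff
          ((Subgroup.normalizer_eq_top (H := P)) ▸ Subgroup.mem_top t)).mp hxC
    have h3 : MemLocalIdeal M
        (omega (χ : K → ℂ) β - B.indicator (1 : IrrCharacter K → ℂ) χ) := by
      have := memLocalIdeal_add h1 h2
      rw [sub_add_sub_cancel, he, omega_blockCoeff] at this
      exact this
    have e1 := omega_conv χ hβI.1 hβI.1
    rw [hidem] at e1
    rcases mul_eq_zero.mp (show omega (χ : K → ℂ) β * (omega (χ : K → ℂ) β - 1) = 0 by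
      rw [mul_sub, ← e1, mul_one, sub_self]) with h | h
    · rw [h] at h3 ⊢
      by_cases hχ : χ ∈ B
      · rw [Set.indicator_of_mem hχ, Pi.one_apply, zero_sub] at h3
        exact absurd (by simpa using memLocalIdeal_neg h3) (not_memLocalIdeal_one (M := M))
      · rw [Set.indicator_of_notMem hχ]
    · rw [sub_eq_zero] at h
      rw [h] at h3 ⊢
      by_cases hχ : χ ∈ B
      · rw [Set.indicator_of_mem hχ, Pi.one_apply]
      · rw [Set.indicator_of_notMem hχ, sub_zero] at h3
        exact absurd h3 not_memLocalIdeal_one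
  exact eq_of_omega_eq heI.1 hβI.1 fun χ => by rw [hω, he, omega_blockCoeff]

theorem blockCoeff_eq_zero_of_notMem (hM : IsPModular p M) (hP : IsPGroup p P)
    (hι : IsCentHom P ι) {B : Set (IrrCharacter K)} (hB : IsPBlock M B) {y : K}
    (hy : y ∉ Subgroup.centralizer (P : Set K)) : blockCoeff B y = 0 := by
  rw [blockCoeff_eq_extend hM hP hι hB]
  exact extend_of_notMem hι _ hy

theorem pull_blockCoeff_eq (hM : IsPModular p M) (hP : IsPGroup p P) (hι : IsCentHom P ι)
    {B : Set (IrrCharacter K)} (hB : IsPBlock M B) :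
    pullFun ι (blockCoeff B) = blockCoeff (brSet M ι (blockCoeff B)) := by
  conv_lhs => rw [blockCoeff_eq_extend hM hP hι hB]
  exact pullFun_extend hι _

/-- The Brauer image of a block is a single orbit: an invariant nonempty part is everything. -/
theorem eq_brSet_of_invariant (hM : IsPModular p M) (hP : IsPGroup p P) (hι : IsCentHom P ι)
    {B : Set (IrrCharacter K)} (hB : IsPBlock M B) {S : Set (IrrCharacter C)}
    (hS : IsBlockUnion M S) (hsub : S ⊆ brSet M ι (blockCoeff B)) (hne : S.Nonempty)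
    (hinv : ∀ (x : K) (σ : C ≃* C), (∀ c, ι (σ c) = x⁻¹ * ι c * x) →
      ∀ c, blockCoeff S (σ c) = blockCoeff S c) :
    S = brSet M ι (blockCoeff B) := by
  have := isPrime hM
  refine hsub.antisymm fun ξ hξ => ?_
  by_contra hξS
  obtain ⟨ξ', hξ'⟩ := hne
  obtain ⟨χ, hχ⟩ := isPBlock_nonempty hB
  have hI := isIntClassFun_extend hM hι (isIntClassFun_blockCoeff_union hM hS).2 hinv
  have h1 := brSet_rel hM hP hι hB hξ hχ hI
  have h2 := brSet_rel hM hP hι hB (hsub hξ') hχ hI
  have h := memLocalIdeal_sub h2 h1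
  rw [pullFun_extend hι, omega_blockCoeff, omega_blockCoeff, Set.indicator_of_mem hξ',
    Set.indicator_of_notMem hξS, sub_sub_sub_cancel_right, sub_zero] at h
  exact not_memLocalIdeal_one h

end Normal

end Cfsg.Agent.BC85
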