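import Cfsg.Agent.BC85.Pairs.Maximal

/-!
# Blocks of stabilizers of pairs, and their defect groups
-/

set_option linter.unusedSectionVars false

namespace Cfsg.Agent.BC85

open BlocksCore BlocksDefect
open scoped Classical

universe u v

variable {G : Type u} [Group G] [Fintype G] {p : ℕ} [Fact p.Prime] {M : Ideal AlgInt}

local notation "C[" Q "]" => Subgroup.centralizer (Q : Set G)

/-- The elements fixing a function under conjugation. -/
def invSubgroup (β : G → ℂ) : Subgroup G where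
  carrier := {u | ∀ g, β (u * g * u⁻¹) = β g}
  one_mem' g := by simp
  mul_mem' {u v} hu hv g := by
    rw [show u * v * g * (u * v)⁻¹ = u * (v * g * v⁻¹) * u⁻¹ by group, hu, hv]
  inv_mem' {u} hu g := by
    have := hu (u⁻¹ * g * u⁻¹⁻¹)
    rw [inv_inv, show u * (u⁻¹ * g * u) * u⁻¹ = g by group] at this
    rw [inv_inv]
    exact this.symm

theorem le_invSubgroup_self (Q : Subgroup G) (f : Set (IrrCharacter C[Q])) :
    Q ⊔ C[Q] ≤ invSubgroup (bp ⟨Q, f⟩) :=
  sup_le (bp_inv_self Q f) fun _ hu => subgroupBlockCoeff_conj_of_mem f hu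

/-- The function of the block above is the extension of its Brauer image. -/
theorem subgroupBlockCoeff_eq_bp (hM : IsPModular p M) {H P : Subgroup G} (hP : IsPGroup p P)
    (hPH : P ≤ H) (hCH : C[P] ≤ H) (hHN : H ≤ Subgroup.normalizer (P : Set G))
    {E : Set (IrrCharacter H)} (hE : IsPBlock M E) :
    subgroupBlockCoeff H E = bp ⟨P, cset M P (subgroupBlockCoeff H E)⟩ := by
  funext g
  by_cases hg : g ∈ C[P]
  · haveI : (P.subgroupOf H).Normal := Subgroup.normal_subgroupOf_of_le_normalizer hHN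
    have := congrFun (pull_blockCoeff_eq hM (isPGroup_subgroupOf hP H)
      (isCentHom_inclusion hPH hCH) hE) ⟨g, hg⟩
    rw [← cset_subgroupBlockCoeff hCH, pullFun_inclusion_blockCoeff hCH] at this
    exact this.trans (bp_apply_coe P _ ⟨g, hg⟩).symm
  · rw [bp_of_notMem P _ hg, subgroupBlockCoeff_eq_zero_of_notMem hM hP hPH hHN hE hg]

/-- The idempotent of a block of `C(P)` is a block idempotent of every group between `P C(P)` and
its stabilizer. -/
theorem exists_block_stable (hM : IsPModular p M) {T P : Subgroup G} (hP : IsPGroup p P)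
    (hPT : P ≤ T) (hCT : C[P] ≤ T) (hTN : T ≤ Subgroup.normalizer (P : Set G))
    {e : Set (IrrCharacter C[P])} (he : IsPBlock M e)
    (hinv : ∀ u ∈ T, ∀ g, bp ⟨P, e⟩ (u * g * u⁻¹) = bp ⟨P, e⟩ g) :
    ∃ E : Set (IrrCharacter T), IsPBlock M E ∧ subgroupBlockCoeff T E = bp ⟨P, e⟩ := by
  have := isPrime hM
  obtain ⟨E, hE, hsub⟩ := exists_block_over hM hP hPT hCT he
  haveI : (P.subgroupOf T).Normal := Subgroup.normal_subgroupOf_of_le_normalizer hTN
  refine ⟨E, hE, ?_⟩
  rw [subgroupBlockCoeff_eq_bp hM hP hPT hCT hTN hE]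
  have h := eq_brSet_of_invariant hM (isPGroup_subgroupOf hP T) (isCentHom_inclusion hPT hCT) hE
    (isBlockUnion_isPBlock he) (cset_subgroupBlockCoeff (M := M) hCT E ▸ hsub)
    (isPBlock_nonempty he) fun x σ hσ c => by
      rw [← bp_apply_coe P e, ← bp_apply_coe P e]
      have hd : ((σ c : C[P]) : G) = (x : G)⁻¹ * (c : G) * (x : G) := congrArg Subtype.val (hσ c)
      rw [hd]
      simpa using hinv _ (T.inv_mem x.2) (c : G)
  rw [← cset_subgroupBlockCoeff hCT] at h
  rw [← h]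

theorem exists_defectGroup_ge_of_unit {K : Type v} [Group K] [Fintype K] (hM : IsPModular p M)
    {f : Set (IrrCharacter K)} (hf : IsPBlock M f) {S : Subgroup K} (hS : IsPGroup p S) {c : K}
    (hc : c ∈ Subgroup.centralizer (S : Set K)) (hu : ¬ MemLocalIdeal M (blockCoeff f c)) :
    ∃ D, IsDefectGroup p M f D ∧ S ≤ D := by
  obtain ⟨D, hD⟩ := exists_isDefectGroup hM hf
  obtain ⟨y, hy⟩ := subConj_defectGroup_of_coeff hM hf hD hS hc hu
  refine ⟨_, isDefectGroup_map_conj hM hf hD y⁻¹, fun s hs => ?_⟩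
  exact ⟨y * s * y⁻¹, hy ⟨s, hs, rfl⟩,
    show y⁻¹ * (y * s * y⁻¹) * y⁻¹⁻¹ = s by group⟩

theorem card_defectGroup_le_of_iso {K : Type v} [Group K] [Fintype K] {K' : Type v} [Group K']
    [Fintype K'] (hM : IsPModular p M) {f : Set (IrrCharacter K)} (hf : IsPBlock M f)
    {f' : Set (IrrCharacter K')} {D : Subgroup K} (hD : IsDefectGroup p M f D) {D' : Subgroup K'}
    (hD' : IsDefectGroup p M f' D') (σ : K' ≃* K)
    (h : ∀ k, blockCoeff f' k = blockCoeff f (σ k)) : Nat.card D' ≤ Nat.card D := by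
  obtain ⟨g, hg, hS⟩ := isDefectGroup_iff.mp hD'
  have hc : σ g ∈ Subgroup.centralizer ((D'.map σ.toMonoidHom : Subgroup K) : Set K) :=
    Subgroup.mem_centralizer_iff.mpr (by
      rintro _ ⟨d, hd, rfl⟩
      show σ d * σ g = σ g * σ d
      rw [← map_mul, ← map_mul, Subgroup.mem_centralizer_iff.mp hS.mem_centralizer d hd])
  have hsc := subConj_defectGroup_of_coeff hM hf hD (hS.isPGroup.map _) hc (h g ▸ hg.2.1)
  rw [Nat.card_congr (σ.subgroupMap D').toEquiv]
  exact Nat.le_of_dvd Nat.card_pos hsc.card_dvd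

theorem exists_step_of_unit (hM : IsPModular p M) {Q : Subgroup G} {f : Set (IrrCharacter C[Q])}
    (hf : IsBrauerPair p M Q f) {R : Subgroup G} (hR : IsPGroup p R) (hQR : Q ≤ R)
    (hRN : R ≤ Subgroup.normalizer (Q : Set G))
    (hinv : R ≤ invSubgroup (bp ⟨Q, f⟩)) {c : G} (hc : c ∈ C[R])
    (hu : ¬ MemLocalIdeal M (bp ⟨Q, f⟩ c)) :
    ∃ g : Set (IrrCharacter C[R]), IsNormalSubpair p M Q f R g := by
  have := isPrime hM
  have hbr := isBrFun_bp hM (isBlockUnion_isPBlock hf.2) hQR fun u hu => hinv hu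
  obtain ⟨g, hg, hgsub⟩ := exists_block_subset_cset hM hR hbr (fun y => by
    rw [conv_bp, Set.inter_self, sub_self]; exact memLocalIdeal_zero) hc hu
  exact ⟨g, (isNormalSubpair_iff hM).mpr
    ⟨hf, ⟨hR, hg⟩, hQR, hRN, fun u hu => hinv hu, hgsub⟩⟩

/-- Between `Q` and `N_P(Q)` the pair below `(P, e)` at `Q` is a normal subpair. -/
theorem exists_unit_below (hM : IsPModular p M) {P Q R : Subgroup G}
    {e : Set (IrrCharacter C[P])} (he : IsBrauerPair p M P e) {f : Set (IrrCharacter C[Q])}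
    (hle : SubpairLE p M Q f P e) (hQR : Q ≤ R) (hRP : R ≤ P)
    (hRN : R ≤ Subgroup.normalizer (Q : Set G)) :
    R ≤ invSubgroup (bp ⟨Q, f⟩) ∧ ∃ c ∈ C[R], ¬ MemLocalIdeal M (bp ⟨Q, f⟩ c) := by
  have := isPrime hM
  obtain ⟨g, hg⟩ := exists_below hM he hRP
  obtain ⟨f₀, hf₀⟩ := exists_normalSubpair hM (subpairLE_isBrauerPair hg he) hQR hRN
  obtain rfl : f₀ = f := below_unique hM he
    (Relation.ReflTransGen.head (show NormalSubpairRel p M ⟨Q, f₀⟩ ⟨R, g⟩ from hf₀) hg) hle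
  obtain ⟨hf, hgp, -, -, hinv, hsub⟩ := (isNormalSubpair_iff hM).mp hf₀
  exact ⟨hinv, exists_unit_of_subset_cset hM (isBrFun_bp hM (isBlockUnion_isPBlock hf.2) hQR hinv)
    (isPBlock_nonempty hgp.2) hsub⟩

theorem mem_centralizer_sup {Q D : Subgroup G} {g : G} (hQ : g ∈ C[Q]) (hD : g ∈ C[D]) :
    g ∈ C[(Q ⊔ D : Subgroup G)] := by
  have h : Q ⊔ D ≤ Subgroup.centralizer ({g} : Set G) :=
    sup_le (fun u hu => Subgroup.mem_centralizer_singleton_iff.mpr
        (Subgroup.mem_centralizer_iff.mp hQ u hu))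
      (fun u hu => Subgroup.mem_centralizer_singleton_iff.mpr
        (Subgroup.mem_centralizer_iff.mp hD u hu))
  exact Subgroup.mem_centralizer_iff.mpr fun u hu =>
    Subgroup.mem_centralizer_singleton_iff.mp (h hu)

theorem centralizerPart_le_defectGroup (hM : IsPModular p M) {P Q : Subgroup G}
    {e : Set (IrrCharacter C[P])} (he : IsBrauerPair p M P e) (hQP : Q ≤ P)
    {f : Set (IrrCharacter C[Q])} (hle : SubpairLE p M Q f P e) :
    ∃ D : Subgroup C[Q], IsDefectGroup p M f D ∧ (P ⊓ C[Q]).subgroupOf C[Q] ≤ D := by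
  have hRN : Q ⊔ P ⊓ C[Q] ≤ Subgroup.normalizer (Q : Set G) :=
    sup_le Subgroup.le_normalizer
      (inf_le_right.trans (BlocksCore.centralizer_le_normalizer' Q))
  obtain ⟨-, c, hc, hu⟩ := exists_unit_below hM he hle le_sup_left
    (sup_le hQP inf_le_left) hRN
  have hcQ : c ∈ C[Q] := centralizer_anti le_sup_left hc
  refine exists_defectGroup_ge_of_unit hM (subpairLE_isBrauerPair hle he).2
    (isPGroup_subgroupOf (he.1.to_le inf_le_left) _) (c := ⟨c, hcQ⟩)
    ((mem_centralizer_subgroupOf inf_le_right _).mpr (centralizer_anti le_sup_right hc)) ?_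
  rwa [← bp_apply_coe Q f]

theorem exists_conj_centralizerPart_defect (hM : IsPModular p M) {B : Set (IrrCharacter G)}
    {P Q : Subgroup G} {e : Set (IrrCharacter C[P])} (hmax : IsMaximalBrauerPair p M B P e)
    {f : Set (IrrCharacter C[Q])} (hle : SubpairLE p M Q f P e) :
    ∃ x : G, SubpairLE p M (Q.map (MulAut.conj x).toMonoidHom) (conjBlock Q x f) P e ∧
      IsDefectGroup p M (conjBlock Q x f)
        ((P ⊓ Subgroup.centralizer ((Q.map (MulAut.conj x).toMonoidHom) : Set G)).subgroupOf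
          (Subgroup.centralizer ((Q.map (MulAut.conj x).toMonoidHom) : Set G))) := by
  have := isPrime hM
  have hf : IsBrauerPair p M Q f := subpairLE_isBrauerPair hle hmax.1.1
  have hQf := (subpairLE_pairOf_iff hM hle B).mp hmax.1
  obtain ⟨D, hD⟩ := exists_isDefectGroup hM hf.2
  obtain ⟨g₀, hg₀, hS⟩ := isDefectGroup_iff.mp hD
  set D₁ := D.map (C[Q]).subtype with hD₁
  have hD₁C : D₁ ≤ C[Q] := Subgroup.map_subtype_le D
  have hR : IsPGroup p (Q ⊔ D₁ : Subgroup G) :=
    hf.1.to_sup_of_normal_left' (hS.isPGroup.map _)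
      (hD₁C.trans (BlocksCore.centralizer_le_normalizer' Q))
  have hRN : Q ⊔ D₁ ≤ Subgroup.normalizer (Q : Set G) :=
    sup_le Subgroup.le_normalizer (hD₁C.trans (BlocksCore.centralizer_le_normalizer' Q))
  have hc : (g₀ : G) ∈ C[(Q ⊔ D₁ : Subgroup G)] := by
    refine mem_centralizer_sup g₀.2 (Subgroup.mem_centralizer_iff.mpr ?_)
    rintro _ ⟨d, hd, rfl⟩
    exact congrArg Subtype.val (Subgroup.mem_centralizer_iff.mp hS.mem_centralizer d hd)
  obtain ⟨g, hg⟩ := exists_step_of_unit hM hf hR le_sup_left hRN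
    ((sup_le le_sup_left (hD₁C.trans le_sup_right)).trans (le_invSubgroup_self Q f)) hc
    (by rw [bp_apply_coe]; exact hg₀.2.1)
  obtain ⟨x, hx⟩ := exists_conj_below hM hmax ((normalSubpair_pairOf_iff hM hg B).mpr hQf)
  have hle' : SubpairLE p M (Q.map (MulAut.conj x).toMonoidHom) (conjBlock Q x f) P e :=
    Relation.ReflTransGen.head (normalSubpair_conj hM (a := ⟨Q, f⟩) (b := ⟨_, g⟩) hg x) hx
  refine ⟨x, hle', ?_⟩
  have hxP : (Q ⊔ D₁).map (MulAut.conj x).toMonoidHom ≤ P :=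
    subpairLE_le (Q := (conjPair x ⟨Q ⊔ D₁, g⟩).1) (f := (conjPair x ⟨Q ⊔ D₁, g⟩).2) hx
  obtain ⟨D', hD', hle₂⟩ := centralizerPart_le_defectGroup hM hmax.1.1
    (subpairLE_le hle') hle'
  set σ := conjIso C[Q] (Subgroup.centralizer ((Q.map (MulAut.conj x).toMonoidHom) : Set G)) x
    (mem_centralizer_map_conj Q x) with hσ
  have hcard : Nat.card D' ≤ Nat.card D := card_defectGroup_le_of_iso hM hf.2 hD hD' σ fun k => by
    rw [conjBlock_eq, conjSet, blockCoeff_image_pullIrr]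
  have hle₁ : D.map σ.symm.toMonoidHom ≤
      (P ⊓ Subgroup.centralizer ((Q.map (MulAut.conj x).toMonoidHom) : Set G)).subgroupOf _ := by
    rintro _ ⟨d, hd, rfl⟩
    refine ⟨hxP ⟨(d : G), (le_sup_right : D₁ ≤ Q ⊔ D₁) (⟨d, hd, rfl⟩ : (d : G) ∈ D₁), rfl⟩, ?_⟩
    exact (σ.symm d).2
  have hEq : (P ⊓ Subgroup.centralizer ((Q.map (MulAut.conj x).toMonoidHom) : Set G)).subgroupOf
      _ = D' := Subgroup.eq_of_le_of_card_ge hle₂ (hcard.trans
        ((Nat.card_congr (σ.symm.subgroupMap D).toEquiv).trans_le (Subgroup.card_le_of_le hle₁)))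
  exact hEq ▸ hD'

theorem normalizerPart_le_defectGroup (hM : IsPModular p M) {P Q T : Subgroup G}
    {e : Set (IrrCharacter C[P])} (he : IsBrauerPair p M P e) (hQP : Q ≤ P)
    {f : Set (IrrCharacter C[Q])} (hle : SubpairLE p M Q f P e)
    (hT : ∀ y, y ∈ T ↔ y ∈ Subgroup.normalizer (Q : Set G) ∧ StabilizesBlock C[Q] f y) :
    ∃ F : Set (IrrCharacter T), IsPBlock M F ∧
      (∀ t : T, blockCoeff F t = subgroupBlockCoeff C[Q] f (t : G)) ∧
      ∃ D : Subgroup T, IsDefectGroup p M F D ∧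
        (P ⊓ Subgroup.normalizer (Q : Set G)).subgroupOf T ≤ D := by
  have := isPrime hM
  have hf := subpairLE_isBrauerPair hle he
  have hmemT : ∀ y, y ∈ T ↔ y ∈ Subgroup.normalizer (Q : Set G) ∧ y ∈ invSubgroup (bp ⟨Q, f⟩) := by
    intro y
    rw [hT, stabilizesBlock_iff]
    refine and_congr_right fun hy => ⟨fun h => ?_, fun h => ?_⟩
    · rw [← inv_inv y]
      exact Subgroup.inv_mem _ fun g => by rw [inv_inv]; exact h.2 g
    · refine ⟨normalizer_le_normalizer_centralizer Q hy, fun g => ?_⟩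
      have := Subgroup.inv_mem _ h g
      rwa [inv_inv] at this
  have hQT : Q ≤ T := fun u hu =>
    (hmemT u).mpr ⟨Subgroup.le_normalizer hu, bp_inv_self Q f u hu⟩
  have hCT : C[Q] ≤ T := fun u hu => (hmemT u).mpr
    ⟨BlocksCore.centralizer_le_normalizer' Q hu, fun g => subgroupBlockCoeff_conj_of_mem f hu g⟩
  obtain ⟨F, hF, hFeq⟩ := exists_block_stable hM hf.1 hQT hCT (fun u hu => ((hmemT u).mp hu).1)
    hf.2 fun u hu => ((hmemT u).mp hu).2
  have hval : ∀ t : T, blockCoeff F t = subgroupBlockCoeff C[Q] f (t : G) := fun t => by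
    rw [← subgroupBlockCoeff_coe T F, hFeq]; rfl
  refine ⟨F, hF, hval, ?_⟩
  obtain ⟨hinv, c, hc, hu⟩ := exists_unit_below hM he hle
    (le_inf hQP Subgroup.le_normalizer) inf_le_left inf_le_right
  have hRT : P ⊓ Subgroup.normalizer (Q : Set G) ≤ T := fun u hu =>
    (hmemT u).mpr ⟨hu.2, hinv hu⟩
  have hcT : c ∈ T := hCT (centralizer_anti (le_inf hQP Subgroup.le_normalizer) hc)
  refine exists_defectGroup_ge_of_unit hM hF (isPGroup_subgroupOf (he.1.to_le inf_le_left) _)
    (c := ⟨c, hcT⟩) ((mem_centralizer_subgroupOf hRT _).mpr hc) ?_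
  rw [hval]
  exact hu

theorem exists_conj_normalizerPart_defect (hM : IsPModular p M) {B : Set (IrrCharacter G)}
    {P Q : Subgroup G} {e : Set (IrrCharacter C[P])} (hmax : IsMaximalBrauerPair p M B P e)
    {f : Set (IrrCharacter C[Q])} (hle : SubpairLE p M Q f P e) {T : Subgroup G}
    (hT : ∀ y, y ∈ T ↔ y ∈ Subgroup.normalizer (Q : Set G) ∧ StabilizesBlock C[Q] f y) :
    ∃ x : G, SubpairLE p M (Q.map (MulAut.conj x).toMonoidHom) (conjBlock Q x f) P e ∧
      ∀ T' : Subgroup G,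
        (∀ y, y ∈ T' ↔ y ∈ Subgroup.normalizer ((Q.map (MulAut.conj x).toMonoidHom) : Set G) ∧
          StabilizesBlock (Subgroup.centralizer ((Q.map (MulAut.conj x).toMonoidHom) : Set G))
            (conjBlock Q x f) y) →
        ∃ F' : Set (IrrCharacter T'), IsPBlock M F' ∧
          (∀ t : T', blockCoeff F' t = subgroupBlockCoeff
            (Subgroup.centralizer ((Q.map (MulAut.conj x).toMonoidHom) : Set G))
            (conjBlock Q x f) (t : G)) ∧
          IsDefectGroup p M F'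
            ((P ⊓ Subgroup.normalizer ((Q.map (MulAut.conj x).toMonoidHom) : Set G)).subgroupOf
              T') := by
  have := isPrime hM
  have hQP : Q ≤ P := subpairLE_le hle
  have hf : IsBrauerPair p M Q f := subpairLE_isBrauerPair hle hmax.1.1
  have hQf := (subpairLE_pairOf_iff hM hle B).mp hmax.1
  obtain ⟨F, hF, hval, -⟩ := normalizerPart_le_defectGroup hM hmax.1.1 hQP hle hT
  obtain ⟨D, hD⟩ := exists_isDefectGroup hM hF
  obtain ⟨g₀, hg₀, hS⟩ := isDefectGroup_iff.mp hD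
  set D₁ := D.map T.subtype with hD₁
  have hD₁T : D₁ ≤ T := Subgroup.map_subtype_le D
  have hTN : T ≤ Subgroup.normalizer (Q : Set G) := fun u hu => ((hT u).mp hu).1
  have hTinv : T ≤ invSubgroup (bp ⟨Q, f⟩) := fun u hu => by
    rw [← inv_inv u]
    refine Subgroup.inv_mem _ fun g => ?_
    rw [inv_inv]
    exact ((stabilizesBlock_iff f u).mp ((hT u).mp hu).2).2 g
  have hR : IsPGroup p (Q ⊔ D₁ : Subgroup G) :=
    hf.1.to_sup_of_normal_left' (hS.isPGroup.map _) (hD₁T.trans hTN)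
  have hgC : (g₀ : G) ∈ C[Q] := by
    by_contra h
    refine hg₀.2.1 ?_
    rw [hval, subgroupBlockCoeff_of_notMem _ _ h]
    exact memLocalIdeal_zero
  have hc : (g₀ : G) ∈ C[(Q ⊔ D₁ : Subgroup G)] := by
    refine mem_centralizer_sup hgC (Subgroup.mem_centralizer_iff.mpr ?_)
    rintro _ ⟨d, hd, rfl⟩
    exact congrArg Subtype.val (Subgroup.mem_centralizer_iff.mp hS.mem_centralizer d hd)
  obtain ⟨g, hg⟩ := exists_step_of_unit hM hf hR le_sup_left
    (sup_le Subgroup.le_normalizer (hD₁T.trans hTN))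
    (sup_le (le_sup_left.trans (le_invSubgroup_self Q f)) (hD₁T.trans hTinv)) hc
    (by rw [← show blockCoeff F g₀ = bp ⟨Q, f⟩ (g₀ : G) from hval g₀]; exact hg₀.2.1)
  obtain ⟨x, hx⟩ := exists_conj_below hM hmax ((normalSubpair_pairOf_iff hM hg B).mpr hQf)
  have hle' : SubpairLE p M (Q.map (MulAut.conj x).toMonoidHom) (conjBlock Q x f) P e :=
    Relation.ReflTransGen.head (normalSubpair_conj hM (a := ⟨Q, f⟩) (b := ⟨_, g⟩) hg x) hx
  refine ⟨x, hle', fun T' hT' => ?_⟩
  have hxP : (Q ⊔ D₁).map (MulAut.conj x).toMonoidHom ≤ P :=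
    subpairLE_le (Q := (conjPair x ⟨Q ⊔ D₁, g⟩).1) (f := (conjPair x ⟨Q ⊔ D₁, g⟩).2) hx
  obtain ⟨F', hF', hval', D', hD', hle₂⟩ := normalizerPart_le_defectGroup hM hmax.1.1
    (subpairLE_le hle') hle' hT'
  refine ⟨F', hF', hval', ?_⟩
  have hTT' : ∀ y, y ∈ T' ↔ x⁻¹ * y * x ∈ T := by
    intro y
    rw [hT', hT, stabilizesBlock_iff, stabilizesBlock_iff]
    have hN : ∀ y : G, y ∈ Subgroup.normalizer ((Q.map (MulAut.conj x).toMonoidHom) : Set G) ↔
        x⁻¹ * y * x ∈ Subgroup.normalizer (Q : Set G) := by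
      intro y
      simp only [Subgroup.mem_normalizer_iff, mem_map_conj_iff]
      constructor
      · intro h q
        have := h (x * q * x⁻¹)
        simpa [mul_assoc] using this
      · intro h q
        have := h (x⁻¹ * q * x)
        simpa [mul_assoc] using this
    rw [hN]
    refine and_congr_right fun hy => and_congr ?_ ?_
    · exact iff_of_true (normalizer_le_normalizer_centralizer _ ((hN y).mpr hy))
        (normalizer_le_normalizer_centralizer _ hy)
    · constructor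
      · intro h g
        have h' := h (x * g * x⁻¹)
        rw [show subgroupBlockCoeff _ (conjBlock Q x f) = bp (conjPair x ⟨Q, f⟩) from rfl,
          bp_conjPair, bp_conjPair] at h'
        simpa [mul_assoc, bp] using h'
      · intro h g
        rw [show subgroupBlockCoeff _ (conjBlock Q x f) = bp (conjPair x ⟨Q, f⟩) from rfl,
          bp_conjPair, bp_conjPair]
        have h' := h (x⁻¹ * g * x)
        simpa [mul_assoc, bp] using h'
  set σ := conjIso T T' x hTT' with hσ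
  have hcard : Nat.card D' ≤ Nat.card D := card_defectGroup_le_of_iso hM hF hD hD' σ fun k => by
    rw [hval', hval]
    exact bp_conjPair x ⟨Q, f⟩ k
  have hle₁ : D.map σ.symm.toMonoidHom ≤
      (P ⊓ Subgroup.normalizer ((Q.map (MulAut.conj x).toMonoidHom) : Set G)).subgroupOf T' := by
    rintro _ ⟨d, hd, rfl⟩
    refine ⟨hxP ⟨(d : G), (le_sup_right : D₁ ≤ Q ⊔ D₁) (⟨d, hd, rfl⟩ : (d : G) ∈ D₁), rfl⟩, ?_⟩
    exact ((hT' _).mp (σ.symm d).2).1
  have hEq := Subgroup.eq_of_le_of_card_ge hle₂ (hcard.trans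
        ((Nat.card_congr (σ.symm.subgroupMap D).toEquiv).trans_le (Subgroup.card_le_of_le hle₁)))
  exact hEq ▸ hD'

end Cfsg.Agent.BC85
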