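import Cfsg.Agent.BC85.Pairs.Idem
import Cfsg.Prelude.Def_BrauerPairs

/-!
# Transport of characters and blocks along isomorphisms, and along conjugation of subgroups
-/

set_option linter.unusedSectionVars false

namespace Cfsg.Agent.BC85

open BlocksCore

universe u v

section Iso

variable {K : Type u} [Group K] [Fintype K] {K' : Type v} [Group K'] [Fintype K']
  {p : ℕ} {M : Ideal AlgInt}

/-- The pullback of an irreducible character along an isomorphism. -/
noncomputable def pullIrr (σ : K' ≃* K) (χ : IrrCharacter K) : IrrCharacter K' :=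
  ⟨fun k => (χ : K → ℂ) (σ k),
    CharCore.isIrrCharacter_comp_surjective χ.2 σ.toMonoidHom σ.surjective⟩

theorem pullIrr_apply (σ : K' ≃* K) (χ : IrrCharacter K) (k : K') :
    (pullIrr σ χ : K' → ℂ) k = (χ : K → ℂ) (σ k) := rfl

theorem pullIrr_symm (σ : K' ≃* K) (χ : IrrCharacter K') : pullIrr σ (pullIrr σ.symm χ) = χ :=
  Subtype.ext (funext fun k => by rw [pullIrr_apply, pullIrr_apply, σ.symm_apply_apply])

theorem omega_pullIrr (σ : K' ≃* K) (χ : IrrCharacter K) (a : K → ℂ) :
    omega (pullIrr σ χ : K' → ℂ) (fun k => a (σ k)) = omega (χ : K → ℂ) a := by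
  rw [omega_eq_sum, omega_eq_sum, pullIrr_apply, map_one]
  congr 1
  exact Fintype.sum_equiv σ.toEquiv _ _ fun k => rfl

theorem isClassFunction_comp (σ : K' ≃* K) {a : K → ℂ} (ha : IsClassFunction K a) :
    IsClassFunction K' (fun k => a (σ k)) := fun g h => by
  simp only [map_mul, map_inv]
  exact ha _ _

theorem isIntClassFun_comp (σ : K' ≃* K) {a : K → ℂ} (ha : IsIntClassFun M a) :
    IsIntClassFun M (fun k => a (σ k)) :=
  ⟨isClassFunction_comp σ ha.1, fun k => ha.2 (σ k)⟩

theorem blockCoeff_image_pullIrr (σ : K' ≃* K) (A : Set (IrrCharacter K)) :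
    blockCoeff (pullIrr σ '' A) = fun k => blockCoeff A (σ k) := by
  refine eq_of_omega_eq (isClassFunction_blockCoeff _)
    (isClassFunction_comp σ (isClassFunction_blockCoeff A)) fun χ => ?_
  conv_rhs => rw [← pullIrr_symm σ χ, omega_pullIrr, omega_blockCoeff]
  rw [omega_blockCoeff]
  have hiff : χ ∈ pullIrr σ '' A ↔ pullIrr σ.symm χ ∈ A := by
    constructor
    · rintro ⟨ψ, hψ, rfl⟩
      convert hψ
      exact Subtype.ext (funext fun k => by rw [pullIrr_apply, pullIrr_apply, σ.apply_symm_apply])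
    · exact fun h => ⟨_, h, pullIrr_symm σ χ⟩
  by_cases h : pullIrr σ.symm χ ∈ A
  · rw [Set.indicator_of_mem h, Set.indicator_of_mem (hiff.mpr h)]; rfl
  · rw [Set.indicator_of_notMem h, Set.indicator_of_notMem fun h' => h (hiff.mp h')]

theorem sameBlock_pullIrr [M.IsPrime] (σ : K' ≃* K) {χ ψ : IrrCharacter K}
    (h : SameBlock M (χ : K → ℂ) (ψ : K → ℂ)) :
    SameBlock M (pullIrr σ χ : K' → ℂ) (pullIrr σ ψ : K' → ℂ) := by
  rw [sameBlock_iff_omega]
  intro a ha
  have key : ∀ θ : IrrCharacter K,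
      omega (pullIrr σ θ : K' → ℂ) a = omega (θ : K → ℂ) (fun k => a (σ.symm k)) := fun θ => by
    rw [← omega_pullIrr σ]
    simp only [σ.symm_apply_apply]
  rw [key, key]
  exact omega_sub_memLocalIdeal h (isIntClassFun_comp σ.symm ha)

theorem isPBlock_image_pullIrr [M.IsPrime] (σ : K' ≃* K) {B : Set (IrrCharacter K)}
    (hB : IsPBlock M B) : IsPBlock M (pullIrr σ '' B) := by
  obtain ⟨χ, hχ⟩ := isPBlock_nonempty hB
  refine ⟨pullIrr σ χ, Set.ext fun ψ => ?_⟩
  rw [isPBlock_eq_blockOf hB hχ]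
  constructor
  · rintro ⟨θ, hθ, rfl⟩
    exact sameBlock_pullIrr σ hθ
  · intro h
    refine ⟨pullIrr σ.symm ψ, ?_, pullIrr_symm σ ψ⟩
    have h' := sameBlock_pullIrr σ.symm (show SameBlock M (pullIrr σ χ : K' → ℂ) (ψ : K' → ℂ) from h)
    have e : pullIrr σ.symm (pullIrr σ χ) = χ :=
      Subtype.ext (funext fun k => by rw [pullIrr_apply, pullIrr_apply, σ.apply_symm_apply])
    rw [e] at h'
    exact h'

end Iso

variable {G : Type u} [Group G] [Fintype G] {p : ℕ} {M : Ideal AlgInt}

section Coeff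

variable {H : Subgroup G} [Fintype H]

theorem subgroupBlockCoeff_coe (H : Subgroup G) (e : Set (IrrCharacter H)) (h : H) :
    subgroupBlockCoeff H e (h : G) = blockCoeff e h := by
  classical
  rw [subgroupBlockCoeff, dif_pos h.2]

theorem subgroupBlockCoeff_of_mem (H : Subgroup G) (e : Set (IrrCharacter H)) {g : G}
    (hg : g ∈ H) : subgroupBlockCoeff H e g = blockCoeff e ⟨g, hg⟩ :=
  subgroupBlockCoeff_coe H e ⟨g, hg⟩

theorem subgroupBlockCoeff_of_notMem (H : Subgroup G) (e : Set (IrrCharacter H)) {g : G}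
    (hg : g ∉ H) : subgroupBlockCoeff H e g = 0 := by
  classical
  rw [subgroupBlockCoeff, dif_neg hg]

theorem subgroupBlockCoeff_injective {e e' : Set (IrrCharacter H)}
    (h : subgroupBlockCoeff H e = subgroupBlockCoeff H e') : e = e' :=
  blockCoeff_injective (funext fun x => by
    rw [← subgroupBlockCoeff_coe H e x, h, subgroupBlockCoeff_coe])

theorem subgroupBlockCoeff_memLocalRing (hM : IsPModular p M) {e : Set (IrrCharacter H)}
    (he : IsBlockUnion M e) (g : G) : MemLocalRing M (subgroupBlockCoeff H e g) := by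
  have := isPrime hM
  by_cases hg : g ∈ H
  · rw [subgroupBlockCoeff_of_mem H e hg]
    exact (isIntClassFun_blockCoeff_union hM he).2 _
  · rw [subgroupBlockCoeff_of_notMem H e hg]
    exact (localRing M).zero_mem

theorem subgroupBlockCoeff_conj_of_mem (e : Set (IrrCharacter H)) {u : G} (hu : u ∈ H) (y : G) :
    subgroupBlockCoeff H e (u * y * u⁻¹) = subgroupBlockCoeff H e y := by
  by_cases hy : y ∈ H
  · rw [subgroupBlockCoeff_of_mem H e hy,
      subgroupBlockCoeff_of_mem H e (H.mul_mem (H.mul_mem hu hy) (H.inv_mem hu))]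
    exact isClassFunction_blockCoeff e ⟨y, hy⟩ ⟨u, hu⟩
  · rw [subgroupBlockCoeff_of_notMem H e hy, subgroupBlockCoeff_of_notMem H e fun h => hy ?_]
    have := H.mul_mem (H.mul_mem (H.inv_mem hu) h) hu
    simpa [mul_assoc] using this

end Coeff

/-- The isomorphism `y ↦ x⁻¹ y x` from a conjugate subgroup. -/
def conjIso (K K' : Subgroup G) (x : G) (h : ∀ y, y ∈ K' ↔ x⁻¹ * y * x ∈ K) : K' ≃* K where
  toFun y := ⟨x⁻¹ * y * x, (h y).mp y.2⟩
  invFun k := ⟨x * k * x⁻¹, (h _).mpr (by
    rw [show x⁻¹ * (x * (k : G) * x⁻¹) * x = (k : G) by group]; exact k.2)⟩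
  left_inv y := Subtype.ext (by group)
  right_inv k := Subtype.ext (by group)
  map_mul' y z := Subtype.ext (by simp only [Subgroup.coe_mul]; group)

section Conj

variable {K K' : Subgroup G} [Fintype K] [Fintype K'] {x : G}

/-- The conjugate of a set of characters of `K`, as characters of `K' = x K x⁻¹`. -/
noncomputable def conjSet (h : ∀ y, y ∈ K' ↔ x⁻¹ * y * x ∈ K) (f : Set (IrrCharacter K)) :
    Set (IrrCharacter K') :=
  pullIrr (conjIso K K' x h) '' f

theorem subgroupBlockCoeff_conjSet (h : ∀ y, y ∈ K' ↔ x⁻¹ * y * x ∈ K)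
    (f : Set (IrrCharacter K)) (g : G) :
    subgroupBlockCoeff K' (conjSet h f) g = subgroupBlockCoeff K f (x⁻¹ * g * x) := by
  by_cases hg : g ∈ K'
  · rw [subgroupBlockCoeff_of_mem _ _ hg, subgroupBlockCoeff_of_mem _ _ ((h g).mp hg), conjSet,
      blockCoeff_image_pullIrr]
    rfl
  · rw [subgroupBlockCoeff_of_notMem _ _ hg,
      subgroupBlockCoeff_of_notMem _ _ fun hc => hg ((h g).mpr hc)]

theorem isPBlock_conjSet [M.IsPrime] (h : ∀ y, y ∈ K' ↔ x⁻¹ * y * x ∈ K)
    {f : Set (IrrCharacter K)} (hf : IsPBlock M f) : IsPBlock M (conjSet h f) :=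
  isPBlock_image_pullIrr _ hf

end Conj

theorem mem_normalizer_conj_iff {K : Subgroup G} {x : G}
    (hx : x ∈ Subgroup.normalizer (K : Set G)) (y : G) : y ∈ K ↔ x⁻¹ * y * x ∈ K := by
  have := Subgroup.mem_normalizer_iff.mp (inv_mem hx) y
  rwa [inv_inv] at this

/-- An element stabilizes a set of characters iff it fixes its idempotent. -/
theorem stabilizesBlock_iff {K : Subgroup G} [Fintype K] (e : Set (IrrCharacter K)) (x : G) :
    StabilizesBlock K e x ↔ x ∈ Subgroup.normalizer (K : Set G) ∧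
      ∀ g, subgroupBlockCoeff K e (x⁻¹ * g * x) = subgroupBlockCoeff K e g := by
  constructor
  · rintro ⟨hx, h⟩
    refine ⟨hx, fun g => ?_⟩
    rw [← subgroupBlockCoeff_conjSet (mem_normalizer_conj_iff hx) e g]
    congr 1
    refine Set.eq_of_subset_of_ncard_le ?_ ?_ (Set.toFinite _)
    · rintro ψ ⟨χ, hχ, rfl⟩
      obtain ⟨χ', hχ', hconj⟩ := h χ hχ
      convert hχ'
      refine Subtype.ext (funext fun k => ?_)
      rw [pullIrr_apply]
      exact (hconj _ k (by show (k : G) = x * (x⁻¹ * (k : G) * x) * x⁻¹; group)).symm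
    · rw [conjSet, Set.ncard_image_of_injective _ fun a b hab => ?_]
      refine Subtype.ext (funext fun k => ?_)
      obtain ⟨k', rfl⟩ := (conjIso K K x (mem_normalizer_conj_iff hx)).surjective k
      exact congrFun (congrArg Subtype.val hab) k'
  · rintro ⟨hx, h⟩
    have e' : conjSet (mem_normalizer_conj_iff hx) e = e :=
      subgroupBlockCoeff_injective (funext fun g => by rw [subgroupBlockCoeff_conjSet, h g])
    refine ⟨hx, fun χ hχ => ⟨pullIrr (conjIso K K x (mem_normalizer_conj_iff hx)) χ,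
      e' ▸ Set.mem_image_of_mem _ hχ, fun k k' hk => ?_⟩⟩
    rw [pullIrr_apply]
    refine congrArg (χ : K → ℂ) (Subtype.ext ?_)
    show x⁻¹ * (k' : G) * x = k
    rw [hk]; group

theorem mem_centralizer_map_conj (Q : Subgroup G) (x : G) (y : G) :
    y ∈ Subgroup.centralizer ((Q.map (MulAut.conj x).toMonoidHom : Subgroup G) : Set G) ↔
      x⁻¹ * y * x ∈ Subgroup.centralizer (Q : Set G) := by
  simp only [Subgroup.mem_centralizer_iff, Subgroup.coe_map, Set.forall_mem_image, SetLike.mem_coe]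
  refine forall₂_congr fun q _ => ?_
  show x * q * x⁻¹ * y = y * (x * q * x⁻¹) ↔ q * (x⁻¹ * y * x) = x⁻¹ * y * x * q
  constructor
  · intro h
    calc q * (x⁻¹ * y * x) = x⁻¹ * (x * q * x⁻¹ * y) * x := by group
      _ = x⁻¹ * (y * (x * q * x⁻¹)) * x := by rw [h]
      _ = _ := by group
  · intro h
    calc x * q * x⁻¹ * y = x * (q * (x⁻¹ * y * x)) * x⁻¹ := by group
      _ = x * (x⁻¹ * y * x * q) * x⁻¹ := by rw [h]
      _ = _ := by group

/-- `conjBlock` is the transported set. -/
theorem conjBlock_eq (Q : Subgroup G) (x : G) [Fintype (Subgroup.centralizer (Q : Set G))]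
    [Fintype (Subgroup.centralizer
      ((Q.map (MulAut.conj x).toMonoidHom : Subgroup G) : Set G))]
    (f : Set (IrrCharacter (Subgroup.centralizer (Q : Set G)))) :
    conjBlock Q x f = conjSet (mem_centralizer_map_conj Q x) f := by
  ext ξ'
  constructor
  · rintro ⟨ξ, hξ, h⟩
    refine ⟨ξ, hξ, Subtype.ext (funext fun c' => ?_)⟩
    rw [pullIrr_apply]
    exact (h _ c' (by show (c' : G) = x * (x⁻¹ * (c' : G) * x) * x⁻¹; group)).symm
  · rintro ⟨ξ, hξ, rfl⟩
    refine ⟨ξ, hξ, fun c c' hc => ?_⟩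
    rw [pullIrr_apply]
    refine congrArg (ξ : Subgroup.centralizer (Q : Set G) → ℂ) (Subtype.ext ?_)
    show x⁻¹ * (c' : G) * x = c
    rw [hc]; group

end Cfsg.Agent.BC85
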