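import Cfsg.Agent.BC85.Pairs.Pair
import Cfsg.Agent.BC85.Basic
import Cfsg.Agent.Lib.BlocksDefect.Central
import Cfsg.Agent.CharB.CliffordDegree
import Cfsg.Agent.Blocks88.Basic

/-!
# Weights
-/

set_option linter.unusedSectionVars false

namespace Cfsg.Agent.BC85

open BlocksCore BlocksDefect
open scoped Classical ComplexConjugate

universe u

variable {T : Type u} [Group T] [Fintype T] {p : ℕ} [Fact p.Prime] {M : Ideal AlgInt}

/-- A constituent inherits the kernel. -/
theorem constituent_kernel {χ : IrrCharacter T} {N K : Subgroup T} [N.Normal] [K.Normal]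
    [Fintype N] {θ : IrrCharacter N} (hcon : IsConstituent χ θ) (hKN : K ≤ N)
    (hker : ∀ k ∈ K, (χ : T → ℂ) k = (χ : T → ℂ) 1) :
    ∀ k : N, (k : T) ∈ K → (θ : N → ℂ) k = (θ : N → ℂ) 1 := by
  have h1 := omega_eq_of_constituent hcon (isClassFunction_subInd K)
    (fun x hx => subInd_apply_of_notMem fun h => hx (hKN h))
  have e : res N (subInd K) = subInd (K.subgroupOf N) := funext fun n => by
    by_cases hn : (n : T) ∈ K
    · rw [res, subInd_apply_of_mem hn, subInd_apply_of_mem (Subgroup.mem_subgroupOf.mpr hn),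
        card_subgroupOf hKN]
    · rw [res, subInd_apply_of_notMem hn,
        subInd_apply_of_notMem fun h => hn (Subgroup.mem_subgroupOf.mp h)]
  rw [(omega_subInd_eq_one_iff χ K).mpr hker, e] at h1
  exact fun k hk => (omega_subInd_eq_one_iff θ _).mp h1.symm k hk

/-- Under a weight the constituents have degree as large as possible. -/
theorem constituent_degree_bound {χ : IrrCharacter T} {N : Subgroup T} [N.Normal]
    [Fintype N] {θ : IrrCharacter N} (hcon : IsConstituent χ θ) {b : ℕ}
    (hdeg : (charDegree (χ : T → ℂ)).factorization p + b = (Nat.card T).factorization p) :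
    (Nat.card N).factorization p ≤ (charDegree (θ : N → ℂ)).factorization p + b := by
  obtain ⟨h1, h2⟩ := Cfsg.Agent.CharB.degree_dvd N χ.2 θ.2 hcon (irr_one_eq χ) (irr_one_eq θ)
  have h3 : (charDegree (χ : T → ℂ) / charDegree (θ : N → ℂ)).factorization p ≤
      N.index.factorization p :=
    (Nat.factorization_le_iff_dvd (Nat.div_pos (Nat.le_of_dvd (charDegree_pos χ) h1)
      (charDegree_pos θ)).ne' Subgroup.FiniteIndex.index_ne_zero).mpr h2 p
  have h4 : (charDegree (χ : T → ℂ)).factorization p =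
      (charDegree (θ : N → ℂ)).factorization p +
        (charDegree (χ : T → ℂ) / charDegree (θ : N → ℂ)).factorization p := by
    conv_lhs => rw [← Nat.mul_div_cancel' h1]
    rw [Nat.factorization_mul (charDegree_pos θ).ne'
      (Nat.div_pos (Nat.le_of_dvd (charDegree_pos χ) h1) (charDegree_pos θ)).ne',
      Finsupp.add_apply]
  have h5 : (Nat.card T).factorization p =
      (Nat.card N).factorization p + N.index.factorization p := by
    rw [← N.card_mul_index, Nat.factorization_mul Nat.card_pos.ne'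
      Subgroup.FiniteIndex.index_ne_zero, Finsupp.add_apply]
  omega

/-- An irreducible character has degree squared at most the index of its kernel. -/
theorem sq_degree_mul_card_le {N : Type u} [Group N] [Fintype N] (θ : IrrCharacter N)
    (K : Subgroup N) (hK : ∀ k ∈ K, (θ : N → ℂ) k = (θ : N → ℂ) 1) :
    charDegree (θ : N → ℂ) ^ 2 * Nat.card K ≤ Nat.card N := by
  have h := sum_char_mul_inv θ θ
  rw [if_pos rfl] at h
  have h2 : ∑ x : N, Complex.normSq ((θ : N → ℂ) x) = (Nat.card N : ℝ) := by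
    have : ((∑ x : N, Complex.normSq ((θ : N → ℂ) x) : ℝ) : ℂ) = (Nat.card N : ℂ) := by
      rw [← h, Complex.ofReal_sum]
      exact Finset.sum_congr rfl fun x _ => by rw [← conj_irr, Complex.mul_conj]
    exact_mod_cast this
  have h3 : ∑ x ∈ Finset.univ.filter (· ∈ K), Complex.normSq ((θ : N → ℂ) x) ≤
      ∑ x : N, Complex.normSq ((θ : N → ℂ) x) :=
    Finset.sum_le_sum_of_subset_of_nonneg (Finset.filter_subset _ _)
      fun x _ _ => Complex.normSq_nonneg _
  rw [h2, Finset.sum_congr rfl (fun x hx => by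
      rw [hK x (Finset.mem_filter.mp hx).2, irr_one_eq, Complex.normSq_natCast]),
    Finset.sum_const, nsmul_eq_mul] at h3
  have h4 : (Finset.univ.filter (· ∈ K)).card = Nat.card K := by
    rw [Nat.card_eq_fintype_card, Fintype.card_subtype]
  rw [h4] at h3
  have h5 : ((charDegree (θ : N → ℂ) ^ 2 * Nat.card K : ℕ) : ℝ) ≤ (Nat.card N : ℝ) := by
    push_cast
    linarith
  exact_mod_cast h5

variable {G : Type u} [Group G] [Fintype G]

local notation "C[" Q "]" => Subgroup.centralizer (Q : Set G)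

/-- A weight: the normal `p`-subgroups of the stabilizer are inside `Q`. -/
theorem weight_core {Q T R : Subgroup G} (hQ : IsPGroup p Q) (hQT : Q ≤ T)
    (hTN : T ≤ Subgroup.normalizer (Q : Set G)) (hRT : R ≤ T) (hR : IsPGroup p R)
    (hTR : T ≤ Subgroup.normalizer (R : Set G)) (χ : IrrCharacter T)
    (hker : ∀ k ∈ Q.subgroupOf T, (χ : T → ℂ) k = (χ : T → ℂ) 1)
    (hdeg : (charDegree (χ : T → ℂ)).factorization p + (Nat.card Q).factorization p =
      (Nat.card T).factorization p) : R ≤ Q := by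
  haveI : (Q.subgroupOf T).Normal := Subgroup.normal_subgroupOf_of_le_normalizer hTN
  haveI : (R.subgroupOf T).Normal := Subgroup.normal_subgroupOf_of_le_normalizer hTR
  set N := Q.subgroupOf T ⊔ R.subgroupOf T with hN
  have hNp : IsPGroup p N :=
    (isPGroup_subgroupOf hQ T).to_sup_of_normal_left (isPGroup_subgroupOf hR T)
  obtain ⟨θ, hθ⟩ := exists_constituent_irr (N := N) χ
  have hb := constituent_degree_bound hθ hdeg
  have hQN : Q.subgroupOf T ≤ N := le_sup_left
  have hs := sq_degree_mul_card_le θ ((Q.subgroupOf T).subgroupOf N)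
    fun k hk => constituent_kernel hθ hQN hker k hk
  rw [card_subgroupOf hQN, card_subgroupOf hQT] at hs
  obtain ⟨a, ha⟩ := IsPGroup.iff_card.mp hNp
  obtain ⟨b, hb'⟩ := IsPGroup.iff_card.mp hQ
  have hp : p.Prime := Fact.out
  rw [ha, hb', Nat.Prime.factorization_pow hp, Nat.Prime.factorization_pow hp,
    Finsupp.single_eq_same, Finsupp.single_eq_same] at hb
  rw [ha, hb'] at hs
  set v := (charDegree (θ : N → ℂ)).factorization p
  have h1 : p ^ v ≤ charDegree (θ : N → ℂ) := Nat.ordProj_le p (charDegree_pos θ).ne'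
  have h2 : p ^ (v * 2 + b) ≤ p ^ a := by
    rw [pow_add, pow_mul]
    exact (Nat.mul_le_mul_right _ (Nat.pow_le_pow_left h1 2)).trans hs
  have h3 := (Nat.pow_le_pow_iff_right hp.one_lt).mp h2
  have hcard : Nat.card N ≤ Nat.card (Q.subgroupOf T) := by
    rw [ha, card_subgroupOf hQT, hb']
    exact Nat.pow_le_pow_right hp.pos (by omega)
  have heq := Subgroup.eq_of_le_of_card_ge hQN hcard
  intro r hr
  have : (⟨r, hRT hr⟩ : T) ∈ Q.subgroupOf T := by
    rw [heq]
    exact (le_sup_right : R.subgroupOf T ≤ N) hr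
  exact this

/-- A weight: `Z(Q)` is a defect group of the block of `C(Q)`. -/
theorem weight_defect (hM : IsPModular p M) {Q T : Subgroup G} (hQ : IsPGroup p Q) (hQT : Q ≤ T)
    (hCT : C[Q] ≤ T) (hTN : T ≤ Subgroup.normalizer (Q : Set G))
    {e : Set (IrrCharacter C[Q])} (he : IsPBlock M e)
    {F' : Set (IrrCharacter T)} (hval : ∀ t : T, blockCoeff F' t = bp ⟨Q, e⟩ (t : G))
    {χ : IrrCharacter T} (hχ : χ ∈ F')
    (hker : ∀ k ∈ Q.subgroupOf T, (χ : T → ℂ) k = (χ : T → ℂ) 1)
    (hdeg : (charDegree (χ : T → ℂ)).factorization p + (Nat.card Q).factorization p =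
      (Nat.card T).factorization p) :
    IsDefectGroup p M e ((Q ⊓ C[Q]).subgroupOf C[Q]) := by
  have := isPrime hM
  haveI hQn : (Q.subgroupOf T).Normal := Subgroup.normal_subgroupOf_of_le_normalizer hTN
  haveI : ((C[Q]).subgroupOf T).Normal := Subgroup.normal_subgroupOf_of_le_normalizer
    (hTN.trans (normalizer_le_normalizer_centralizer Q))
  set N := Q.subgroupOf T ⊔ C[Q].subgroupOf T with hN
  obtain ⟨θ', hθ'⟩ := exists_constituent_irr (N := N) χ
  have hb := constituent_degree_bound hθ' hdeg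
  have hQN : Q.subgroupOf T ≤ N := le_sup_left
  set K := (Q.subgroupOf T).subgroupOf N with hK
  have hkerθ : ∀ k ∈ K, (θ' : N → ℂ) k = (θ' : N → ℂ) 1 :=
    fun k hk => constituent_kernel hθ' hQN hker k hk
  obtain ⟨ψ, hψ⟩ := exists_inflate_eq K θ' hkerθ
  -- the homomorphism from the centralizer onto `N / Q`
  let ι : C[Q] →* N :=
    { toFun := fun c => ⟨⟨c, hCT c.2⟩,
        (le_sup_right : C[Q].subgroupOf T ≤ N) (show (⟨(c : G), hCT c.2⟩ : T) ∈ _ from c.2)⟩
      map_one' := rfl
      map_mul' := fun _ _ => rfl }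
  have hsurj : Function.Surjective ((QuotientGroup.mk' K).comp ι) := by
    intro q
    obtain ⟨⟨n, hn⟩, rfl⟩ := QuotientGroup.mk'_surjective K q
    have hn' : n ∈ ((Q.subgroupOf T ⊔ C[Q].subgroupOf T : Subgroup T) : Set T) := hn
    rw [Subgroup.normal_mul] at hn'
    obtain ⟨q', hq', c', hc', hqc⟩ := hn'
    have hqc' : q' * c' = n := hqc
    refine ⟨⟨(c' : G), hc'⟩, QuotientGroup.eq.mpr ?_⟩
    show ((c' : T))⁻¹ * n ∈ Q.subgroupOf T
    rw [← hqc', show (c' : T)⁻¹ * (q' * c') = (c' : T)⁻¹ * q' * (c'⁻¹)⁻¹ by group]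
    exact hQn.conj_mem _ hq' _
  set θ : IrrCharacter C[Q] := ⟨_, CharCore.isIrrCharacter_comp_surjective ψ.2 _ hsurj⟩ with hθ
  have hθapp : ∀ c, (θ : C[Q] → ℂ) c = (θ' : N → ℂ) (ι c) := fun c => by
    rw [← hψ]; rfl
  set Z := (Q ⊓ C[Q]).subgroupOf C[Q] with hZ
  have hkerι : ((QuotientGroup.mk' K).comp ι).ker = Z := by
    ext c
    rw [MonoidHom.mem_ker, MonoidHom.comp_apply, QuotientGroup.mk'_apply, QuotientGroup.eq_one_iff]
    exact ⟨fun h => ⟨h, c.2⟩, fun h => h.1⟩
  have hidx : Z.index = K.index := by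
    rw [← hkerι, Subgroup.index_ker, MonoidHom.range_eq_top.mpr hsurj,
      Nat.card_congr Subgroup.topEquiv.toEquiv]
    rfl
  have hNcard : (Nat.card N).factorization p =
      (Nat.card Q).factorization p + Z.index.factorization p := by
    rw [hidx, ← K.card_mul_index, Nat.factorization_mul Nat.card_pos.ne'
      Subgroup.FiniteIndex.index_ne_zero, Finsupp.add_apply, card_subgroupOf hQN,
      card_subgroupOf hQT]
  have hdθ : charDegree (θ : C[Q] → ℂ) = charDegree (θ' : N → ℂ) := by
    have h1 := hθapp 1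
    rw [map_one, irr_one_eq, irr_one_eq] at h1
    exact_mod_cast h1
  have hZc : Z ≤ Subgroup.center C[Q] := fun z hz => Subgroup.mem_center_iff.mpr fun c =>
    Subtype.ext (Subgroup.mem_centralizer_iff.mp c.2 (z : G) hz.1).symm
  haveI := normal_of_le_center hZc
  obtain ⟨d, hd, hdvd⟩ := Blocks88.charDegree_dvd_index θ Z fun a ha b _ =>
    (Subgroup.mem_center_iff.mp (hZc ha) b).symm
  have hd' : d = charDegree (θ : C[Q] → ℂ) := by
    rw [irr_one_eq] at hd
    exact_mod_cast hd.symm
  have hle : (charDegree (θ : C[Q] → ℂ)).factorization p ≤ Z.index.factorization p :=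
    (Nat.factorization_le_iff_dvd (charDegree_pos θ).ne'
      Subgroup.FiniteIndex.index_ne_zero).mpr (hd' ▸ hdvd) p
  rw [hNcard, ← hdθ] at hb
  have hmain := (laradji hZc hM (isPGroup_subgroupOf (hQ.to_le inf_le_left) _) θ (by omega)).1
  -- the block of `θ`
  have hsupp : ∀ t : T, t ∉ N → blockCoeff F' t = 0 := fun t ht => by
    rw [hval]
    exact bp_of_notMem Q e fun h => ht ((le_sup_right : C[Q].subgroupOf T ≤ N) h)
  have hcl : IsClassFunction T (blockCoeff F') := isClassFunction_blockCoeff F'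
  have h1 := omega_eq_of_constituent hθ' hcl hsupp
  rw [omega_blockCoeff, Set.indicator_of_mem hχ, Pi.one_apply] at h1
  have h2 : omega (θ' : N → ℂ) (res N (blockCoeff F')) =
      omega (θ : C[Q] → ℂ) (blockCoeff e) := by
    have : Fintype N := Fintype.ofFinite N
    rw [omega_eq_sum, omega_eq_sum, hθapp 1, map_one]
    congr 1
    refine (Fintype.sum_of_injective ι (fun a b h => Subtype.ext
      (congrArg (fun n : N => ((n : T) : G)) h)) _ _ (fun n hn => ?_) fun c => ?_).symm
    · rw [res, hval, bp_of_notMem Q e fun h => hn ⟨⟨_, h⟩, rfl⟩, zero_mul]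
    · rw [res, hval, hθapp]
      exact congrArg (· * _) (bp_apply_coe Q e c).symm
  rw [h2, omega_blockCoeff] at h1
  have hθe : θ ∈ e := by
    by_contra h
    rw [Set.indicator_of_notMem h] at h1
    exact one_ne_zero h1
  rwa [isPBlock_eq_of_mem (isPBlock_blockOf (M := M) θ) he (mem_blockOf_self θ) hθe] at hmain

end Cfsg.Agent.BC85
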